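import Cfsg.Agent.H843.IMC.Co1D
import Cfsg.Agent.H843.IMC.Co2B
import Cfsg.Agent.H843.IMC.Frame3_m3
import Cfsg.Agent.Prune
set_option linter.all false
prune_inst 0x7f00000000000000000000000000000000000000000000000000000000000000000000000000000000000000000000000000000000000000000000000000000000000000000000000000000000000000003fffffffffffffffffffffffffffbeffbdffffffff
open scoped Cfsg.Agent.FastGrp

/-!
# The Itô-Michler rows of `Co1` and `Co2` (helper843)
-/

set_option autoImplicit false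

namespace Cfsg.Agent.H843.IMC.Rows

open Cfsg Cfsg.Agent.H33 Cfsg.Agent.H672.SporIM

universe u

theorem two' {p q : ℕ} (hp : p.Prime) (hq : q.Prime) {k : ℕ} (h : p ∣ q ^ k) : p = q :=
  (Nat.prime_dvd_prime_iff_eq hp hq).1 (hp.dvd_of_dvd_pow h)

theorem im_co1 {S : Type u} [Group S] (h : Cfsg.Spor.IsoCo1 S) {p : ℕ} [hp : Fact p.Prime]
    (hd : p ∣ Nat.card S) : IM p S := by
  obtain ⟨e⟩ := h
  refine IM.of_equiv e ?_
  have hcard : Nat.card Spor.Co1 = 4157776806543360000 := Cfsg.Agent.S0399.result.2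
  rw [Nat.card_congr e.toEquiv, hcard] at hd
  have hpr := hp.out
  have h5 : p ∣ 2 ^ 21 * 3 ^ 9 * 5 ^ 4 * 7 ^ 2 * 11 ^ 1 * 13 ^ 1 * 23 ^ 1 := by
    norm_num
    exact hd
  have key : p = 2 ∨ p = 3 ∨ p = 5 ∨ p = 7 ∨ p = 11 ∨ p = 13 ∨ p = 23 := by
    rcases hpr.dvd_mul.1 h5 with h5 | h5
    · rcases hpr.dvd_mul.1 h5 with h5 | h5
      · rcases hpr.dvd_mul.1 h5 with h5 | h5
        · rcases hpr.dvd_mul.1 h5 with h5 | h5
          · rcases hpr.dvd_mul.1 h5 with h5 | h5
            · rcases hpr.dvd_mul.1 h5 with h5 | h5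
              · exact Or.inl (two' hpr (by norm_num) h5)
              · exact Or.inr (Or.inl (two' hpr (by norm_num) h5))
            · exact Or.inr (Or.inr (Or.inl (two' hpr (by norm_num) h5)))
          · exact Or.inr (Or.inr (Or.inr (Or.inl (two' hpr (by norm_num) h5))))
        · exact Or.inr (Or.inr (Or.inr (Or.inr (Or.inl (two' hpr (by norm_num) h5)))))
      · exact Or.inr (Or.inr (Or.inr (Or.inr (Or.inr (Or.inl (two' hpr (by norm_num) h5))))))
    · exact Or.inr (Or.inr (Or.inr (Or.inr (Or.inr (Or.inr (two' hpr (by norm_num) h5))))))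
  rcases key with rfl | rfl | rfl | rfl | rfl | rfl | rfl
  · exact Co1B.hasDeg_276.im (by norm_num)
  · exact Co1B.hasDeg_276.im (by norm_num)
  · exact Co1D.hasDeg.1.im (by norm_num)
  · exact LamCo1.im7
  · exact LamCo1.im11
  · exact Co1B.hasDeg_299.im (by norm_num)
  · exact LamCo1.im23

theorem im_co2 {S : Type u} [Group S] (h : Cfsg.Spor.IsoCo2 S) {p : ℕ} [hp : Fact p.Prime]
    (hd : p ∣ Nat.card S) : IM p S := by
  obtain ⟨e⟩ := h
  refine IM.of_equiv e ?_
  rw [Nat.card_congr e.toEquiv, Co2A.card_co2] at hd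
  have hpr := hp.out
  have h5 : p ∣ 2 ^ 18 * 3 ^ 6 * 5 ^ 3 * 7 ^ 1 * 11 ^ 1 * 23 ^ 1 := by
    norm_num
    exact hd
  have key : p = 2 ∨ p = 3 ∨ p = 5 ∨ p = 7 ∨ p = 11 ∨ p = 23 := by
    rcases hpr.dvd_mul.1 h5 with h5 | h5
    · rcases hpr.dvd_mul.1 h5 with h5 | h5
      · rcases hpr.dvd_mul.1 h5 with h5 | h5
        · rcases hpr.dvd_mul.1 h5 with h5 | h5
          · rcases hpr.dvd_mul.1 h5 with h5 | h5
            · exact Or.inl (two' hpr (by norm_num) h5)
            · exact Or.inr (Or.inl (two' hpr (by norm_num) h5))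
          · exact Or.inr (Or.inr (Or.inl (two' hpr (by norm_num) h5)))
        · exact Or.inr (Or.inr (Or.inr (Or.inl (two' hpr (by norm_num) h5))))
      · exact Or.inr (Or.inr (Or.inr (Or.inr (Or.inl (two' hpr (by norm_num) h5)))))
    · exact Or.inr (Or.inr (Or.inr (Or.inr (Or.inr (two' hpr (by norm_num) h5)))))
  rcases key with rfl | rfl | rfl | rfl | rfl | rfl
  · exact Co2A.hasDeg_2024_275.1.im (by norm_num)
  · exact Co2B.hasDeg_2277.im (by norm_num)
  · exact Co2A.hasDeg_2024_275.2.im (by norm_num)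
  · exact LamCo2.im7
  · exact Co2A.hasDeg_2024_275.2.im (by norm_num)
  · exact Co2A.hasDeg_23.im (by norm_num)

end Cfsg.Agent.H843.IMC.Rows
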