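import Cfsg.Agent.H843.IMC.Co3Dat
import Cfsg.Agent.H843.IMC.Co3A
import Cfsg.Agent.H573.Spor.CoThree
import Cfsg.Agent.H870.IMLocal
import Cfsg.Agent.FastGrp
import Cfsg.Agent.Prune
set_option linter.all false
prune_inst 0x7f00000000000000000000000000000000000000000000000000000000000000000000000000000000000000000000000000000000000000000000000000000000000000000000000000000000000000003fffffffffffffffffffffffffffbeffbdffffffff
open scoped Cfsg.Agent.FastGrp

/-!
# `Co3`, `p = 3`: the centralizer `3 × L₂(8):3` of an element of order 3 (helper843)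
-/

set_option autoImplicit false

namespace Cfsg.Agent.H843.IMC.Co3B

open Cfsg Cfsg.Agent.SporadicA Cfsg.Agent.SporadicStructure.Co0Matrix Cfsg.Agent.CoOneType.CoEval
open Cfsg.Agent.SporadicA.Co0Mono Cfsg.Agent.SporadicA.Co1Simple
open Cfsg.Agent.LThreeCo1T8 Cfsg.Agent.LThreeCo1T8.Mono Cfsg.Agent.LThreeCo1T8.Fixed
open Cfsg.Agent.LThreeCo1T8.Mat Cfsg.Agent.LThreeCo1T8.Main
open Cfsg.Agent.H843.IMC.Co3D Cfsg.Agent.H33 Cfsg.Agent.H672.SporIM
open Cfsg.Agent.CoOneType.CoOneE (pr_surjective)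
open scoped Pointwise

local notation "prE" => Cfsg.Agent.CoOneType.CoOneE.pr

theorem rng {n : ℕ} {f : ℕ → Bool} (h : (List.range n).all f = true) {i : ℕ} (hi : i < n) : f i = true :=
  List.all_eq_true.1 h i (List.mem_range.2 hi)

/-! ### The vectors -/

theorem memL {i : ℕ} (hi : i < 240) : vec (L i) ∈ leechLattice := vec_mem_of_leechB (rng chk_leech hi)

/-- The vectors. -/
noncomputable def vv (i : ℕ) : leechLattice := if hi : i < 240 then ⟨vec (L i), memL hi⟩ else 0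

theorem vv_coe {i : ℕ} (hi : i < 240) : ((vv i : leechLattice) : GolayPt → ℤ) = vec (L i) := by
  rw [vv, dif_pos hi]

theorem smul_of_ap {g : Co0} {R : List (List ℤ)} (hR : Rep g R) {i j : ℕ} (hi : i < 240) (hj : j < 240)
    (h : eqL (Cfsg.Agent.CoOneType.CoEval.ap R (L i)) (L j) = true) : g • vv i = vv j := by
  apply Subtype.ext
  have h1 := hR.apply (v := vv i) (l := L i) (length_L i).le (vv_coe hi)
  rw [eqL_eq h, ← vv_coe hj] at h1
  exact h1

theorem pS_lt {i : ℕ} (hi : i < 240) : pS.getD i 0 < 240 := by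
  have h := rng chkS hi
  rw [Bool.and_eq_true, Nat.blt_eq] at h
  exact h.2

theorem pG_lt {i : ℕ} (hi : i < 240) : pG.getD i 0 < 240 := by
  have h := rng chkG hi
  rw [Bool.and_eq_true, Nat.blt_eq] at h
  exact h.2

theorem pN_lt {i : ℕ} (hi : i < 240) : pN.getD i 0 < 240 := by
  have h := rng chkN hi
  rw [Bool.and_eq_true, Nat.blt_eq] at h
  exact h.2

theorem smul_S {i : ℕ} (hi : i < 240) : e 0 • vv i = vv (pS.getD i 0) := by
  have h := rng chkS hi
  rw [Bool.and_eq_true] at h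
  exact smul_of_ap (rep 0) hi (pS_lt hi) h.1

theorem smul_G {i : ℕ} (hi : i < 240) : e 1 • vv i = vv (pG.getD i 0) := by
  have h := rng chkG hi
  rw [Bool.and_eq_true] at h
  exact smul_of_ap (rep 1) hi (pG_lt hi) h.1

theorem smul_X {i : ℕ} (hi : i < 240) : x8 • vv i = vv i := by
  rw [← x_eq]
  exact smul_of_ap (rep_mk okX) hi hi (rng chkX hi)

theorem neg_vv {i : ℕ} (hi : i < 240) : -vv i = vv (pN.getD i 0) := by
  have h := rng chkN hi
  rw [Bool.and_eq_true] at h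
  apply Subtype.ext
  have h1 : ((-vv i : leechLattice) : GolayPt → ℤ) = -((vv i : leechLattice) : GolayPt → ℤ) := rfl
  rw [h1, vv_coe hi, vv_coe (pN_lt hi), ← eqL_eq h.1, vec_negL]

theorem smul_N {i : ℕ} (hi : i < 240) : signCo0 allOne • vv i = vv (pN.getD i 0) := by
  rw [← neg_vv hi]
  exact Cfsg.Agent.SporadicA.Co1Simple.allOne_smul (vv i)

theorem vv_inj {i j : ℕ} (hi : i < 240) (hj : j < 240) (h : vv i = vv j) : i = j := by
  have h1 : vec (L i) = vec (L j) := by rw [← vv_coe hi, ← vv_coe hj, h]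
  have h2 := vec_injective (length_L i) (length_L j) h1
  have h3 := Nat.eq_of_beq_eq_true (rng chkE hi)
  have h4 := Nat.eq_of_beq_eq_true (rng chkE hj)
  rw [h2, h4] at h3
  have hi' : i < Ls.length := by rw [length_Ls]; exact hi
  have hj' : j < Ls.length := by rw [length_Ls]; exact hj
  rw [List.getD_eq_getElem _ _ hi', List.getD_eq_getElem _ _ hj'] at h3
  exact ((nodup_Ls.getElem_inj_iff).1 h3).symm

/-- The set of the vectors. -/
def VV : Set leechLattice := {v | ∃ i < 240, v = vv i}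

theorem VV_eq : VV = (Finset.range 240).image vv := by
  classical
  ext v
  rw [Finset.coe_image, Set.mem_image]
  constructor
  · rintro ⟨i, hi, rfl⟩
    exact ⟨i, Finset.mem_coe.2 (Finset.mem_range.2 hi), rfl⟩
  · rintro ⟨i, hi, rfl⟩
    exact ⟨i, Finset.mem_range.1 (Finset.mem_coe.1 hi), rfl⟩

theorem VV_finite : VV.Finite := by
  classical
  rw [VV_eq]
  exact Finset.finite_toSet _

theorem ncard_VV : VV.ncard = 240 := by
  classical
  rw [VV_eq, Set.ncard_coe_finset, Finset.card_image_of_injOn, Finset.card_range]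
  intro i hi j hj h
  exact vv_inj (Finset.mem_range.1 (Finset.mem_coe.1 hi)) (Finset.mem_range.1 (Finset.mem_coe.1 hj)) h

/-! ### The centralizer is generated by `s`, `g`, `x8`, `-1` -/

theorem e_mem (i : ℕ) (hi : Cfsg.Agent.CoOneType.CoEval.pr (e i) * xx = xx * Cfsg.Agent.CoOneType.CoEval.pr (e i)) :
    e i ∈ C := by
  rw [← comap_eq, Subgroup.mem_comap, Subgroup.mem_centralizer_singleton_iff]
  exact hi

theorem e0_mem : e 0 ∈ C := e_mem 0 s_x

theorem e1_mem : e 1 ∈ C := e_mem 1 g_x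

/-- The generated group. -/
def DD : Subgroup Co0 := Subgroup.closure {e 0, e 1, x8, signCo0 allOne}

theorem e0_D : e 0 ∈ DD := Subgroup.subset_closure (by simp)

theorem e1_D : e 1 ∈ DD := Subgroup.subset_closure (by simp)

theorem x8_D : x8 ∈ DD := Subgroup.subset_closure (by simp)

theorem N_D : signCo0 allOne ∈ DD := Subgroup.subset_closure (by simp)

theorem C_le : C ≤ DD := by
  have h1 : Subgroup.centralizer {xx} ≤ DD.map prE := by
    rw [← sup_eq]
    refine sup_le ?_ ((Subgroup.zpowers_le).2 ⟨x8, x8_D, rfl⟩)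
    rw [AA, Cfsg.Agent.Lib.AltCarmichael.gen_def, Subgroup.closure_le]
    rintro _ ⟨i, -, rfl⟩
    refine ⟨e 1 ^ i * e 0 * (e 1 ^ i)⁻¹, DD.mul_mem (DD.mul_mem (DD.pow_mem e1_D i) e0_D)
      (DD.inv_mem (DD.pow_mem e1_D i)), ?_⟩
    rw [map_mul, map_mul, map_inv, map_pow]
    rfl
  intro g hg
  rw [← comap_eq, Subgroup.mem_comap] at hg
  obtain ⟨d, hd, hdg⟩ := h1 hg
  rcases (Cfsg.Agent.CoOneType.CoOneE.pr_eq_iff d g).1 hdg with h | h
  · rw [h]; exact hd
  · rw [h]; exact DD.mul_mem hd N_D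

theorem C_le_stab : C ≤ MulAction.stabilizer Co0 VV := by
  refine C_le.trans ?_
  rw [DD, Subgroup.closure_le]
  have key : ∀ g : Co0, (∀ i < 240, ∃ j < 240, g • vv i = vv j) → g ∈ MulAction.stabilizer Co0 VV := by
    intro g hg
    have h1 : g • VV ⊆ VV := by
      rintro _ ⟨_, ⟨i, hi, rfl⟩, rfl⟩
      obtain ⟨j, hj, h⟩ := hg i hi
      exact ⟨j, hj, h⟩
    rw [MulAction.mem_stabilizer_iff]
    apply Set.eq_of_subset_of_ncard_le h1 _ VV_finite
    rw [Set.ncard_smul_set]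
  rintro g (rfl | rfl | rfl | rfl)
  · exact key _ fun i hi => ⟨_, pS_lt hi, smul_S hi⟩
  · exact key _ fun i hi => ⟨_, pG_lt hi, smul_G hi⟩
  · exact key _ fun i hi => ⟨i, hi, smul_X hi⟩
  · exact key _ fun i hi => ⟨_, pN_lt hi, smul_N hi⟩

theorem smul_vv {g : Co0} (hg : g ∈ C) {i : ℕ} (hi : i < 240) : ∃ j < 240, g • vv i = vv j := by
  have h := MulAction.mem_stabilizer_set.1 (C_le_stab hg) (vv i)
  exact h.2 ⟨i, hi, rfl⟩

/-! ### The orbit -/

theorem exists_orbit : ∀ i < 240, ∃ g ∈ C, g • vv 0 = vv i := by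
  intro i
  induction i using Nat.strong_induction_on with
  | _ i ih =>
    intro hi
    have h := rng chkT hi
    rw [Bool.or_eq_true, Bool.and_eq_true, Nat.blt_eq] at h
    rcases h with h | ⟨h1, h2⟩
    · rw [Nat.eq_of_beq_eq_true h]
      exact ⟨1, one_mem _, one_smul _ _⟩
    · obtain ⟨g, hg, hgi⟩ := ih _ h1 (h1.trans hi)
      split at h2
      · refine ⟨e 0 * g, C.mul_mem e0_mem hg, ?_⟩
        rw [mul_smul, hgi, smul_S (h1.trans hi), Nat.eq_of_beq_eq_true h2]
      · refine ⟨e 1 * g, C.mul_mem e1_mem hg, ?_⟩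
        rw [mul_smul, hgi, smul_G (h1.trans hi), Nat.eq_of_beq_eq_true h2]

theorem orbit_eq : MulAction.orbit ↥C (vv 0) = VV := by
  ext v
  constructor
  · rintro ⟨g, rfl⟩
    obtain ⟨j, hj, h⟩ := smul_vv g.2 (i := 0) (by norm_num)
    exact ⟨j, hj, h⟩
  · rintro ⟨i, hi, rfl⟩
    obtain ⟨g, hg, h⟩ := exists_orbit i hi
    exact ⟨⟨g, hg⟩, h⟩

theorem not_dvd_stab : ¬ 3 ^ 5 ∣ Nat.card ↥(MulAction.stabilizer ↥C (vv 0)) := by
  intro h
  have h1 := Subgroup.card_mul_index (MulAction.stabilizer ↥C (vv 0))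
  rw [MulAction.index_stabilizer, orbit_eq, ncard_VV] at h1
  apply Cfsg.Agent.H573.Spor.CoThree.not_dvd_C
  rw [← h1, show (3 : ℕ) ^ 6 = 3 ^ 5 * 3 by norm_num]
  exact Nat.mul_dvd_mul h (by norm_num)

/-! ### The stabilizer of `w` and the centralizer of `x` -/

/-- The stabilizer of a vector of norm 48. -/
abbrev Gw : Type := ↥(MulAction.stabilizer Co0 (vv 0))

/-- The element of order 3. -/
def x : Gw := ⟨x8, smul_X (by norm_num)⟩

theorem orderOf_x : orderOf x = 3 := by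
  have : Fact (Nat.Prime 3) := ⟨Nat.prime_three⟩
  refine orderOf_eq_prime (Subtype.ext x8_cube) fun h => ?_
  have h1 : x8 = 1 := congrArg Subtype.val h
  apply x_ne
  rw [xx, h1, map_one]

/-- The centralizer. -/
noncomputable abbrev KK : Subgroup Gw := Subgroup.centralizer ((Subgroup.zpowers x : Subgroup Gw) : Set Gw)

theorem KK_eq : KK = Subgroup.centralizer {x} := by
  rw [KK, Subgroup.zpowers_eq_closure, Subgroup.centralizer_closure]

theorem mem_KK {g : Gw} : g ∈ KK ↔ (g : Co0) ∈ C := by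
  rw [KK_eq, Subgroup.mem_centralizer_singleton_iff, mem_C]
  exact ⟨fun h => congrArg Subtype.val h, fun h => Subtype.ext h⟩

/-- The embedding. -/
noncomputable def toStab : ↥KK →* ↥(MulAction.stabilizer ↥C (vv 0)) where
  toFun k := ⟨⟨((k : Gw) : Co0), mem_KK.1 k.2⟩, (k : Gw).2⟩
  map_one' := rfl
  map_mul' _ _ := rfl

theorem toStab_injective : Function.Injective toStab := fun a b h => by
  apply Subtype.ext
  apply Subtype.ext
  exact congrArg (fun z : ↥(MulAction.stabilizer ↥C (vv 0)) => ((z : ↥C) : Co0)) h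

theorem not_dvd_KK : ¬ 3 ^ 5 ∣ Nat.card ↥KK := fun h =>
  not_dvd_stab (h.trans (Subgroup.card_dvd_of_injective toStab toStab_injective))

/-! ### The pairs -/

/-- The pairs. -/
def SS (q : ℕ) : Set leechLattice := {vv (pa.getD q 0), vv (pb.getD q 0)}

theorem vec_zip : ∀ {l l' : List ℤ}, l.length = l'.length → vec (List.zipWith (· + ·) l l') = vec l + vec l' := by
  intro l l' h
  funext p
  rw [Pi.add_apply, vec_apply, vec_apply, vec_apply]
  by_cases hp : GolayBase.idx p < l.length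
  · have hp' : GolayBase.idx p < l'.length := h ▸ hp
    rw [List.getD_eq_getElem _ _ hp, List.getD_eq_getElem _ _ hp', List.getD_eq_getElem _ _ (by simp [h, hp']),
      List.getElem_zipWith]
  · have h1 : l.length ≤ GolayBase.idx p := by omega
    have h2 : l'.length ≤ GolayBase.idx p := by omega
    rw [List.getD_eq_default _ _ h1, List.getD_eq_default _ _ h2, List.getD_eq_default _ _ (by simp [h1]), add_zero]

theorem pa_lt {q : ℕ} (hq : q < 28) : pa.getD q 0 < 240 := by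
  have h := rng chkP hq
  rw [Bool.and_eq_true, Bool.and_eq_true, Bool.and_eq_true, Nat.blt_eq, Nat.blt_eq] at h
  exact h.2.2.1

theorem pb_lt {q : ℕ} (hq : q < 28) : pb.getD q 0 < 240 := by
  have h := rng chkP hq
  rw [Bool.and_eq_true, Bool.and_eq_true, Bool.and_eq_true, Nat.blt_eq, Nat.blt_eq] at h
  exact h.2.2.2

theorem add_pair {q : ℕ} (hq : q < 28) : vv (pa.getD q 0) + vv (pb.getD q 0) = vv 0 := by
  have h := rng chkP hq
  rw [Bool.and_eq_true] at h
  apply Subtype.ext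
  show ((vv (pa.getD q 0) : leechLattice) : GolayPt → ℤ) + ((vv (pb.getD q 0) : leechLattice) : GolayPt → ℤ) = _
  rw [vv_coe (pa_lt hq), vv_coe (pb_lt hq), vv_coe (by norm_num), ← vec_zip (by rw [length_L, length_L]), eqL_eq h.1]

theorem dot_pa {q : ℕ} (hq : q < 28) : dotInt (vv (pa.getD q 0) : GolayPt → ℤ) (vv 0 : GolayPt → ℤ) = 24 := by
  have h := rng chkP hq
  rw [Bool.and_eq_true, Bool.and_eq_true, decide_eq_true_eq] at h
  rw [vv_coe (pa_lt hq), vv_coe (by norm_num), dotInt_vec _ _ (length_L _).le, h.2.1]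

theorem mem_pair {j : ℕ} (hj : j < 240) (h : dotInt (vv j : GolayPt → ℤ) (vv 0 : GolayPt → ℤ) = 24) :
    ∃ q < 28, j = pa.getD q 0 ∨ j = pb.getD q 0 := by
  have h1 := rng chkD hj
  rw [vv_coe hj, vv_coe (by norm_num), dotInt_vec _ _ (length_L _).le] at h
  rw [Bool.or_eq_true, h] at h1
  rcases h1 with h1 | h1
  · exact absurd h1 (by decide)
  · rw [List.any_eq_true] at h1
    obtain ⟨q, hq, h2⟩ := h1
    rw [Bool.or_eq_true] at h2
    refine ⟨q, List.mem_range.1 hq, ?_⟩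
    rcases h2 with h2 | h2
    · exact Or.inl (Nat.eq_of_beq_eq_true h2)
    · exact Or.inr (Nat.eq_of_beq_eq_true h2)

theorem smul_SS_eq (g : Co0) (q : ℕ) : g • SS q = {g • vv (pa.getD q 0), g • vv (pb.getD q 0)} := by
  rw [SS, Set.smul_set_insert, Set.smul_set_singleton]

theorem exists_smul_SS {g : Co0} (hg : g ∈ C) (hw : g • vv 0 = vv 0) {q : ℕ} (hq : q < 28) :
    ∃ r < 28, g • SS q = SS r := by
  obtain ⟨j, hj, h⟩ := smul_vv hg (pa_lt hq)
  have h1 : dotInt (vv j : GolayPt → ℤ) (vv 0 : GolayPt → ℤ) = 24 := by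
    rw [← h, ← dot_pa hq]
    conv_lhs => rw [← hw]
    exact Cfsg.Agent.SporadicStructure.Co0Base.co0_dotInt g _ _
  obtain ⟨r, hr, hjr⟩ := mem_pair hj h1
  refine ⟨r, hr, ?_⟩
  have h2 : g • vv (pb.getD q 0) = vv 0 - vv j := by
    have h3 : vv (pb.getD q 0) = vv 0 - vv (pa.getD q 0) := by rw [← add_pair hq]; abel
    rw [h3, smul_sub, hw, h]
  rw [smul_SS_eq, h, h2, SS]
  rcases hjr with rfl | rfl
  · have h4 : vv 0 - vv (pa.getD r 0) = vv (pb.getD r 0) := by rw [← add_pair hr]; abel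
    rw [h4]
  · have h4 : vv 0 - vv (pb.getD r 0) = vv (pa.getD r 0) := by rw [← add_pair hr]; abel
    rw [h4, Set.pair_comm]

theorem SS_inj {q r : ℕ} (hq : q < 28) (hr : r < 28) (h : SS q = SS r) : q = r := by
  have h1 : vv (pa.getD q 0) ∈ SS r := by rw [← h]; exact Or.inl rfl
  have h2 := rng (rng chkI hq) hr
  rw [Bool.or_eq_true, Bool.and_eq_true, Bool.not_eq_true', Bool.not_eq_true'] at h2
  rcases h2 with h2 | ⟨h2, h3⟩
  · exact Nat.eq_of_beq_eq_true h2
  · exfalso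
    rcases h1 with h1 | h1
    · have h4 := vv_inj (pa_lt hq) (pa_lt hr) h1
      rw [h4, Nat.beq_refl] at h2
      exact absurd h2 (by decide)
    · have h4 := vv_inj (pa_lt hq) (pb_lt hr) h1
      rw [h4, Nat.beq_refl] at h3
      exact absurd h3 (by decide)

/-- The 28 points. -/
abbrev P : Type := {S : Set leechLattice // ∃ q < 28, S = SS q}

noncomputable instance actP : MulAction ↥KK P where
  smul k S := ⟨((k : Gw) : Co0) • S.1, by
    obtain ⟨q, hq, h⟩ := S.2
    rw [h]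
    exact exists_smul_SS (mem_KK.1 k.2) (k : Gw).2 hq⟩
  one_smul S := Subtype.ext (one_smul _ S.1)
  mul_smul g h S := Subtype.ext (mul_smul _ _ S.1)

theorem smul_P_coe (k : ↥KK) (S : P) : ((k • S : P) : Set leechLattice) = ((k : Gw) : Co0) • S.1 := rfl

/-- The points. -/
noncomputable def pt (q : Fin 28) : P := ⟨SS q, q, q.2, rfl⟩

theorem pt_bijective : Function.Bijective pt := by
  constructor
  · intro q r h
    exact Fin.ext (SS_inj q.2 r.2 (congrArg Subtype.val h))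
  · rintro ⟨S, q, hq, rfl⟩
    exact ⟨⟨q, hq⟩, rfl⟩

theorem card_P : Nat.card P = 28 := by
  rw [← Nat.card_congr (Equiv.ofBijective pt pt_bijective), Nat.card_eq_fintype_card, Fintype.card_fin]

instance finP : Finite P := Finite.of_surjective pt pt_bijective.2

/-! ### Words -/

/-- The element of a word. -/
def el (W : List ℕ) : Co0 := W.foldr (fun c g => (if c = 0 then e 0 else e 1) * g) 1

theorem el_mem : ∀ W : List ℕ, el W ∈ C
  | [] => one_mem _
  | c :: W => by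
    refine C.mul_mem ?_ (el_mem W)
    split
    · exact e0_mem
    · exact e1_mem

theorem el_smul {i : ℕ} (hi : i < 240) : ∀ W : List ℕ, rn W i < 240 ∧ el W • vv i = vv (rn W i)
  | [] => ⟨hi, one_smul _ _⟩
  | c :: W => by
    obtain ⟨h1, h2⟩ := el_smul hi W
    have h3 : el (c :: W) • vv i = (if c = 0 then e 0 else e 1) • vv (rn W i) := by
      rw [← h2, ← mul_smul]
      rfl
    have h4 : rn (c :: W) i = if c = 0 then pS.getD (rn W i) 0 else pG.getD (rn W i) 0 := rfl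
    rw [h3, h4]
    split
    · exact ⟨pS_lt h1, smul_S h1⟩
    · exact ⟨pG_lt h1, smul_G h1⟩

/-- The element of the centralizer of a word fixing `w`. -/
noncomputable def kW (W : List ℕ) (h : rn W 0 = 0) : ↥KK :=
  ⟨⟨el W, by
    have h1 := (el_smul (i := 0) (by norm_num) W).2
    rw [h] at h1
    exact h1⟩, mem_KK.2 (el_mem W)⟩

theorem kW_pt {W Q : List ℕ} (h : rn W 0 = 0) (hck : ckW W Q = true) (q : Fin 28) :
    ∃ hr : Q.getD q 0 < 28, kW W h • pt q = pt ⟨Q.getD q 0, hr⟩ := by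
  have h1 := rng hck q.2
  rw [Bool.and_eq_true, Bool.or_eq_true, Bool.and_eq_true, Bool.and_eq_true, Nat.blt_eq] at h1
  obtain ⟨h2, h3⟩ := h1
  refine ⟨h2, ?_⟩
  apply Subtype.ext
  show el W • SS q = SS (Q.getD q 0)
  rw [smul_SS_eq, (el_smul (pa_lt q.2) W).2, (el_smul (pb_lt q.2) W).2, SS]
  rcases h3 with ⟨h3, h4⟩ | ⟨h3, h4⟩
  · rw [Nat.eq_of_beq_eq_true h3, Nat.eq_of_beq_eq_true h4]
  · rw [Nat.eq_of_beq_eq_true h3, Nat.eq_of_beq_eq_true h4, Set.pair_comm]

/-- The generators. -/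
noncomputable def kg (c : ℕ) : ↥KK := if c = 0 then kW wA rn_wA else kW wB rn_wB

/-- Words in the generators. -/
noncomputable def kq (W : List ℕ) : ↥KK := W.foldr (fun c g => kg c * g) 1

theorem kq_smul (q : Fin 28) : ∀ W : List ℕ, ∃ hr : rq W q < 28, kq W • pt q = pt ⟨rq W q, hr⟩
  | [] => ⟨q.2, one_smul _ _⟩
  | c :: W => by
    obtain ⟨h1, h2⟩ := kq_smul q W
    have h3 : kq (c :: W) • pt q = kg c • pt ⟨rq W q, h1⟩ := by
      rw [← h2, ← mul_smul]
      rfl
    by_cases hc : c = 0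
    · have h4 : rq (c :: W) q = qA.getD (rq W q) 0 := if_pos hc
      have h5 : kg c = kW wA rn_wA := if_pos hc
      obtain ⟨h6, h7⟩ := kW_pt rn_wA chkWA ⟨rq W q, h1⟩
      exact ⟨by rw [h4]; exact h6, by rw [h3, h5, h7]; exact congrArg pt (Fin.ext h4.symm)⟩
    · have h4 : rq (c :: W) q = qB.getD (rq W q) 0 := if_neg hc
      have h5 : kg c = kW wB rn_wB := if_neg hc
      obtain ⟨h6, h7⟩ := kW_pt rn_wB chkWB ⟨rq W q, h1⟩
      exact ⟨by rw [h4]; exact h6, by rw [h3, h5, h7]; exact congrArg pt (Fin.ext h4.symm)⟩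

theorem reach (i j : Fin 28) (hij : i ≠ j) : ∃ k : ↥KK, k • pt i = pt 0 ∧ k • pt j = pt 1 := by
  have h := rng chkUV i.2
  rw [Bool.and_eq_true] at h
  obtain ⟨h1, h2⟩ := h
  have h3 := rng h2 j.2
  rw [Bool.or_eq_true, Bool.and_eq_true] at h3
  rcases h3 with h3 | ⟨h3, h4⟩
  · exact absurd (Fin.ext (Nat.eq_of_beq_eq_true h3)) hij
  · have e1 := Nat.eq_of_beq_eq_true h1
    have e3 := Nat.eq_of_beq_eq_true h3
    have e4 := Nat.eq_of_beq_eq_true h4
    obtain ⟨a1, a2⟩ := kq_smul i (tU.getD i [])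
    obtain ⟨b1, b2⟩ := kq_smul j (tU.getD i [])
    obtain ⟨c1, c2⟩ := kq_smul ⟨rq (tU.getD i []) j, b1⟩ (tV.getD (rq (tU.getD i []) j) [])
    obtain ⟨d1, d2⟩ := kq_smul 0 (tV.getD (rq (tU.getD i []) j) [])
    refine ⟨kq (tV.getD (rq (tU.getD i []) j) []) * kq (tU.getD i []), ?_, ?_⟩
    · rw [mul_smul, a2]
      have h5 : (⟨rq (tU.getD i []) i, a1⟩ : Fin 28) = 0 := Fin.ext e1
      rw [h5, d2]
      exact congrArg pt (Fin.ext e4)
    · rw [mul_smul, b2, c2]
      exact congrArg pt (Fin.ext e3)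

theorem two_trans : MulAction.IsMultiplyPretransitive ↥KK P 2 := by
  rw [MulAction.is_two_pretransitive_iff]
  intro a b c d hab hcd
  obtain ⟨a, rfl⟩ := pt_bijective.2 a
  obtain ⟨b, rfl⟩ := pt_bijective.2 b
  obtain ⟨c, rfl⟩ := pt_bijective.2 c
  obtain ⟨d, rfl⟩ := pt_bijective.2 d
  obtain ⟨k, hk1, hk2⟩ := reach a b (fun h => hab (congrArg pt h))
  obtain ⟨l, hl1, hl2⟩ := reach c d (fun h => hcd (congrArg pt h))
  refine ⟨l⁻¹ * k, ?_, ?_⟩
  · rw [mul_smul, hk1, ← hl1, inv_smul_smul]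
  · rw [mul_smul, hk2, ← hl2, inv_smul_smul]

theorem hasDeg_27 : HasDeg ↥KK 27 := by
  have h := Co3A.hasDeg_of_two_trans (G := ↥KK) P two_trans (by rw [card_P]; norm_num)
  rwa [card_P] at h

/-- The element of order 3 fixes the points. -/
theorem x_smul_P (S : P) : (⟨x, by
    rw [KK_eq, Subgroup.mem_centralizer_singleton_iff]⟩ : ↥KK) • S = S := by
  obtain ⟨q, rfl⟩ := pt_bijective.2 S
  apply Subtype.ext
  show x8 • SS q = SS q
  rw [smul_SS_eq, smul_X (pa_lt q.2), smul_X (pb_lt q.2), SS]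

/-- The character of degree 27 with its values. -/
theorem exists_theta : ∃ θ : IrrCharacter ↥KK, charDegree (θ : ↥KK → ℂ) = 27 ∧
    ∀ k, (θ : ↥KK → ℂ) k = (Nat.card (MulAction.fixedBy P k) : ℂ) - 1 := by
  obtain ⟨θ, hθ⟩ := Cfsg.Agent.H419.TwoTrans.exists_irr P two_trans (by rw [card_P]; norm_num)
  refine ⟨θ, ?_, hθ⟩
  have h1 := hθ 1
  rw [MulAction.fixedBy_one_eq_univ, Nat.card_coe_set_eq, Set.ncard_univ, card_P,
    Cfsg.Agent.Blocks.Basic.irr_one_eq_charDegree θ.2] at h1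
  have h4 : ((charDegree (θ : ↥KK → ℂ) : ℕ) : ℂ) = ((27 : ℕ) : ℂ) := by
    rw [h1]
    norm_num
  exact_mod_cast h4

/-! ### `Co3` -/

theorem sq_vv0 : sqNorm (vv 0 : GolayPt → ℤ) = 48 := by
  rw [vv_coe (by norm_num)]
  decide +kernel

theorem nonempty_equiv : Nonempty (Spor.Co3 ≃* Gw) := by
  obtain ⟨g, hg⟩ := Cfsg.Agent.CpAutBig.CoZero.exists_smul_eq (n := 48) (Or.inr (Or.inl rfl)) (vv 0) Spor.leechV
    sq_vv0 Cfsg.Agent.H573.Spor.CoThree.sq_V
  have hg' : g⁻¹ • Spor.leechV = vv 0 := by rw [← hg, inv_smul_smul]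
  refine ⟨{ toFun := fun h => ⟨g⁻¹ * ⟨h.1, h.2.1⟩ * g, ?_⟩
            invFun := fun k => ⟨(g * k.1 * g⁻¹ : Co0).1, (g * k.1 * g⁻¹ : Co0).2, ?_⟩
            left_inv := ?_
            right_inv := ?_
            map_mul' := ?_ }⟩
  · rw [MulAction.mem_stabilizer_iff, mul_smul, mul_smul, hg]
    have h2 : (⟨h.1, h.2.1⟩ : Co0) • Spor.leechV = Spor.leechV := h.2.2
    rw [h2, hg']
  · show (g * k.1 * g⁻¹) • Spor.leechV = Spor.leechV
    have h2 : k.1 • vv 0 = vv 0 := k.2
    rw [mul_smul, mul_smul, hg', h2, hg]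
  · intro h
    apply Subtype.ext
    show ((g * (g⁻¹ * ⟨h.1, h.2.1⟩ * g) * g⁻¹ : Co0)).1 = h.1
    have h2 : g * (g⁻¹ * (⟨h.1, h.2.1⟩ : Co0) * g) * g⁻¹ = ⟨h.1, h.2.1⟩ := by group
    rw [h2]
  · intro k
    apply Subtype.ext
    show g⁻¹ * (g * k.1 * g⁻¹) * g = k.1
    group
  · intro h k
    apply Subtype.ext
    show g⁻¹ * ((⟨h.1, h.2.1⟩ : Co0) * ⟨k.1, k.2.1⟩) * g = g⁻¹ * ⟨h.1, h.2.1⟩ * g * (g⁻¹ * ⟨k.1, k.2.1⟩ * g)
    group

theorem card_Gw : Nat.card Gw = 495766656000 := by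
  obtain ⟨f⟩ := nonempty_equiv
  rw [← Nat.card_congr f.toEquiv, Co3A.card_co3]

theorem im3_Gw : IM 3 Gw := by
  have hp : Fact (Nat.Prime 3) := ⟨Nat.prime_three⟩
  obtain ⟨θ, hθ⟩ := hasDeg_27
  have hcard : Nat.card ↥(Subgroup.zpowers x) = 3 := by rw [Nat.card_zpowers, orderOf_x]
  have hle : Subgroup.zpowers x ≤ KK := by
    rw [KK_eq, Subgroup.zpowers_le, Subgroup.mem_centralizer_singleton_iff]
  refine IM.of_local (Subgroup.zpowers x) (IsPGroup.of_card (n := 1) (by rw [hcard, pow_one])) ?_ θ ?_ ?_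
  · have h1 := Subgroup.card_mul_index (Subgroup.zpowers x)
    rw [hcard, card_Gw] at h1
    omega
  · have h1 : (Nat.card ↥KK).factorization 3 ≤ 4 := by
      by_contra hcon
      exact not_dvd_KK ((Nat.prime_three.pow_dvd_iff_le_factorization Nat.card_pos.ne').2 (by omega))
    have h2 : (charDegree (θ : ↥KK → ℂ)).factorization 3 = 3 := by
      rw [hθ, show (27 : ℕ) = 3 ^ 3 by norm_num, Nat.prime_three.factorization_pow]
      simp
    have h3 : Subgroup.zpowers x ⊓ KK = Subgroup.zpowers x := inf_eq_left.2 hle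
    rw [h3, hcard, Nat.prime_three.factorization_self, h2]
    exact h1
  · rintro g hg ⟨k, hk⟩
    refine (le_sup_right : KK ≤ _) ?_
    rw [KK_eq, Subgroup.mem_centralizer_singleton_iff]
    have h1 : g * x * g⁻¹ ∈ Subgroup.zpowers x :=
      (Subgroup.mem_normalizer_iff.1 hg x).1 (Subgroup.mem_zpowers x)
    have hx3 : x ^ 3 = 1 := by rw [← orderOf_x, pow_orderOf_eq_one]
    have h2 : g * x * g⁻¹ = x ∨ g * x * g⁻¹ = x⁻¹ := by
      classical
      rw [mem_zpowers_iff_mem_range_orderOf, orderOf_x] at h1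
      obtain ⟨n, hn, h1⟩ := Finset.mem_image.1 h1
      rw [Finset.mem_range] at hn
      interval_cases n
      · exfalso
        have h3 : x = 1 := by
          have h4 : g * x * g⁻¹ = 1 := by rw [← h1, pow_zero]
          have h5 : x = g⁻¹ * (g * x * g⁻¹) * g := by group
          rw [h5, h4]
          group
        have h4 := orderOf_x
        rw [h3, orderOf_one] at h4
        norm_num at h4
      · left
        rw [← h1, pow_one]
      · right
        rw [← h1, eq_inv_iff_mul_eq_one, ← pow_succ, hx3]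
    rcases h2 with h2 | h2
    · calc g * x = g * x * g⁻¹ * g := by group
        _ = x * g := by rw [h2]
    · have h3 : g ^ 2 * x = x * g ^ 2 := by
        have h4 : g * x⁻¹ * g⁻¹ = x := by
          calc g * x⁻¹ * g⁻¹ = (g * x * g⁻¹)⁻¹ := by group
            _ = x := by rw [h2, inv_inv]
        have h5 : g ^ 2 * x * (g ^ 2)⁻¹ = x := by
          calc g ^ 2 * x * (g ^ 2)⁻¹ = g * (g * x * g⁻¹) * g⁻¹ := by rw [pow_two]; group
            _ = x := by rw [h2, h4]
        calc g ^ 2 * x = g ^ 2 * x * (g ^ 2)⁻¹ * g ^ 2 := by group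
          _ = x * g ^ 2 := by rw [h5]
      have hodd : Odd (3 ^ k) := Odd.pow (by decide)
      obtain ⟨m, hm⟩ := hodd
      have h4 : g = (g ^ 2) ^ (m + 1) := by
        rw [← pow_mul, show 2 * (m + 1) = (2 * m + 1) + 1 by ring, ← hm, pow_succ, ← hk, pow_orderOf_eq_one, one_mul]
      have h5 : Commute ((g ^ 2) ^ (m + 1)) x := Commute.pow_left h3 _
      rw [← h4] at h5
      exact h5

/-- **Itô-Michler for `Co3`, `p = 3`.** -/
theorem im3 : IM 3 Spor.Co3 := by
  obtain ⟨f⟩ := nonempty_equiv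
  exact IM.of_equiv f im3_Gw

end Cfsg.Agent.H843.IMC.Co3B

private theorem dce_b4a7229f31eb : _root_.True := by
  try have : _root_.True := by simp only [_root_.Cfsg.Agent.H843.IMC.Co3B.SS.eq_1]
  try have : _root_.True := by simp only [_root_.Cfsg.Agent.H843.IMC.Co3B.KK.eq_1]
  try have : _root_.True := by simp only [_root_.Cfsg.Agent.H843.IMC.Co3B.vv.eq_1]
  try have : _root_.True := by simp only [_root_.Cfsg.Agent.H843.IMC.Co3B.DD.eq_1]
  exact _root_.True.intro
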