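import Cfsg.Agent.H678.DG.Basic
import Cfsg.Agent.H769.PB.CoThreeRank5
import Cfsg.Agent.H870.IMRu_m3
import Cfsg.Agent.H843.IMC.RowsA
import Cfsg.Agent.Prune
set_option linter.all false
prune_inst 0x7f00000000000000000000000000000000000000000000000000000000000000000000000000000000000000000000000000000000000000000000000000000000000000000000000000000000000000003fffffffffffffffffffffffffffbeffbdffffffff
open scoped Cfsg.Agent.FastGrp

/-!
# The Itô-Michler row and the degree graph of `Co3` (helper843)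
-/

set_option autoImplicit false

namespace Cfsg.Agent.H843.IMC.Rows

open Cfsg Cfsg.Agent.H33 Cfsg.Agent.H672.SporIM Cfsg.Agent.H678.DG

universe u

/-- **The Itô-Michler row of `Co3`.** -/
theorem im_co3 {S : Type u} [Group S] (h : Cfsg.Spor.IsoCo3 S) {p : ℕ} [hp : Fact p.Prime]
    (hd : p ∣ Nat.card S) : IM p S := by
  obtain ⟨e⟩ := h
  refine IM.of_equiv e ?_
  rw [Nat.card_congr e.toEquiv, Co3A.card_co3] at hd
  have hpr := hp.out
  have h5 : p ∣ 2 ^ 10 * 3 ^ 7 * 5 ^ 3 * 7 ^ 1 * 11 ^ 1 * 23 ^ 1 := by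
    norm_num
    exact hd
  have key : p = 2 ∨ p = 3 ∨ p = 5 ∨ p = 7 ∨ p = 11 ∨ p = 23 := by
    rcases hpr.dvd_mul.1 h5 with h5 | h5
    · rcases hpr.dvd_mul.1 h5 with h5 | h5
      · rcases hpr.dvd_mul.1 h5 with h5 | h5
        · rcases hpr.dvd_mul.1 h5 with h5 | h5
          · rcases hpr.dvd_mul.1 h5 with h5 | h5
            · exact Or.inl (two' hpr (by norm_num) h5)
            · exact Or.inr (Or.inl (two' hpr (by norm_num) h5))
          · exact Or.inr (Or.inr (Or.inl (two' hpr (by norm_num) h5)))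
        · exact Or.inr (Or.inr (Or.inr (Or.inl (two' hpr (by norm_num) h5))))
      · exact Or.inr (Or.inr (Or.inr (Or.inr (Or.inl (two' hpr (by norm_num) h5)))))
    · exact Or.inr (Or.inr (Or.inr (Or.inr (Or.inr (two' hpr (by norm_num) h5)))))
  rcases key with rfl | rfl | rfl | rfl | rfl | rfl
  · obtain ⟨⟨χ, h, -⟩, -⟩ := H769.PB.CoThreeRank5.exists_chars
    exact ⟨χ, by rw [h]; norm_num⟩
  · exact Co3B.im3
  · exact Co3A.hasDeg_275.im (by norm_num)
  · obtain ⟨-, χ, h, -⟩ := H769.PB.CoThreeRank5.exists_chars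
    exact ⟨χ, by rw [h]; norm_num⟩
  · exact Co3A.hasDeg_275.im (by norm_num)
  · exact Co3A.hasDeg_23.im (by norm_num)

/-- **The degree graph of `Co3`.** -/
theorem facts_co3 {S : Type u} [Group S] (h : Spor.IsoCo3 S) : Facts S := by
  obtain ⟨e⟩ := h
  refine Facts.of_equiv e ?_
  have : Finite Spor.Co3 := Nat.finite_of_card_ne_zero (by rw [Co3A.card_co3]; norm_num)
  refine Facts.of_list (P := [3, 2, 11, 23, 5, 7]) (D := [6, 2024, 8855]) ?_ (by decide)
    (mem_of_card (f := fun _ => 12) ?_ ?_) ?_ (by decide +kernel)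
  · intro p hp; fin_cases hp <;> norm_num
  · rw [Co3A.card_co3]; decide +kernel
  · intro p hp; fin_cases hp <;> norm_num
  · intro m hm
    simp only [List.mem_cons, List.not_mem_nil, or_false] at hm
    rcases hm with rfl | rfl | rfl
    · exact Co3C.hasDvd_six
    · obtain ⟨⟨χ, h, -⟩, -⟩ := H769.PB.CoThreeRank5.exists_chars
      exact ⟨χ, by rw [h]⟩
    · obtain ⟨-, χ, h, -⟩ := H769.PB.CoThreeRank5.exists_chars
      exact ⟨χ, by rw [h]⟩

end Cfsg.Agent.H843.IMC.Rows
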