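import Cfsg.Agent.H843.IMC.Frame3_m3
import Cfsg.Agent.H843.IMC.Co3A
import Cfsg.Agent.H419.Spor.Co1
import Cfsg.Agent.Prune
set_option linter.all false

section
prune_inst 0x7f00000000000000000000000000000000000000000000000000000000000000000000000000000000000000000000000000000000000000000000000000000000000000000000000000000000000000003fffffffffffffffffffffffffffbeffbdffffffff

-- part: H843/IMC/Orb
section
set_option linter.all false
open scoped Cfsg.Agent.FastGrp

/-!
# A character whose restriction is a single orbit of distinct irreducible characters is irreducible (helper843)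
-/

set_option autoImplicit false

namespace Cfsg.Agent.H843.IMC

open Cfsg Cfsg.Agent.Characters.Core
open scoped ComplexConjugate

variable {G : Type*} [Group G] [Fintype G] {E : Type*} [Group E] [Fintype E]

theorem irr_of_orbit (f : E →* G) {W : G → ℂ} (hW : IsCharacter G W) {A : Type*} [Fintype A] [Nonempty A]
    (lam : A → E → ℂ) (hlam : ∀ a, IsIrrCharacter E (lam a)) (hinj : Function.Injective lam)
    (hWf : W ∘ f = ∑ a, lam a)
    (htr : ∀ a b, ∃ (x : G) (σ : E ≃* E), (∀ e, f (σ e) = x * f e * x⁻¹) ∧ lam b = lam a ∘ σ) :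
    IsIrrCharacter G W := by
  classical
  have : Finite (IrrCharacter G) := finite_irr
  have := Fintype.ofFinite (IrrCharacter G)
  have : Finite (IrrCharacter E) := finite_irr
  have := Fintype.ofFinite (IrrCharacter E)
  obtain ⟨m, hm⟩ := exists_nat_comb hW
  have hnat : ∀ (χ : IrrCharacter G) (a : A), ∃ n : ℕ, classInner ((χ : G → ℂ) ∘ f) (lam a) = n := fun χ a =>
    classInner_isNat (isCharacter_comp f (isIrr_isCharacter χ.2)) (isIrr_isCharacter (hlam a))
  choose n hn using hnat
  have hWa : ∀ a, classInner (W ∘ f) (lam a) = 1 := by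
    intro a
    rw [hWf, classInner_sum_left, Finset.sum_eq_single a]
    · exact classInner_irr_self (hlam a)
    · intro b _ hb
      exact classInner_irr_ne (hlam b) (hlam a) (fun h => hb (hinj h))
    · intro h
      exact absurd (Finset.mem_univ _) h
  have hval : W = ∑ χ : IrrCharacter G, (m χ : ℂ) • (χ : G → ℂ) := by
    funext g
    rw [hm]
    simp [Finset.sum_apply]
  have hsum : ∀ η : E → ℂ, classInner (W ∘ f) η = ∑ χ : IrrCharacter G, (m χ : ℂ) * classInner ((χ : G → ℂ) ∘ f) η := by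
    intro η
    have h1 : W ∘ f = ∑ χ : IrrCharacter G, (m χ : ℂ) • ((χ : G → ℂ) ∘ f) := by
      funext e
      rw [Function.comp_apply, hval]
      simp [Finset.sum_apply]
    rw [h1, classInner_sum_left]
    exact Finset.sum_congr rfl fun χ _ => classInner_smul_left _ _ _
  have hone : ∀ a, ∑ χ : IrrCharacter G, m χ * n χ a = 1 := by
    intro a
    have h1 := hsum (lam a)
    rw [hWa] at h1
    have h2 : ((∑ χ : IrrCharacter G, m χ * n χ a : ℕ) : ℂ) = ((1 : ℕ) : ℂ) := by
      push_cast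
      rw [h1]
      exact Finset.sum_congr rfl fun χ _ => by rw [hn]
    exact_mod_cast h2
  -- invariance of the multiplicities
  have hinv : ∀ (χ : IrrCharacter G) (a b : A), n χ b = n χ a := by
    intro χ a b
    obtain ⟨x, σ, hσ, hab⟩ := htr a b
    have hcl : ∀ (g h : G), (χ : G → ℂ) (g * h * g⁻¹) = (χ : G → ℂ) h := by
      intro g h
      exact isIrr_isClassFunction χ.2 h g
    have h1 : classInner ((χ : G → ℂ) ∘ f) (lam b) = classInner ((χ : G → ℂ) ∘ f) (lam a) := by
      rw [classInner_def, classInner_def, hab]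
      congr 1
      rw [← Equiv.sum_comp σ.toEquiv (fun e => ((χ : G → ℂ) ∘ f) e * conj (lam a e))]
      refine Finset.sum_congr rfl fun e _ => ?_
      show (χ : G → ℂ) (f e) * conj (lam a (σ e)) = (χ : G → ℂ) (f (σ e)) * conj (lam a (σ e))
      rw [hσ, hcl]
    rw [hn, hn] at h1
    exact_mod_cast h1
  obtain ⟨a0⟩ : Nonempty A := inferInstance
  -- a constituent with multiplicity zero for all `a` has multiplicity zero
  have hzero : ∀ χ : IrrCharacter G, n χ a0 = 0 → m χ = 0 := by
    intro χ h0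
    by_contra hmχ
    -- the restriction of `χ` has a constituent
    have hres : IsCharacter E ((χ : G → ℂ) ∘ f) := isCharacter_comp f (isIrr_isCharacter χ.2)
    have hne : (χ : G → ℂ) ∘ f ≠ 0 := by
      intro h
      have h1 := congrFun h 1
      rw [Function.comp_apply, map_one, Pi.zero_apply] at h1
      exact isIrr_apply_one_ne_zero χ.2 h1
    obtain ⟨η, hη⟩ := exists_constituent hres hne
    have hη2 : ∀ a, lam a ≠ η := by
      intro a h
      apply hη
      rw [← h, hn, hinv χ a0 a, h0]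
      simp
    have h1 : classInner (W ∘ f) (η : E → ℂ) = 0 := by
      rw [hWf, classInner_sum_left, Finset.sum_eq_zero]
      intro a _
      exact classInner_irr_ne (hlam a) η.2 (hη2 a)
    have hnat2 : ∀ χ : IrrCharacter G, ∃ k : ℕ, classInner ((χ : G → ℂ) ∘ f) (η : E → ℂ) = k := fun χ =>
      classInner_isNat (isCharacter_comp f (isIrr_isCharacter χ.2)) (isIrr_isCharacter η.2)
    choose k hk using hnat2
    rw [hsum] at h1
    have h2 : ∑ χ : IrrCharacter G, m χ * k χ = 0 := by
      have h3 : ((∑ χ : IrrCharacter G, m χ * k χ : ℕ) : ℂ) = 0 := by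
        push_cast
        rw [← h1]
        exact Finset.sum_congr rfl fun χ _ => by rw [hk]
      exact_mod_cast h3
    have h3 := (Finset.sum_eq_zero_iff.1 h2) χ (Finset.mem_univ χ)
    rcases mul_eq_zero.1 h3 with h4 | h4
    · exact hmχ h4
    · apply hη
      rw [hk, h4]
      simp
  -- the unique constituent
  obtain ⟨ψ, -, hψ⟩ : ∃ ψ ∈ (Finset.univ : Finset (IrrCharacter G)), m ψ * n ψ a0 ≠ 0 := by
    apply Finset.exists_ne_zero_of_sum_ne_zero
    rw [hone]
    norm_num
  have hψ1 : m ψ * n ψ a0 + ∑ χ ∈ Finset.univ.erase ψ, m χ * n χ a0 = 1 := by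
    rw [Finset.add_sum_erase Finset.univ (fun χ => m χ * n χ a0) (Finset.mem_univ ψ)]
    exact hone a0
  have hψ2 : m ψ * n ψ a0 = 1 := by omega
  have hψ3 : ∑ χ ∈ Finset.univ.erase ψ, m χ * n χ a0 = 0 := by omega
  have hmψ : m ψ = 1 := Nat.eq_one_of_mul_eq_one_right hψ2
  have hrest : ∀ χ : IrrCharacter G, χ ≠ ψ → m χ = 0 := by
    intro χ hχ
    have h1 := (Finset.sum_eq_zero_iff.1 hψ3) χ (Finset.mem_erase.2 ⟨hχ, Finset.mem_univ χ⟩)
    rcases mul_eq_zero.1 h1 with h2 | h2
    · exact h2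
    · exact hzero χ h2
  have hWψ : W = (ψ : G → ℂ) := by
    rw [hval, Finset.sum_eq_single ψ]
    · rw [hmψ, Nat.cast_one, one_smul]
    · intro χ _ hχ
      rw [hrest χ hχ, Nat.cast_zero, zero_smul]
    · intro h
      exact absurd (Finset.mem_univ _) h
  rw [hWψ]
  exact ψ.2

end Cfsg.Agent.H843.IMC
end

-- part: H843/IMC/Co1B
section
set_option linter.all false
open scoped Cfsg.Agent.FastGrp

/-!
# `Co1`: characters of degrees `276` and `299` (helper843)
-/

set_option autoImplicit false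

namespace Cfsg.Agent.H843.IMC.Co1B

open Cfsg Cfsg.Agent.H33 Cfsg.Agent.H672.SporIM Cfsg.Agent.Characters.Core
open Cfsg.Agent.H843.IMC.Lam Cfsg.Agent.H843.IMC.LamCo1 Cfsg.Agent.H419.LeechIrr
open Cfsg.Agent.SporadicA.GolayBase Cfsg.Agent.SporadicStructure.M24El
open Cfsg.Agent.SporadicA.Co0Mono Cfsg.Agent.SporadicA.Co1Simple Cfsg.Agent.Co2Type.Mono
open Cfsg.Agent.SporadicStructure.Co0Base
open Cfsg.Agent.H419.Spor.Co1 (chi chi_one chi_neg psi psi_one isCharacter_psi psi_perm y6 y6_fix y6_fix2)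
open Cfsg.Agent.CoOneType.CoOneE (pr pr_surjective)
open scoped ComplexConjugate

/-- the sign changes in `Co0` -/
def sg0 : Multiplicative golayCode →* Co0 where
  toFun c := signCo0 c.toAdd
  map_one' := signCo0_zero
  map_mul' a b := signCo0_add _ _

theorem sgnC_eq (a : ZMod 2) : ((sgn a : ℤ) : ℂ) = sgnC a := by
  have h2 : a = 0 ∨ a = 1 := by revert a; decide
  rcases h2 with rfl | rfl
  · rw [sgn_zero, sgnC_zero]; simp
  · rw [sgn_one, sgnC_one]; simp

theorem chi_sign (c : golayCode) : chi (signCo0 c) = ∑ i, sgnC ((c : GolayPt → ZMod 2) i) := by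
  show (tr8 (signCo0 c) : ℂ) / 8 = _
  have h : ∀ i, ((signCo0 c • e8 i : leechLattice) : GolayPt → ℤ) i = sgn ((c : GolayPt → ZMod 2) i) * 8 := by
    intro i
    rw [signCo0_smul, signMap_apply, e8_coe, Pi.single_eq_same]
  unfold tr8
  rw [Finset.sum_congr rfl fun i _ => h i]
  push_cast
  rw [Finset.sum_div]
  refine Finset.sum_congr rfl fun i _ => ?_
  rw [← sgnC_eq]
  push_cast
  ring

theorem sep : ∀ a < 24, ∀ b < 24, a ≠ b → ∃ k < 12, (basisMask k).testBit a ≠ (basisMask k).testBit b := by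
  decide +kernel

theorem exists_word {a b : GolayPt} (h : a ≠ b) : ∃ c : golayCode, (c : GolayPt → ZMod 2) a ≠ (c : GolayPt → ZMod 2) b := by
  obtain ⟨k, hk, hne⟩ := sep _ (idx_lt a) _ (idx_lt b) (fun h' => h (idx_injective h'))
  obtain ⟨h0, h1, h2, h3, h4, h5, h6, h7, h8, h9, h10, h11⟩ := basis_mem
  have h : word (basisMask k) ∈ golayCode := by
    interval_cases k
    · exact h0
    · exact h1
    · exact h2
    · exact h3
    · exact h4
    · exact h5
    · exact h6
    · exact h7
    · exact h8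
    · exact h9
    · exact h10
    · exact h11
  refine ⟨⟨_, h⟩, ?_⟩
  show word (basisMask k) a ≠ word (basisMask k) b
  rw [word_apply, word_apply]
  revert hne
  cases (basisMask k).testBit (idx a) <;> cases (basisMask k).testBit (idx b) <;> simp

theorem exists_perm (a b : GolayPt) : ∃ g : M24, (g : Equiv.Perm GolayPt) b = a := by
  have h5 : MulAction.IsMultiplyPretransitive M24 GolayPt 5 := Cfsg.Agent.S0366.result
  have h1 : MulAction.IsPretransitive M24 GolayPt := by
    rw [← MulAction.is_one_pretransitive_iff]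
    exact MulAction.isMultiplyPretransitive_of_le (n := 5) (by norm_num) (by simp [GolayPt])
  exact MulAction.exists_smul_eq M24 b a

/-- the character of degree 24 of `Co0` is irreducible -/
theorem irr_chi : IsIrrCharacter Co0 chi := by
  classical
  have := Fintype.ofFinite Co0
  have := Fintype.ofFinite (Multiplicative golayCode)
  refine irr_of_orbit sg0 (isCharacter_lchi (MonoidHom.id Co0)) (A := GolayPt)
    (fun a e => ((lamH (k := 1) wd (fun _ => a) e : ℂˣ) : ℂ))
    (fun a => Cfsg.Agent.CharDeep.LinearChar.isIrrCharacter_of_hom _) ?_ ?_ ?_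
  · intro a b h
    by_contra hab
    obtain ⟨c, hc⟩ := exists_word hab
    have h1 := congrFun h (Multiplicative.ofAdd c)
    simp only [lamH_apply] at h1
    have h2 := sgnC_injective h1
    rw [Fin.sum_univ_one, Fin.sum_univ_one] at h2
    exact hc h2
  · funext e
    rw [Finset.sum_apply]
    show chi (signCo0 e.toAdd) = _
    rw [chi_sign]
    refine Finset.sum_congr rfl fun i _ => ?_
    rw [lamH_apply, Fin.sum_univ_one]
    rfl
  · intro a b
    obtain ⟨g, hg⟩ := exists_perm a b
    refine ⟨permCo0 g, wp g, ?_, ?_⟩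
    · intro e
      show signCo0 (wordPerm g e.toAdd) = permCo0 g * signCo0 e.toAdd * (permCo0 g)⁻¹
      rw [perm_mul_sign_mul_inv]
    · funext e
      rw [Function.comp_apply, lamH_apply, lamH_apply, Fin.sum_univ_one, Fin.sum_univ_one]
      congr 1
      show ((e.toAdd : golayCode) : GolayPt → ZMod 2) b = ((e.toAdd : golayCode) : GolayPt → ZMod 2)
        ((g : Equiv.Perm GolayPt).symm a)
      rw [← hg, Equiv.symm_apply_apply]

/-- Descent to `Co1`. -/
theorem exists_descend {ω : Co0 → ℂ} (hω : IsCharacter Co0 ω) (h : ω (signCo0 allOne) = ω 1) :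
    ∃ θ : Spor.Co1 → ℂ, IsCharacter Spor.Co1 θ ∧ ∀ g : Co0, θ (pr g) = ω g := by
  obtain ⟨n, ρ, hρ⟩ := hω
  have hn : (n : ℂ) = ω 1 := by
    have h1 : ρ.character 1 = (n : ℂ) := by
      rw [Representation.char_one]
      simp
    rw [← h1, hρ]
  have hker : ∀ z ∈ Subgroup.center Co0, ρ z = 1 := by
    intro z hz
    rcases (Cfsg.Agent.CoOneType.CoOneE.mem_center_iff z).1 hz with rfl | rfl
    · exact map_one ρ
    · have h1 := (Cfsg.Agent.S0139.result ρ (signCo0 allOne)).1 (by
        rw [hρ, h, Module.finrank_fin_fun, hn])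
      rw [h1]
      rfl
  let ρ' : Representation ℂ Spor.Co1 (Fin n → ℂ) :=
    QuotientGroup.lift (Subgroup.center Co0) (ρ : Co0 →* Module.End ℂ (Fin n → ℂ)) hker
  refine ⟨ρ'.character, ⟨n, ρ', rfl⟩, fun g => ?_⟩
  rw [← hρ]
  rfl

/-- the symmetric square -/
noncomputable def om (g : Co0) : ℂ := (chi g ^ 2 + chi (g * g)) / 2

theorem isCharacter_om : IsCharacter Co0 om :=
  Cfsg.Agent.PermChar.SymAlt.isCharacter_symSq (isCharacter_lchi (MonoidHom.id Co0))

theorem om_one : om 1 = 300 := by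
  rw [om, mul_one, chi_one]
  norm_num

theorem om_neg : om (signCo0 allOne) = om 1 := by
  rw [om, signCo0_mul_self, chi_one, chi_neg, om_one]
  norm_num

/-- nontrivial degrees of `Co1` -/
theorem degree_ge (η : IrrCharacter Spor.Co1) (h1 : (η : Spor.Co1 → ℂ) ≠ 1) : 276 ≤ charDegree (η : Spor.Co1 → ℂ) := by
  obtain ⟨η, n, ρ, hρ, rfl⟩ := η
  have h2 : ∀ V : Module.End ℂ (Fin n → ℂ), V = 1 → LinearMap.trace ℂ _ V = (n : ℂ) := by
    rintro V rfl
    rw [LinearMap.trace_one]
    simp
  have hd : charDegree ρ.character = n :=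
    Cfsg.Agent.H670.PSing.charDegree_eq_of (h2 _ (map_one ρ))
  show 276 ≤ charDegree ρ.character
  rw [hd]
  by_contra hcon
  push Not at hcon
  have h3 : ∀ g, ρ g = 1 := Cfsg.Agent.H847.Co1Small.trivial_of_lt ρ (by rwa [Module.finrank_fin_fun])
  -- the representation is trivial, hence of degree one
  have hc : ∀ g, ρ.character g = (n : ℂ) := fun g => h2 _ (h3 g)
  have := Fintype.ofFinite Spor.Co1
  have hirr : IsIrrCharacter Spor.Co1 ρ.character := ⟨n, ρ, hρ, rfl⟩
  have h4 : classInner (ρ.character) (1 : Spor.Co1 → ℂ) = n := by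
    have h5 : ρ.character = (n : ℂ) • (1 : Spor.Co1 → ℂ) := by
      funext g
      rw [hc]
      simp
    rw [h5, classInner_smul_left, classInner_irr_self isIrr_one, mul_one]
  rw [classInner_irr_ne hirr isIrr_one h1] at h4
  have h6 : ρ.character 1 = 0 := by rw [hc, ← h4]
  exact isIrr_apply_one_ne_zero hirr h6

theorem chi_real (g : Co0) : conj (chi g) = chi g := by
  show conj ((tr8 g : ℂ) / 8) = (tr8 g : ℂ) / 8
  rw [map_div₀, map_intCast, map_ofNat]

/-- the character of degree 276 -/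
theorem exists_276 : ∃ θ : IrrCharacter Spor.Co1, (∀ g : Co0, (θ : Spor.Co1 → ℂ) (pr g) = psi g) ∧
    charDegree (θ : Spor.Co1 → ℂ) = 276 := by
  obtain ⟨θ, hθ⟩ := Cfsg.Agent.H419.Spor.Co1.exists_irr (psi_perm y6_fix y6_fix2)
  refine ⟨θ, hθ, Cfsg.Agent.H670.PSing.charDegree_eq_of ?_⟩
  have h := hθ 1
  rw [map_one, psi_one] at h
  rw [h]
  norm_num

theorem hasDeg_276 : HasDeg Spor.Co1 276 := by
  obtain ⟨θ, -, h⟩ := exists_276
  exact ⟨θ, h⟩

/-- the symmetric square is `1 + 299` -/
theorem exists_299 : ∃ ξ : IrrCharacter Spor.Co1, charDegree (ξ : Spor.Co1 → ℂ) = 299 ∧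
    ∀ g : Co0, om g = 1 + (ξ : Spor.Co1 → ℂ) (pr g) := by
  classical
  have := Fintype.ofFinite Co0
  have := Fintype.ofFinite Spor.Co1
  have : Finite (IrrCharacter Spor.Co1) := finite_irr
  have := Fintype.ofFinite (IrrCharacter Spor.Co1)
  obtain ⟨θ, hθ, hθd⟩ := exists_276
  obtain ⟨θ1, hθ1, hθ1v⟩ := exists_descend isCharacter_om om_neg
  obtain ⟨m, hm⟩ := exists_nat_comb hθ1
  have hval : ∀ g, θ1 g = ∑ η : IrrCharacter Spor.Co1, (m η : ℂ) * (η : Spor.Co1 → ℂ) g := by
    intro g
    rw [hm]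
    simp [Finset.sum_apply]
  -- inflation
  have hinf : ∀ η : IrrCharacter Spor.Co1, IsIrrCharacter Co0 ((η : Spor.Co1 → ℂ) ∘ pr) := fun η =>
    isIrr_comp pr pr_surjective η.2
  have hinf1 : ∀ η : IrrCharacter Spor.Co1, (η : Spor.Co1 → ℂ) ≠ 1 → (η : Spor.Co1 → ℂ) ∘ pr ≠ 1 := by
    intro η h hcon
    apply h
    funext g
    obtain ⟨x, rfl⟩ := pr_surjective g
    exact congrFun hcon x
  -- `⟨ω, 1⟩ = 1`
  have hψ : classInner psi (1 : Co0 → ℂ) = 0 := by
    have h1 : psi = (θ : Spor.Co1 → ℂ) ∘ pr := by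
      funext g
      exact (hθ g).symm
    have h2 : (θ : Spor.Co1 → ℂ) ≠ 1 := by
      intro h
      rw [h] at hθd
      have h3 : charDegree (1 : Spor.Co1 → ℂ) = 1 := by
        unfold charDegree
        simp
      omega
    rw [h1]
    exact classInner_irr_ne (hinf θ) isIrr_one (hinf1 θ h2)
  have hchi2 : classInner (om + psi) (1 : Co0 → ℂ) = 1 := by
    have h1 := classInner_irr_self irr_chi
    rw [← h1, classInner_def, classInner_def]
    congr 1
    refine Finset.sum_congr rfl fun g _ => ?_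
    rw [chi_real, Pi.one_apply, map_one, mul_one, Pi.add_apply, om, psi]
    ring
  have hom1 : classInner om (1 : Co0 → ℂ) = 1 := by
    rw [classInner_add_left, hψ, add_zero] at hchi2
    exact hchi2
  let one : IrrCharacter Spor.Co1 := ⟨1, isIrr_one⟩
  have hm1 : m one = 1 := by
    have h1 : om = ∑ η : IrrCharacter Spor.Co1, (m η : ℂ) • ((η : Spor.Co1 → ℂ) ∘ pr) := by
      funext g
      rw [← hθ1v, hval]
      simp [Finset.sum_apply]
    rw [h1, classInner_sum_left, Finset.sum_eq_single one] at hom1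
    · rw [classInner_smul_left] at hom1
      have h2 : ((one : IrrCharacter Spor.Co1) : Spor.Co1 → ℂ) ∘ pr = 1 := rfl
      rw [h2, classInner_irr_self isIrr_one, mul_one] at hom1
      exact_mod_cast hom1
    · intro η _ hη
      rw [classInner_smul_left, classInner_irr_ne (hinf η) isIrr_one (hinf1 η fun h => hη (Subtype.ext h)), mul_zero]
    · intro h
      exact absurd (Finset.mem_univ _) h
  have hdeg : ∑ η : IrrCharacter Spor.Co1, m η * charDegree (η : Spor.Co1 → ℂ) = 300 := by
    have h1 := hval 1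
    rw [show (1 : Spor.Co1) = pr 1 from (map_one pr).symm, hθ1v, om_one, map_one] at h1
    have h2 : ((300 : ℕ) : ℂ) = ((∑ η : IrrCharacter Spor.Co1, m η * charDegree (η : Spor.Co1 → ℂ) : ℕ) : ℂ) := by
      push_cast
      rw [h1]
      exact Finset.sum_congr rfl fun η _ => by rw [Cfsg.Agent.Blocks.Basic.irr_one_eq_charDegree η.2]
    exact_mod_cast h2.symm
  have hone : charDegree ((one : IrrCharacter Spor.Co1) : Spor.Co1 → ℂ) = 1 := by
    show charDegree (1 : Spor.Co1 → ℂ) = 1
    unfold charDegree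
    simp
  have h1 := Finset.add_sum_erase Finset.univ (fun η : IrrCharacter Spor.Co1 => m η * charDegree (η : Spor.Co1 → ℂ))
    (Finset.mem_univ one)
  rw [hdeg, hm1, hone] at h1
  have h2 : ∑ η ∈ Finset.univ.erase one, m η * charDegree (η : Spor.Co1 → ℂ) = 299 := by omega
  obtain ⟨ξ, hξ, hξ0⟩ : ∃ ξ ∈ Finset.univ.erase one, m ξ * charDegree (ξ : Spor.Co1 → ℂ) ≠ 0 := by
    apply Finset.exists_ne_zero_of_sum_ne_zero
    rw [h2]
    norm_num
  have hξ1 : (ξ : Spor.Co1 → ℂ) ≠ 1 := fun h => (Finset.mem_erase.1 hξ).1 (Subtype.ext h)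
  have h3 := Finset.add_sum_erase (Finset.univ.erase one)
    (fun η : IrrCharacter Spor.Co1 => m η * charDegree (η : Spor.Co1 → ℂ)) hξ
  rw [h2] at h3
  have hd := degree_ge ξ hξ1
  have hmξ : m ξ = 1 := by
    have h4 : m ξ ≠ 0 := fun h => hξ0 (by rw [h, zero_mul])
    rcases Nat.lt_or_ge (m ξ) 2 with h5 | h5
    · omega
    · have : 2 * 276 ≤ m ξ * charDegree (ξ : Spor.Co1 → ℂ) := Nat.mul_le_mul h5 hd
      omega
  have hrest : ∀ η ∈ (Finset.univ.erase one).erase ξ, m η = 0 := by
    intro η hη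
    by_contra h0
    have h4 : m η * charDegree (η : Spor.Co1 → ℂ) ≤ ∑ η ∈ (Finset.univ.erase one).erase ξ,
        m η * charDegree (η : Spor.Co1 → ℂ) :=
      Finset.single_le_sum (f := fun η : IrrCharacter Spor.Co1 => m η * charDegree (η : Spor.Co1 → ℂ))
        (fun _ _ => Nat.zero_le _) hη
    have h5 : 276 ≤ charDegree (η : Spor.Co1 → ℂ) :=
      degree_ge η fun h => (Finset.mem_erase.1 (Finset.mem_erase.1 hη).2).1 (Subtype.ext h)
    have h6 : 1 * 276 ≤ m η * charDegree (η : Spor.Co1 → ℂ) := Nat.mul_le_mul (Nat.pos_of_ne_zero h0) h5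
    rw [hmξ, one_mul] at h3
    omega
  have h4 : ∑ η ∈ (Finset.univ.erase one).erase ξ, m η * charDegree (η : Spor.Co1 → ℂ) = 0 :=
    Finset.sum_eq_zero fun η hη => by rw [hrest η hη, zero_mul]
  rw [h4, add_zero, hmξ, one_mul] at h3
  refine ⟨ξ, h3, fun g => ?_⟩
  rw [← hθ1v, hval, ← Finset.add_sum_erase Finset.univ _ (Finset.mem_univ one), ← Finset.add_sum_erase _ _ hξ,
    Finset.sum_eq_zero (s := (Finset.univ.erase one).erase ξ), hm1, hmξ]
  · show ((1 : ℕ) : ℂ) * 1 + (((1 : ℕ) : ℂ) * _ + 0) = _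
    push_cast
    ring
  · intro η hη
    rw [hrest η hη, Nat.cast_zero, zero_mul]

theorem hasDeg_299 : HasDeg Spor.Co1 299 := by
  obtain ⟨ξ, h, -⟩ := exists_299
  exact ⟨ξ, h⟩

end Cfsg.Agent.H843.IMC.Co1B

private theorem dce_8572fea6d7d5 : _root_.True := by
  try have : _root_.True := by simp only [_root_.Cfsg.Agent.H843.IMC.Co1B.om.eq_1]
  exact _root_.True.intro
end
end
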