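import Cfsg.Agent.LThreeCo1Twelve.Ord
import Cfsg.Agent.H714.DG.Top_m3
import Cfsg.Agent.H843.IMC.LeechConv
import Cfsg.Agent.FastGrp
import Cfsg.Agent.Prune
set_option linter.all false

section
prune_inst 0x7ffcfff9efacbfffdfff7e3fffd9dff803c1cfffe6dff94bffebebbfffbfb3e729cdfba58de4d8feced6e2b418b87843f87eefffe86bdc7ffffdfff45ffbee4ff5f7bd0951da84a41fbe2fff63f177aa7f3fffffffffdfffffffffffffffffffffffffffffff

-- part: H843/IMC/Co2Dat
section
prune_inst 0x3000610534000200001c00020200588121000090000b00000004000000010020204126010200010200001000180100300000000040000000000030000003002080004000030002040c0009800080400000000000000000000000000000000000000000000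
set_option linter.all false
open scoped Cfsg.Agent.FastGrp

/-!
# Data for a 3-block of `Co2` (helper843; generated)

The 82 minimal vectors `u` fixed by the element `s0` of order 3 with `u · w = 16`, `w = (4, 4, 0, ...)`; the 40 pairs
`u, w - u` are the points of a generalized quadrangle with 40 lines and 160 flags.
-/

set_option autoImplicit false
set_option maxRecDepth 100000

namespace Cfsg.Agent.H843.IMC.Co2D.Fq

open Cfsg Cfsg.Agent.SporadicA Cfsg.Agent.SporadicStructure.Co0Matrix Cfsg.Agent.CoOneType.CoFast Finset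

/-- dot product with two accumulators -/
private noncomputable def dk (r : List ℤ) : List ℤ → ℕ → ℕ → ℤ :=
  List.rec (fun _ P N => Int.subNatNat P N) (fun a _ ih l P N => List.rec (Int.subNatNat P N) (fun b t _ =>
    Int.rec (fun x => Int.rec (fun y => ih t (Nat.add P (Nat.mul x y)) N) (fun y => ih t P (Nat.add N (Nat.mul x (Nat.succ y)))) b)
      (fun x => Int.rec (fun y => ih t P (Nat.add N (Nat.mul (Nat.succ x) y)))
        (fun y => ih t (Nat.add P (Nat.mul (Nat.succ x) (Nat.succ y))) N) b) a) l) r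

private theorem dk_eq : ∀ (r l : List ℤ) (P N : ℕ), dk r l P N = P - N + dotL r l
  | [], l, P, N => by rw [dotL_nil_left, add_zero]; exact Int.subNatNat_eq_coe
  | a :: s, [], P, N => by rw [dotL_nil_right, add_zero]; exact Int.subNatNat_eq_coe
  | .ofNat x :: s, .ofNat y :: t, P, N => (dk_eq s t (P + x * y) N).trans (by
      rw [dotL_cons, Int.ofNat_eq_natCast, Int.ofNat_eq_natCast]; push_cast; ring)
  | .ofNat x :: s, .negSucc y :: t, P, N => (dk_eq s t P (N + x * (y + 1))).trans (by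
      rw [dotL_cons, Int.ofNat_eq_natCast, Int.negSucc_eq]; push_cast; ring)
  | .negSucc x :: s, .ofNat y :: t, P, N => (dk_eq s t P (N + (x + 1) * y)).trans (by
      rw [dotL_cons, Int.ofNat_eq_natCast, Int.negSucc_eq]; push_cast; ring)
  | .negSucc x :: s, .negSucc y :: t, P, N => (dk_eq s t (P + (x + 1) * (y + 1)) N).trans (by
      rw [dotL_cons, Int.negSucc_eq, Int.negSucc_eq]; push_cast; ring)

private theorem dk0 (r l : List ℤ) : dk r l 0 0 = dotL r l := by rw [dk_eq]; simp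

/-- entry -/
private def en (A : List (List ℤ)) (i j : ℕ) : ℤ := (A.getD i []).getD j 0

/-- shape and size of the entries -/
private def sh (A : List (List ℤ)) : Bool := A.all fun r => Nat.beq r.length 24 && r.all fun a => Nat.ble a.natAbs 1000

private theorem sh_len {A : List (List ℤ)} (h : sh A = true) {r : List ℤ} (hr : r ∈ A) : r.length = 24 :=
  Nat.eq_of_beq_eq_true (Bool.and_eq_true_iff.1 (List.all_eq_true.1 h r hr)).1

private theorem sh_le {A : List (List ℤ)} (h : sh A = true) (i : ℕ) : (A.getD i []).length ≤ 24 := by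
  by_cases hi : i < A.length
  · exact (sh_len h (getD_mem_of_lt A [] hi)).le
  · rw [List.getD_eq_default _ _ (not_lt.1 hi)]; exact Nat.zero_le _

private theorem sh_abs {A : List (List ℤ)} (h : sh A = true) (i j : ℕ) : |en A i j| ≤ 1000 := by
  unfold en
  by_cases hi : i < A.length
  · by_cases hj : j < (A.getD i []).length
    · have := Nat.le_of_ble_eq_true (List.all_eq_true.1 (Bool.and_eq_true_iff.1 (List.all_eq_true.1 h _ (getD_mem_of_lt A [] hi))).2 _
        (getD_mem_of_lt _ 0 hj))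
      rw [Int.abs_eq_natAbs]; exact_mod_cast this
    · rw [List.getD_eq_default _ _ (not_lt.1 hj)]; decide
  · rw [List.getD_eq_default _ _ (not_lt.1 hi), List.getD_nil]; decide

private theorem sum_lt (B : ℕ) (c : ℕ → ℕ) (h : ∀ k, c k < B) : ∀ n, ∑ k ∈ range n, c k * B ^ k < B ^ n
  | 0 => Nat.one_pos
  | n + 1 => by
    rw [sum_range_succ, pow_succ']
    exact lt_of_lt_of_le (Nat.add_lt_add_right (sum_lt B c h n) _) (by
      rw [add_comm, ← Nat.succ_mul]; exact Nat.mul_le_mul_right _ (h n))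

private theorem land_dig (w m : ℕ) (hm : m < 2 ^ w) : ∀ (n : ℕ) (c : ℕ → ℕ), (∀ k, c k < 2 ^ w) →
    (∑ k ∈ range n, c k * (2 ^ w) ^ k) &&& (∑ k ∈ range n, m * (2 ^ w) ^ k) = 0 → ∀ k < n, c k &&& m = 0
  | 0, _, _, _, k, hk => absurd hk (Nat.not_lt_zero k)
  | n + 1, c, hc, h, k, hk => by
    have e : ∀ d : ℕ → ℕ, ∑ k ∈ range (n + 1), d k * (2 ^ w) ^ k = d 0 + 2 ^ w * ∑ k ∈ range n, d (k + 1) * (2 ^ w) ^ k := fun d => by
      rw [sum_range_succ', pow_zero, mul_one, add_comm, mul_sum]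
      exact congrArg _ (sum_congr rfl fun k _ => by rw [pow_succ', mul_left_comm])
    rw [e c, e fun _ => m] at h
    cases k with
    | zero =>
      have := congrArg (· % 2 ^ w) h
      simpa only [Nat.and_mod_two_pow, Nat.add_mul_mod_self_left, Nat.mod_eq_of_lt hm, Nat.mod_eq_of_lt (hc 0), Nat.zero_mod] using this
    | succ k =>
      have := congrArg (· / 2 ^ w) h
      simp only [Nat.and_div_two_pow, Nat.add_mul_div_left _ _ (Nat.two_pow_pos w), Nat.div_eq_of_lt hm, Nat.div_eq_of_lt (hc 0),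
        Nat.zero_div, Nat.zero_add] at this
      exact land_dig w m hm n (fun k => c (k + 1)) (fun k => hc _) this k (Nat.lt_of_succ_lt_succ hk)

/-- the sum of `n` powers of `2 ^ w` -/
private def jj (w n : ℕ) : ℕ := Nat.div (Nat.sub (Nat.pow 2 (Nat.mul w n)) 1) (Nat.sub (Nat.pow 2 w) 1)

private theorem jj_eq {w : ℕ} (hw : w ≠ 0) (n : ℕ) : jj w n = ∑ k ∈ range n, (2 ^ w) ^ k := by
  rw [Nat.geomSum_eq (Nat.one_lt_two_pow hw), ← pow_mul]; rfl

/-- all digits are divisible by `2 ^ e` -/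
private def tst (n e : ℕ) (N : ℤ) : Bool :=
  Nat.beq (Nat.land (N + Int.ofNat (Nat.mul (Nat.pow 2 40) (Nat.mul (jj 48 n) (jj (Nat.mul 48 n) n)))).toNat
    (Nat.mul (Nat.sub (Nat.pow 2 e) 1) (Nat.mul (jj 48 n) (jj (Nat.mul 48 n) n)))) 0

private theorem key {n e : ℕ} (hn : n ≠ 0) (he : e ≤ 40) (d : ℕ → ℕ → ℤ) (hd : ∀ a b, |d a b| < 2 ^ 40)
    (h : tst n e (∑ b ∈ range n, (∑ a ∈ range n, d a b * (2 ^ 48) ^ a) * (2 ^ (48 * n)) ^ b) = true) (a b : ℕ) (ha : a < n) (hb : b < n) :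
    2 ^ e ∣ d a b := by
  have h1 : ∀ a b, (((d a b + 2 ^ 40).toNat : ℕ) : ℤ) = d a b + 2 ^ 40 := fun a b =>
    Int.toNat_of_nonneg (by linarith only [(abs_lt.1 (hd a b)).1])
  have h2 : ∀ a b, (d a b + 2 ^ 40).toNat < 2 ^ 48 := fun a b => by
    have := (abs_lt.1 (hd a b)).2
    have := h1 a b
    omega
  have h3 : 2 ^ e - 1 < 2 ^ 48 := lt_of_le_of_lt (Nat.sub_le _ _) (Nat.pow_lt_pow_right (by decide) (by omega))
  have h4 := Nat.eq_of_beq_eq_true h
  have e1 : (∑ b ∈ range n, (∑ a ∈ range n, d a b * (2 ^ 48) ^ a) * (2 ^ (48 * n)) ^ b) +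
      Int.ofNat (Nat.mul (Nat.pow 2 40) (Nat.mul (jj 48 n) (jj (Nat.mul 48 n) n))) =
      ((∑ b ∈ range n, (∑ a ∈ range n, (d a b + 2 ^ 40).toNat * (2 ^ 48) ^ a) * (2 ^ (48 * n)) ^ b : ℕ) : ℤ) := by
    show _ + ((2 ^ 40 * (jj 48 n * jj (48 * n) n) : ℕ) : ℤ) = _
    rw [jj_eq (by decide), jj_eq (Nat.mul_ne_zero (by decide) hn)]
    simp only [Nat.cast_sum, Nat.cast_mul, Nat.cast_pow, Nat.cast_ofNat, h1, add_mul, sum_add_distrib]
    rw [← mul_sum, ← mul_sum, mul_assoc]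
  have e2 : Nat.mul (Nat.sub (Nat.pow 2 e) 1) (Nat.mul (jj 48 n) (jj (Nat.mul 48 n) n)) =
      ∑ b ∈ range n, (∑ a ∈ range n, (2 ^ e - 1) * (2 ^ 48) ^ a) * (2 ^ (48 * n)) ^ b := by
    show (2 ^ e - 1) * (jj 48 n * jj (48 * n) n) = _
    rw [jj_eq (by decide), jj_eq (Nat.mul_ne_zero (by decide) hn), ← mul_sum, ← mul_sum, mul_assoc]
  rw [e1, e2, Int.toNat_natCast] at h4
  have h5 := land_dig 48 _ h3 n _ (fun k => h2 k b) (land_dig (48 * n) _ (by rw [pow_mul]; exact sum_lt _ _ (fun _ => h3) n) n _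
    (fun k => by rw [pow_mul]; exact sum_lt _ _ (fun a => h2 a k) n) h4 b hb) a ha
  rw [Nat.and_two_pow_sub_one_eq_mod] at h5
  have h6 : ((2 ^ e : ℕ) : ℤ) ∣ d a b + 2 ^ 40 := h1 a b ▸ Int.natCast_dvd_natCast.2 (Nat.dvd_of_mod_eq_zero h5)
  rw [Nat.cast_pow, Nat.cast_ofNat] at h6
  exact (dvd_add_left (pow_dvd_pow 2 he)).1 h6

private theorem abs_sum {f : ℕ → ℤ} {c : ℤ} (h : ∀ i, |f i| ≤ c) : |∑ i ∈ range 24, f i| ≤ 24 * c :=
  (abs_sum_le_sum_abs _ _).trans ((sum_le_card_nsmul _ _ c fun i _ => h i).trans (by rw [card_range, nsmul_eq_mul]; rfl))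

private theorem abs_mul' {a b c d : ℤ} (h : |a| ≤ c) (h' : |b| ≤ d) : |a * b| ≤ c * d :=
  (abs_mul a b).trans_le (mul_le_mul h h' (abs_nonneg _) ((abs_nonneg _).trans h))

/-- matrix times vector -/
private noncomputable def mv (A : List (List ℤ)) (l : List ℤ) : List ℤ := List.rec [] (fun r _ ih => dk r l 0 0 :: ih) A

private theorem mv_len (l : List ℤ) : ∀ A : List (List ℤ), (mv A l).length = A.length
  | [] => rfl
  | _ :: A => congrArg (· + 1) (mv_len l A)

private theorem mv_get (l : List ℤ) : ∀ (A : List (List ℤ)) (i : ℕ), (mv A l).getD i 0 = dotL (A.getD i []) l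
  | [], _ => rfl
  | r :: _, 0 => dk0 r l
  | _ :: A, i + 1 => mv_get l A i

private theorem mv_sum {A : List (List ℤ)} (h : sh A = true) (l : List ℤ) (i : ℕ) :
    (mv A l).getD i 0 = ∑ j ∈ range 24, en A i j * l.getD j 0 := (mv_get l A i).trans (sum_range_getD _ l 24 (sh_le h i)).symm

/-- powers -/
private def pw (w : ℕ) : List ℤ := (List.range 24).map fun j => Int.ofNat (Nat.pow 2 (Nat.mul w j))

private theorem pw_get (w : ℕ) {j : ℕ} (hj : j ∈ range 24) : (pw w).getD j 0 = (2 ^ w) ^ j := by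
  rw [pw, List.getD_eq_getElem _ _ (by rw [List.length_map, List.length_range]; exact mem_range.1 hj), List.getElem_map,
    List.getElem_range, ← pow_mul]
  exact Nat.cast_pow 2 _

/-- the product of the transpose of `A` and `B` is `c` times the identity -/
private noncomputable def prd (A B : List (List ℤ)) (c : ℤ) : Bool :=
  tst 24 40 (dk (mv A (pw 48)) (mv B (pw 1152)) 0 0 - c * dk (pw 48) (pw 1152) 0 0)

private theorem prd_spec {A B : List (List ℤ)} {c : ℤ} (hA : sh A = true) (hB : sh B = true) (hl : A.length = 24) (hc : |c| ≤ 64)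
    (h : prd A B c = true) {a b : ℕ} (ha : a < 24) (hb : b < 24) : ∑ i ∈ range 24, en A i a * en B i b = if a = b then c else 0 := by
  have h1 : ∀ a b, |∑ i ∈ range 24, en A i a * en B i b - if a = b then c else 0| < 2 ^ 40 := fun a b =>
    lt_of_le_of_lt ((abs_sub _ _).trans (add_le_add (abs_sum fun i => abs_mul' (sh_abs hA i a) (sh_abs hB i b))
      (show _ ≤ 64 by split_ifs; exacts [hc, by decide]))) (by decide)
  refine sub_eq_zero.1 (Int.eq_zero_of_abs_lt_dvd (key (n := 24) (by decide) le_rfl _ h1 ?_ a b ha hb) (h1 a b))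
  rw [← h, prd, dk0, dk0, ← sum_range_getD _ _ 24 ((mv_len _ A).trans hl).le, ← sum_range_getD (pw 48) _ 24 (by decide)]
  congr 1
  simp only [sub_mul, sum_sub_distrib, mv_sum hA, mv_sum hB]
  congr 1
  · simp only [sum_mul, mul_sum]
    rw [sum_comm]
    refine (sum_congr rfl fun a _ => sum_comm).trans (sum_comm.trans (sum_congr rfl fun i _ => sum_comm.trans
      (sum_congr rfl fun b hb => sum_congr rfl fun a ha => ?_)))
    rw [pw_get _ ha, pw_get _ hb]; ring
  · rw [mul_sum]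
    refine sum_congr rfl fun b hb => ?_
    rw [sum_eq_single b (fun a _ h => by rw [if_neg h, zero_mul]) (fun h => absurd hb h), if_pos rfl, pw_get _ hb, pw_get _ hb, mul_assoc]

/-- the rows, packed -/
private noncomputable def pk (X : ℤ) (A : List (List ℤ)) : List ℤ :=
  List.rec (List.replicate 24 0) (fun g _ s => List.zipWith (fun a b => a + X * b) g s) A

private theorem pk_spec (X : ℤ) : ∀ A : List (List ℤ), sh A = true → (pk X A).length = 24 ∧
    ∀ j < 24, (pk X A).getD j 0 = ∑ a ∈ range A.length, en A a j * X ^ a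
  | [], _ => ⟨rfl, show ∀ j < 24, (List.replicate 24 (0 : ℤ)).getD j 0 = 0 by decide⟩
  | g :: A, h => by
    have hg := sh_len h List.mem_cons_self
    obtain ⟨h1, h2⟩ := pk_spec X A (Bool.and_eq_true_iff.1 h).2
    have h3 : (List.zipWith (fun a b => a + X * b) g (pk X A)).length = 24 := by rw [List.length_zipWith, hg, h1]; rfl
    refine ⟨h3, fun j hj => ?_⟩
    show (List.zipWith (fun a b => a + X * b) g (pk X A)).getD j 0 = _
    rw [List.getD_eq_getElem _ _ (h3 ▸ hj), List.getElem_zipWith, ← List.getD_eq_getElem _ 0, ← List.getD_eq_getElem _ 0, h2 j hj,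
      List.length_cons, sum_range_succ', add_comm, pow_zero, mul_one, mul_sum]
    exact congrArg₂ _ (sum_congr rfl fun a _ => by rw [pow_succ', mul_left_comm]; rfl) rfl

private theorem sh_gens : sh gens = true ∧ gens.length = 49 := by decide +kernel

/-- the packed generators -/
private def cf (w : ℕ) : List ℤ :=
  ((List.range 23).map fun j => Int.ofNat (Nat.add (Nat.add (Nat.pow 2 (Nat.add (Nat.mul w j) 2)) (Nat.shiftLeft (Nat.mod (Nat.shiftLeft
    ([0, 5, 7, 10, 11, 14, 15, 17, 19, 20, 21, 22].foldr (fun t s => Nat.add (Nat.pow 2 (Nat.mul w t)) s) 0) (Nat.mul w j))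
    (Nat.sub (Nat.pow 2 (Nat.mul w 23)) 1)) (Nat.succ (Nat.mul w 23))))
    (Nat.add (Nat.pow 2 (Nat.succ (Nat.mul w 47))) (Nat.pow 2 (Nat.mul w 48))))) ++
  [Int.subNatNat (Nat.add (Nat.pow 2 (Nat.add (Nat.mul w 46) 3)) (Nat.pow 2 (Nat.succ (Nat.mul w 47))))
    (Nat.add (Nat.mul 4 (jj w 23)) (Nat.mul 3 (Nat.pow 2 (Nat.mul w 48))))]

private theorem cf_eq : cf 2352 = pk (Int.ofNat (Nat.pow 2 2352)) gens ∧ cf 48 = pk (Int.ofNat (Nat.pow 2 48)) gens := by decide +kernel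

/-- the values of the form on the generators are divisible by 64 -/
private noncomputable def prs (R : List (List ℤ)) : Bool := tst 49 6 (dk (cf 2352) (mv R (cf 48)) 0 0)

private theorem prs_spec {R : List (List ℤ)} (hR : sh R = true) (h : prs R = true) (a b : ℕ) (ha : a < 49) (hb : b < 49) :
    64 ∣ ∑ i ∈ range 24, en gens b i * ∑ j ∈ range 24, en R i j * en gens a j := by
  refine key (n := 49) (e := 6) (by decide) (by decide) (fun a b => ∑ i ∈ range 24, en gens b i * ∑ j ∈ range 24, en R i j * en gens a j)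
    (fun a b => lt_of_le_of_lt (abs_sum fun i => abs_mul' (sh_abs sh_gens.1 b i)
      (abs_sum fun j => abs_mul' (sh_abs hR i j) (sh_abs sh_gens.1 a j))) (by decide)) ?_ a b ha hb
  have e : ∀ w : ℕ, Int.ofNat (Nat.pow 2 w) = 2 ^ w := fun w => Nat.cast_pow 2 w
  rw [← h, prs, cf_eq.1, cf_eq.2, dk0, ← sum_range_getD _ _ 24 (pk_spec _ _ sh_gens.1).1.le, e, e]
  congr 1
  rw [sum_congr rfl fun i hi => congrArg₂ _ ((pk_spec _ _ sh_gens.1).2 i (mem_range.1 hi)) ((mv_sum hR _ i).trans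
    (sum_congr rfl fun j hj => congrArg _ ((pk_spec _ _ sh_gens.1).2 j (mem_range.1 hj)))), sh_gens.2]
  simp only [sum_mul, mul_sum]
  refine (sum_congr rfl fun b _ => sum_comm).trans (sum_comm.trans (sum_congr rfl fun i _ => ?_))
  refine (sum_congr rfl fun b _ => sum_comm).trans (sum_comm.trans (sum_congr rfl fun j _ => sum_comm.trans ?_))
  exact sum_congr rfl fun a _ => sum_congr rfl fun b _ => by ring

/-- a basis among the generators -/
private def sel : List ℕ := [0, 2, 4, 5, 9, 12, 13, 15, 16, 21, 22, 23, 24, 27, 29, 36, 38, 39, 40, 42, 43, 44, 46, 48]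

/-- the dual basis -/
private def du : List (List ℤ) := [
  [2, -22, 0, -100, 0, 0, -12, -178, -162, 0, 26, -228, 0, 0, 412, 0, 0, 220, 294, -358, 106, 0, 0, 0],
  [0, -22, 2, -94, 0, 0, -12, -170, -152, 0, 28, -214, 0, 0, 388, 0, 0, 206, 278, -338, 100, 0, 0, 0],
  [0, -22, 0, -90, 2, 0, -10, -164, -148, 0, 26, -206, 0, 0, 374, 0, 0, 198, 268, -324, 96, 0, 0, 0],
  [0, 0, 0, 8, 0, 2, 2, 14, 12, 0, -2, 18, 0, 0, -32, 0, 0, -18, -22, 28, -10, 0, 0, 0],
  [0, 4, 0, 28, 0, 0, 4, 50, 46, 2, -6, 66, 0, 0, -118, 0, 0, -62, -84, 102, -32, 0, 0, 0],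
  [0, -4, 0, -18, 0, 0, -2, -34, -30, 0, 6, -40, 2, 0, 74, 0, 0, 40, 52, -64, 18, 0, 0, 0],
  [0, 6, 0, 30, 0, 0, 4, 56, 50, 0, -8, 72, 0, 2, -130, 0, 0, -70, -92, 114, -34, 0, 0, 0],
  [0, 20, 0, 82, 0, 0, 10, 152, 134, 0, -26, 188, 0, 0, -344, 2, 0, -182, -246, 298, -88, 0, 0, 0],
  [0, -10, 0, -42, 0, 0, -6, -76, -70, 0, 12, -98, 0, 0, 176, 0, 2, 92, 126, -152, 46, 0, 0, 0],
  [0, -12, 0, -62, 0, 0, -8, -108, -100, 0, 14, -142, 0, 0, 254, 0, 0, 136, 182, -222, 66, 2, 0, 0],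
  [0, 6, 0, 28, 0, 0, 2, 50, 44, 0, -8, 62, 0, 0, -114, 0, 0, -60, -80, 98, -30, 0, 2, 0],
  [0, 16, 0, 64, 0, 0, 8, 116, 104, 0, -20, 144, 0, 0, -264, 0, 0, -140, -188, 228, -68, 0, 0, 0],
  [0, 4, 0, 8, 0, 0, 0, 16, 12, 0, -4, 16, 0, 0, -32, 0, 0, -16, -24, 28, -8, 0, 0, 0],
  [0, 0, 0, -4, 0, 0, 0, -4, -4, 0, 0, -8, 0, 0, 12, 0, 0, 8, 8, -12, 4, 0, 0, 0],
  [0, -16, 0, -72, 0, 0, -8, -128, -116, 0, 20, -164, 0, 0, 296, 0, 0, 156, 212, -256, 76, 0, 0, 0],
  [0, -4, 0, -12, 0, 0, 0, -24, -20, 0, 4, -28, 0, 0, 52, 0, 0, 28, 36, -44, 12, 0, 0, 0],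
  [0, 8, 0, 36, 0, 0, 4, 64, 60, 0, -8, 84, 0, 0, -152, 0, 0, -80, -108, 132, -40, 0, 0, 0],
  [0, 0, 0, -8, 0, 0, 0, -12, -12, 0, 0, -16, 0, 0, 28, 0, 0, 16, 20, -24, 8, 0, 0, 0],
  [0, 12, 0, 60, 0, 0, 8, 108, 96, 0, -16, 136, 0, 0, -248, 0, 0, -132, -176, 216, -64, 0, 0, 0],
  [0, 16, 0, 68, 0, 0, 8, 124, 112, 0, -20, 156, 0, 0, -284, 0, 0, -152, -204, 248, -72, 0, 0, 0],
  [0, -8, 0, -36, 0, 0, -4, -68, -60, 0, 12, -84, 0, 0, 152, 0, 0, 80, 108, -132, 40, 0, 0, 0],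
  [0, 20, 0, 88, 0, 0, 12, 160, 144, 0, -24, 204, 0, 0, -368, 0, 0, -196, -264, 320, -96, 0, 0, 0],
  [1, -43, 1, -175, 1, 1, -23, -315, -287, 1, 49, -399, 1, 1, 725, 1, 1, 385, 521, -631, 185, 1, 1, 1],
  [0, -40, 0, -160, 0, 0, -24, -296, -264, 0, 48, -368, 0, 0, 680, 0, 0, 360, 488, -592, 176, 0, 0, 0]]

private theorem du_ok : (sh du = true ∧ du.length = 24 ∧ du.all leechB = true) ∧ sh (sel.map fun a => gens.getD a []) = true ∧
    prd du (sel.map fun a => gens.getD a []) 8 = true ∧ ∀ s < 24, sel.getD s 0 < 49 ∧ (sel.map fun a => gens.getD a []).getD s [] =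
      gens.getD (sel.getD s 0) [] := by decide +kernel

private theorem maskL_lt : ∀ l : List ℤ, maskL l < 2 ^ l.length
  | [] => Nat.one_pos
  | a :: t => by
    have := maskL_lt t
    show (a % 2).toNat + 2 * maskL t < 2 ^ (t.length + 1)
    omega

private theorem leechB_of {l : List ℤ} (hl : l.length = 24) (h : vec l ∈ leechLattice) : leechB l = true := by
  obtain ⟨m, z, h1, h2, h3⟩ := (LeechSet.mem_leechLattice_iff' _).1 h
  have h0 : l.headD 0 = m + 2 * z (GolayBase.pt 0) := by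
    rw [← h1, vec_apply, GolayBase.idx_pt (by decide)]; cases l <;> rfl
  have h4 : ∀ i (hi : i < l.length), l[i] = m + 2 * z (GolayBase.pt i) := fun i hi => by
    rw [← h1, vec_apply, GolayBase.idx_pt (hl ▸ hi), List.getD_eq_getElem _ _ hi]
  rw [sum_vec l hl.le] at h2
  have h5 := (GolayBase.mem_golayCode_iff _).1 (golayCode.add_mem h3 (golayCode.smul_mem ((m / 2 : ℤ) : ZMod 2) LeechSet.one_mem_golayCode))
  simp only [leechB, Bool.and_eq_true, List.all_eq_true, decide_eq_true_eq]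
  refine ⟨⟨⟨hl ▸ Nat.beq_refl _, fun a ha => ?_⟩, by have : l.sum % 8 = 4 * m % 8 := h2; omega⟩, ?_⟩
  · obtain ⟨i, hi, rfl⟩ := List.getElem_of_mem ha
    have := h4 i hi
    (clear * - h0 this; omega)
  · convert h5 using 2
    refine GolayBase.eq_of_testBit_idx (by have := maskL_lt (l.map fun a => (a - l.headD 0 % 2) / 2); rwa [List.length_map, hl] at this)
      (GolayBase.maskW_lt _) fun p => ?_
    have hp : GolayBase.idx p < l.length := hl ▸ GolayBase.idx_lt p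
    rw [testBit_maskL, GolayBase.testBit_maskW, List.getD_eq_getElem _ _ (by rwa [List.length_map]), List.getElem_map, h4 _ hp,
      GolayBase.pt_idx, decide_eq_decide, Pi.add_apply, Pi.smul_apply, Pi.one_apply, smul_eq_mul, mul_one, ← Int.cast_add, Ne,
      ZMod.intCast_zmod_eq_zero_iff_dvd, Nat.cast_ofNat]
    omega

private theorem pres_of {A : List (List ℤ)} (hl : A.length = 24)
    (h : ∀ a b, a < 49 → b < 49 → 64 ∣ ∑ i ∈ range 24, en gens b i * ∑ j ∈ range 24, en A i j * en gens a j) : presB A = true := by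
  obtain ⟨⟨d1, d2, d3⟩, d4, d5, d6⟩ := du_ok
  refine List.all_eq_true.2 fun g hg => ?_
  obtain ⟨a, ha, rfl⟩ := List.getElem_of_mem hg
  rw [← List.getD_eq_getElem _ [] ha]
  have e1 : ∀ i, dotL (gens.getD a []) (A.getD i []) = ∑ j ∈ range 24, en A i j * en gens a j := fun i =>
    (sum_range_getD _ _ 24 (sh_le sh_gens.1 a)).symm.trans (sum_congr rfl fun j _ => mul_comm _ _)
  have h1 : ∀ s, ∃ c : ℤ, s < 24 → ∑ i ∈ range 24, en (sel.map fun a => gens.getD a []) s i * dotL (gens.getD a []) (A.getD i []) = 64 * c :=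
    fun s => by
      by_cases hs : s < 24
      · obtain ⟨c, hc⟩ := h a _ (sh_gens.2 ▸ ha) (d6 s hs).1
        exact ⟨c, fun _ => by simp only [e1]; rw [← hc]; unfold en; rw [(d6 s hs).2]⟩
      · exact ⟨0, fun h => absurd h hs⟩
  choose c hc using h1
  have h2 : ∀ i < 24, dotL (gens.getD a []) (A.getD i []) = 8 * ∑ s ∈ range 24, c s * en du s i := fun i hi => by
    refine mul_left_cancel₀ (show (8 : ℤ) ≠ 0 by decide) ?_
    have e2 : ∑ j ∈ range 24, (∑ s ∈ range 24, en du s i * en (sel.map fun a => gens.getD a []) s j) * dotL (gens.getD a []) (A.getD j []) =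
        8 * dotL (gens.getD a []) (A.getD i []) := by
      rw [sum_eq_single i (fun j hj h => by rw [prd_spec d1 d4 d2 (by decide) d5 hi (mem_range.1 hj), if_neg h.symm, zero_mul])
        (fun h => absurd (mem_range.2 hi) h), prd_spec d1 d4 d2 (by decide) d5 hi hi, if_pos rfl]
    rw [← e2]
    simp only [sum_mul, mul_sum, mul_assoc]
    rw [sum_comm]
    exact sum_congr rfl fun s hs => by rw [← mul_sum, hc s (mem_range.1 hs)]; ring
  refine Bool.and_eq_true_iff.2 ⟨List.all_eq_true.2 fun r hr => decide_eq_true ?_, leechB_of (by rw [List.length_map, hl]) ?_⟩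
  · obtain ⟨i, hi, rfl⟩ := List.getElem_of_mem hr
    rw [← List.getD_eq_getElem _ [] hi, h2 i (hl ▸ hi)]
    exact Int.mul_emod_right _ _
  · have e3 : vec (A.map fun r => dotL (gens.getD a []) r / 8) = ∑ s ∈ range 24, c s • vec (du.getD s []) := funext fun p => by
      have hp : GolayBase.idx p < A.length := hl ▸ GolayBase.idx_lt p
      rw [vec_apply, List.getD_eq_getElem _ _ (by rwa [List.length_map]), List.getElem_map, ← List.getD_eq_getElem _ [] hp,
        h2 _ (GolayBase.idx_lt p), Int.mul_ediv_cancel_left _ (by decide), Finset.sum_apply]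
      rfl
    rw [e3]
    exact sum_mem fun s hs => leechLattice.zsmul_mem
      (vec_mem_of_leechB (List.all_eq_true.1 d3 _ (getD_mem_of_lt _ [] (d2 ▸ mem_range.1 hs)))) _

/-- all checks -/
private noncomputable def okq (R C : List (List ℤ)) : Bool :=
  Nat.beq R.length 24 && Nat.beq C.length 24 && sh R && sh C && trZ R C && prd R R 64 && prd C C 64 && prs R

private theorem ok_of {R C : List (List ℤ)} (h : okq R C = true) : Ok R C := by
  simp only [okq, Bool.and_eq_true] at h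
  obtain ⟨⟨⟨⟨⟨⟨⟨h1, h2⟩, h3⟩, h4⟩, h5⟩, h6⟩, h7⟩, h8⟩ := h
  have hR := Nat.eq_of_beq_eq_true h1
  have hC := Nat.eq_of_beq_eq_true h2
  have ht : ∀ i < 24, ∀ j < 24, en R i j = en C j i := fun i hi j hj => trZ_spec h5 i j (hR ▸ hi) (hC ▸ hj)
  have ble : ∀ {M : List (List ℤ)}, sh M = true → (M.all fun r => Nat.ble r.length 24) = true := fun hM =>
    List.all_eq_true.2 fun r hr => Nat.ble_eq_true_of_le (sh_len hM hr).le
  have orth : ∀ {A B : List (List ℤ)}, sh A = true → sh B = true → A.length = 24 → (∀ i < 24, ∀ j < 24, en A i j = en B j i) →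
      prd A A 64 = true → orthB B = true := fun {A B} hA hB hl ht hp =>
    List.all_eq_true.2 fun i hi => List.all_eq_true.2 fun j hj => decide_eq_true (by
      rw [← prd_spec hA hA hl (by decide) hp (List.mem_range.1 hi) (List.mem_range.1 hj), ← sum_range_getD _ _ 24 (sh_le hB i)]
      exact sum_congr rfl fun k hk => (congrArg₂ _ (ht k (mem_range.1 hk) i (List.mem_range.1 hi))
        (ht k (mem_range.1 hk) j (List.mem_range.1 hj))).symm)
  refine ⟨hR, hC, ble h3, ble h4, List.all_eq_true.2 fun i hi => List.all_eq_true.2 fun j hj =>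
    decide_eq_true (ht i (List.mem_range.1 hi) j (List.mem_range.1 hj)), orth h4 h3 hC (fun i hi j hj => (ht j hj i hi).symm) h7,
    orth h3 h4 hR ht h6, pres_of hR (prs_spec h3 h8), pres_of hC fun a b ha hb => ?_⟩
  convert prs_spec h3 h8 b a hb ha using 1
  simp only [mul_sum]
  rw [sum_comm]
  exact sum_congr rfl fun i hi => sum_congr rfl fun j hj => by rw [ht i (mem_range.1 hi) j (mem_range.1 hj)]; ring

end Cfsg.Agent.H843.IMC.Co2D.Fq

namespace Cfsg.Agent.H843.IMC.Co2D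

open Cfsg Cfsg.Agent.SporadicStructure.Co0Matrix Cfsg.Agent.CoOneType.CoEval
open Cfsg.Agent.LThreeCo1.Ev

/-- matrix -/
def R0 : List (List ℤ) := [
  [4, 0, 0, -4, 0, 0, 0, 0, 0, 0, 0, 0, 4, 0, 0, 0, 0, 0, 0, 0, 4, 0, 0, 0],
  [0, 0, -4, 0, 0, 0, -4, 0, 0, 0, 0, 0, 0, 0, 0, 0, -4, 0, 0, 0, 0, 0, 0, 4],
  [0, -4, 0, 0, 0, 4, 0, 0, 4, 4, 0, 0, 0, 0, 0, 0, 0, 0, 0, 0, 0, 0, 0, 0],
  [-4, 0, 0, -4, 0, 0, 0, 0, 0, 0, 0, 0, 4, 0, 0, 0, 0, 0, 0, 0, -4, 0, 0, 0],
  [0, 0, 0, 0, 4, 0, 0, 0, 0, 0, 0, 0, 0, 0, 4, 0, 0, -4, 0, 0, 0, 4, 0, 0],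
  [0, 4, 0, 0, 0, 4, 0, 0, -4, 4, 0, 0, 0, 0, 0, 0, 0, 0, 0, 0, 0, 0, 0, 0],
  [0, 0, 0, 0, 0, 0, 0, 4, 0, 0, 0, -4, 0, 0, 0, 0, 0, 0, -4, 0, 0, 0, -4, 0],
  [0, 0, 0, 0, 0, 0, 0, 4, 0, 0, 0, 4, 0, 0, 0, 0, 0, 0, -4, 0, 0, 0, 4, 0],
  [0, 0, 0, 0, 0, 0, 0, 0, 0, 0, 4, 0, 0, -4, 0, 4, 0, 0, 0, 4, 0, 0, 0, 0],
  [0, 0, 0, 0, 0, 0, 0, 4, 0, 0, 0, -4, 0, 0, 0, 0, 0, 0, 4, 0, 0, 0, 4, 0],
  [0, 0, 0, 0, 0, 0, 0, 0, 0, 0, 4, 0, 0, -4, 0, -4, 0, 0, 0, -4, 0, 0, 0, 0],
  [0, -4, 0, 0, 0, 4, 0, 0, -4, -4, 0, 0, 0, 0, 0, 0, 0, 0, 0, 0, 0, 0, 0, 0],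
  [4, 0, 0, 4, 0, 0, 0, 0, 0, 0, 0, 0, 4, 0, 0, 0, 0, 0, 0, 0, -4, 0, 0, 0],
  [0, 0, 0, 0, 0, 0, 0, 4, 0, 0, 0, 4, 0, 0, 0, 0, 0, 0, 4, 0, 0, 0, -4, 0],
  [0, 0, 0, 0, -4, 0, 0, 0, 0, 0, 0, 0, 0, 0, 4, 0, 0, 4, 0, 0, 0, 4, 0, 0],
  [0, 0, -4, 0, 0, 0, 4, 0, 0, 0, 0, 0, 0, 0, 0, 0, 4, 0, 0, 0, 0, 0, 0, 4],
  [0, 0, 0, 0, 0, 0, 0, 0, 0, 0, 4, 0, 0, 4, 0, 4, 0, 0, 0, -4, 0, 0, 0, 0],
  [0, 0, 0, 0, 4, 0, 0, 0, 0, 0, 0, 0, 0, 0, -4, 0, 0, 4, 0, 0, 0, 4, 0, 0],
  [0, 0, 0, 0, 0, 0, 0, 0, 0, 0, 4, 0, 0, 4, 0, -4, 0, 0, 0, 4, 0, 0, 0, 0],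
  [0, 4, 0, 0, 0, 4, 0, 0, 4, -4, 0, 0, 0, 0, 0, 0, 0, 0, 0, 0, 0, 0, 0, 0],
  [0, 0, 0, 0, -4, 0, 0, 0, 0, 0, 0, 0, 0, 0, -4, 0, 0, -4, 0, 0, 0, 4, 0, 0],
  [-4, 0, 0, 4, 0, 0, 0, 0, 0, 0, 0, 0, 4, 0, 0, 0, 0, 0, 0, 0, 4, 0, 0, 0],
  [0, 0, 4, 0, 0, 0, -4, 0, 0, 0, 0, 0, 0, 0, 0, 0, 4, 0, 0, 0, 0, 0, 0, 4],
  [0, 0, 4, 0, 0, 0, 4, 0, 0, 0, 0, 0, 0, 0, 0, 0, -4, 0, 0, 0, 0, 0, 0, 4]]

theorem ok0 : Ok R0 (tr R0) := Fq.ok_of (by decide +kernel)

/-- matrix -/
def R1 : List (List ℤ) := [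
  [4, 0, 0, 4, 0, 0, 0, 0, 0, 0, 0, 0, 4, 0, 0, 0, 0, 0, 0, 0, 0, -4, 0, 0],
  [0, 0, 4, 0, 0, -4, 0, 0, 0, 0, 0, 4, 0, 0, 0, 0, 0, 0, 0, 4, 0, 0, 0, 0],
  [0, 4, 0, 0, 0, 0, 0, 0, 0, 0, 0, 0, 0, 0, 0, -4, 0, 0, 0, 0, 0, 0, 4, 4],
  [4, 0, 0, 4, 0, 0, 0, 0, 0, 0, 0, 0, -4, 0, 0, 0, 0, 0, 0, 0, 0, 4, 0, 0],
  [0, 0, 0, 0, 0, 0, 0, 0, -4, 0, -4, 0, 0, 0, 0, 0, -4, 0, 4, 0, 0, 0, 0, 0],
  [0, 0, 4, 0, 0, 4, 0, 0, 0, 0, 0, -4, 0, 0, 0, 0, 0, 0, 0, 4, 0, 0, 0, 0],
  [0, 4, 0, 0, 0, 0, 0, 0, 0, 0, 0, 0, 0, 0, 0, 4, 0, 0, 0, 0, 0, 0, 4, -4],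
  [0, 0, 0, 0, 0, 0, -4, 4, 0, 4, 0, 0, 0, 4, 0, 0, 0, 0, 0, 0, 0, 0, 0, 0],
  [0, 0, 4, 0, 0, -4, 0, 0, 0, 0, 0, -4, 0, 0, 0, 0, 0, 0, 0, -4, 0, 0, 0, 0],
  [0, 0, 4, 0, 0, 4, 0, 0, 0, 0, 0, 4, 0, 0, 0, 0, 0, 0, 0, -4, 0, 0, 0, 0],
  [0, 0, 0, 0, 4, 0, 0, 0, 0, 0, 0, 0, 0, 0, 4, 0, 0, 4, 0, 0, -4, 0, 0, 0],
  [0, 0, 0, 0, 0, 0, 4, -4, 0, 4, 0, 0, 0, 4, 0, 0, 0, 0, 0, 0, 0, 0, 0, 0],
  [4, 0, 0, -4, 0, 0, 0, 0, 0, 0, 0, 0, 4, 0, 0, 0, 0, 0, 0, 0, 0, 4, 0, 0],
  [0, 0, 0, 0, 4, 0, 0, 0, 0, 0, 0, 0, 0, 0, -4, 0, 0, -4, 0, 0, -4, 0, 0, 0],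
  [0, 0, 0, 0, 0, 0, 0, 0, -4, 0, -4, 0, 0, 0, 0, 0, 4, 0, -4, 0, 0, 0, 0, 0],
  [0, 0, 0, 0, -4, 0, 0, 0, 0, 0, 0, 0, 0, 0, 4, 0, 0, -4, 0, 0, -4, 0, 0, 0],
  [0, -4, 0, 0, 0, 0, 0, 0, 0, 0, 0, 0, 0, 0, 0, -4, 0, 0, 0, 0, 0, 0, 4, -4],
  [0, 0, 0, 0, 0, 0, 0, 0, 4, 0, -4, 0, 0, 0, 0, 0, -4, 0, -4, 0, 0, 0, 0, 0],
  [0, 0, 0, 0, 0, 0, -4, -4, 0, 4, 0, 0, 0, -4, 0, 0, 0, 0, 0, 0, 0, 0, 0, 0],
  [0, 0, 0, 0, -4, 0, 0, 0, 0, 0, 0, 0, 0, 0, -4, 0, 0, 4, 0, 0, -4, 0, 0, 0],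
  [4, 0, 0, -4, 0, 0, 0, 0, 0, 0, 0, 0, -4, 0, 0, 0, 0, 0, 0, 0, 0, -4, 0, 0],
  [0, 0, 0, 0, 0, 0, 0, 0, 4, 0, -4, 0, 0, 0, 0, 0, 4, 0, 4, 0, 0, 0, 0, 0],
  [0, 0, 0, 0, 0, 0, 4, 4, 0, 4, 0, 0, 0, -4, 0, 0, 0, 0, 0, 0, 0, 0, 0, 0],
  [0, -4, 0, 0, 0, 0, 0, 0, 0, 0, 0, 0, 0, 0, 0, 4, 0, 0, 0, 0, 0, 0, 4, 4]]

theorem ok1 : Ok R1 (tr R1) := Fq.ok_of (by decide +kernel)

/-- matrix -/
def R2 : List (List ℤ) := [
  [8, 0, 0, 0, 0, 0, 0, 0, 0, 0, 0, 0, 0, 0, 0, 0, 0, 0, 0, 0, 0, 0, 0, 0],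
  [0, 0, 0, 0, 0, 0, 0, 0, 0, 0, 0, 0, 0, 0, 8, 0, 0, 0, 0, 0, 0, 0, 0, 0],
  [0, 0, 0, 0, 0, 0, 0, 0, 0, 8, 0, 0, 0, 0, 0, 0, 0, 0, 0, 0, 0, 0, 0, 0],
  [0, 0, 0, 0, 0, 0, 0, 0, 0, 0, 8, 0, 0, 0, 0, 0, 0, 0, 0, 0, 0, 0, 0, 0],
  [0, 0, 0, 0, 0, 0, 0, 0, 0, 0, 0, -8, 0, 0, 0, 0, 0, 0, 0, 0, 0, 0, 0, 0],
  [0, 0, 0, 0, 0, 0, 0, 8, 0, 0, 0, 0, 0, 0, 0, 0, 0, 0, 0, 0, 0, 0, 0, 0],
  [0, 0, 0, 0, 8, 0, 0, 0, 0, 0, 0, 0, 0, 0, 0, 0, 0, 0, 0, 0, 0, 0, 0, 0],
  [0, 0, 0, 0, 0, 0, 0, 0, 0, 0, 0, 0, 0, 0, 0, 0, 0, 0, 0, 0, 0, 0, 0, 8],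
  [0, 0, 0, 0, 0, 0, 0, 0, 0, 0, 0, 0, 0, 0, 0, 0, 0, 0, 0, 8, 0, 0, 0, 0],
  [0, 0, 0, 0, 0, 0, 0, 0, 0, 0, 0, 0, 0, 0, 0, 0, 0, 0, 0, 0, 0, 0, 8, 0],
  [0, 0, 0, -8, 0, 0, 0, 0, 0, 0, 0, 0, 0, 0, 0, 0, 0, 0, 0, 0, 0, 0, 0, 0],
  [0, 0, 0, 0, 0, 0, 0, 0, 0, 0, 0, 0, 0, 0, 0, 0, 0, 8, 0, 0, 0, 0, 0, 0],
  [0, 0, 0, 0, 0, 0, 0, 0, 0, 0, 0, 0, 8, 0, 0, 0, 0, 0, 0, 0, 0, 0, 0, 0],
  [0, 0, 0, 0, 0, 0, 0, 0, -8, 0, 0, 0, 0, 0, 0, 0, 0, 0, 0, 0, 0, 0, 0, 0],
  [0, 0, 0, 0, 0, 0, -8, 0, 0, 0, 0, 0, 0, 0, 0, 0, 0, 0, 0, 0, 0, 0, 0, 0],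
  [0, 0, 0, 0, 0, 0, 0, 0, 0, 0, 0, 0, 0, 0, 0, 0, 0, 0, -8, 0, 0, 0, 0, 0],
  [0, 0, 0, 0, 0, 0, 0, 0, 0, 0, 0, 0, 0, 0, 0, 8, 0, 0, 0, 0, 0, 0, 0, 0],
  [0, -8, 0, 0, 0, 0, 0, 0, 0, 0, 0, 0, 0, 0, 0, 0, 0, 0, 0, 0, 0, 0, 0, 0],
  [0, 0, 0, 0, 0, 0, 0, 0, 0, 0, 0, 0, 0, 8, 0, 0, 0, 0, 0, 0, 0, 0, 0, 0],
  [0, 0, 0, 0, 0, 0, 0, 0, 0, 0, 0, 0, 0, 0, 0, 0, -8, 0, 0, 0, 0, 0, 0, 0],
  [0, 0, 0, 0, 0, 0, 0, 0, 0, 0, 0, 0, 0, 0, 0, 0, 0, 0, 0, 0, 0, 8, 0, 0],
  [0, 0, 0, 0, 0, 0, 0, 0, 0, 0, 0, 0, 0, 0, 0, 0, 0, 0, 0, 0, -8, 0, 0, 0],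
  [0, 0, 8, 0, 0, 0, 0, 0, 0, 0, 0, 0, 0, 0, 0, 0, 0, 0, 0, 0, 0, 0, 0, 0],
  [0, 0, 0, 0, 0, 8, 0, 0, 0, 0, 0, 0, 0, 0, 0, 0, 0, 0, 0, 0, 0, 0, 0, 0]]

theorem ok2 : Ok R2 (tr R2) := Fq.ok_of (by decide +kernel)

/-- The matrices. -/
def M : ℕ → List (List ℤ)
  | 0 => R0
  | 1 => R1
  | 2 => R2
  | 3 => Cfsg.Agent.LThreeCo1Twelve.Data.M 1
  | _ => Cfsg.Agent.LThreeCo1Twelve.Data.M 2

theorem okM (i : ℕ) : Ok (M i) (tr (M i)) := by
  unfold M
  split
  · exact ok0
  · exact ok1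
  · exact ok2
  · exact Cfsg.Agent.LThreeCo1Twelve.Data.okM 1
  · exact Cfsg.Agent.LThreeCo1Twelve.Data.okM 2

/-- The elements. -/
noncomputable def e (i : ℕ) : Co0 := mk (okM i)

theorem rep (i : ℕ) : _root_.Cfsg.Agent.CoOneType.CoEval.Rep (e i) (M i) := rep_mk (okM i)

theorem k_comm : (eqB M [0, 3, 4, 4] [3, 4, 4, 0] && eqB M [1, 3, 4, 4] [3, 4, 4, 1] && eqB M [2, 3, 4, 4] [3, 4, 4, 2]) =
    true := by decide +kernel

/-- the vectors, coded -/
def Ls : List ℕ :=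
  [75059993788548, 75059993790536, 75059993773188, 75059993805896, 75059993527428, 75059994051656, 75059989595268,
   75059997983816, 75059997983876, 75059989595208, 75059994051716, 75059993527368, 75059993805956, 75059993773128,
   75059993790596, 75059993788488, 56432436532597, 93687551046487, 93815829648757, 56304157930327, 91625396450677,
   58494591128407, 58640049583477, 91479937995607, 91479906399093, 58640081179991, 58494555599733, 91625431979351,
   56304122155893, 93815865423191, 93687519728501, 56432467850583, 91616840078197, 58503147500887, 58631493210997,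
   91488494368087, 56441060012917, 93678927566167, 93824453129077, 56295534450007, 56295565768053, 93824421811031,
   93678963340661, 56441024238423, 91488529896821, 58631457682263, 58503179097461, 91616808481623, 75059957998694,
   75060029580390, 75059962455142, 75060025123942, 75059962209382, 75060025369702, 75059958277222, 75060029301862,
   75051401626214, 75068585952870, 75051406082662, 75068581496422, 72860968428134, 77259019150950, 72860972638822,
   77259014940262, 39875621560934, 110244366018150, 110244366000742, 39875621578342, 39875621839462,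
   110244365739622, 110244365754982, 39875621824102, 77259019133542, 72860968445542, 77259014955622, 72860972623462,
   75068585689702, 75051401889382, 75068581757542, 75051405821542, 74922017965158, 75197969613926]

/-- the number of the cycle of the `j`-th point -/
def cyL : List ℕ :=
  [0, 6, 7, 2, 8, 9, 6, 9, 10, 7, 3, 6, 1, 11, 8, 11, 10, 8, 10, 11, 4, 5, 7, 9]

/-- representatives of the cycles -/
def rp : List ℕ :=
  [0, 12, 3, 10, 20, 21, 1, 2, 4, 5, 8, 13]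

/-- action of the first element on the vectors -/
def pv0 : List ℕ :=
  [1, 0, 75, 74, 14, 15, 79, 78, 57, 56, 7, 6, 61, 60, 8, 9, 49, 48, 42, 43, 55, 54, 44, 45, 71, 70, 39, 38, 67, 66,
   33, 32, 29, 28, 65, 64, 27, 26, 69, 68, 16, 17, 50, 51, 22, 23, 52, 53, 40, 41, 19, 18, 46, 47, 21, 20, 77, 76,
   5, 4, 31, 30, 25, 24, 73, 72, 13, 12, 3, 2, 63, 62, 35, 34, 37, 36, 59, 58, 11, 10, 80, 81]

/-- action of the second element on the vectors -/
def pv1 : List ℕ :=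
  [0, 1, 76, 77, 70, 71, 15, 14, 4, 5, 64, 65, 56, 57, 11, 10, 48, 49, 47, 46, 43, 42, 52, 53, 38, 39, 72, 73, 74,
   75, 34, 35, 60, 61, 24, 25, 28, 29, 62, 63, 17, 16, 55, 54, 51, 50, 21, 20, 41, 40, 22, 23, 18, 19, 45, 44, 66,
   67, 2, 3, 78, 79, 6, 7, 30, 31, 36, 37, 26, 27, 32, 33, 8, 9, 58, 59, 12, 13, 68, 69, 80, 81]

/-- action of the third element on the vectors -/
def pv2 : List ℕ :=
  [12, 13, 0, 1, 8, 9, 4, 5, 10, 11, 6, 7, 14, 15, 2, 3, 20, 21, 22, 23, 38, 39, 36, 37, 30, 31, 28, 29, 44, 45, 46,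
   47, 18, 19, 16, 17, 32, 33, 34, 35, 24, 25, 26, 27, 42, 43, 40, 41, 76, 77, 78, 79, 57, 56, 59, 58, 52, 53, 54,
   55, 70, 71, 65, 64, 62, 63, 74, 75, 73, 72, 61, 60, 68, 69, 67, 66, 49, 48, 51, 50, 80, 81]

/-- a vector orthogonal to the first vector of a pair -/
def zr : List ℕ :=
  [3, 1, 1, 1, 1, 1, 1, 0, 9, 5, 3, 3, 1, 1, 1, 1, 1, 1, 1, 1, 3, 3, 5, 7, 3, 3, 2, 2, 1, 1, 1, 1, 1, 1, 1, 1, 1, 1,
   1, 1]

/-- masks of the neighbours of the points -/
def AM : List ℕ :=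
  [267390720, 825451856640, 209390511360, 64431233280, 64434562560, 209385576960, 825442974720, 252702720,
   5654999055, 77881978931, 311456485461, 704517300329, 348026636264, 559486733268, 172100947378, 19881528974,
   704516198550, 311463780522, 77893484748, 5668634864, 19881460081, 172101403213, 559487452203, 348027488279,
   1073743430017, 849332159105, 228442907777, 46984665217, 96840728898, 177370071618, 327126884644, 563078136868,
   689988702488, 414888239640, 345041373208, 620239143960, 601656398372, 288385746980, 164341355586, 109576267842]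

/-- masks of the lines -/
def LM : List ℕ :=
  [17826049, 35652097, 71304193, 142608385, 268452098, 536904194, 549760073730, 274886426626, 1073750276,
   2147517444, 137441116164, 68728127492, 4294971656, 17179904008, 34361966600, 8594391048, 8589943312, 34359755792,
   17180983312, 4303880208, 68719481376, 137438971936, 2148663328, 1078460448, 274877912128, 549755824192,
   538181696, 271056960, 134287488, 67248256, 33833088, 17334400, 420923572224, 652851806208, 293165072384,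
   556231819264, 86234890240, 142337900544, 11140071424, 36104568832]

/-- line through two points, digits in base 64 -/
def TL : List ℕ :=
  [17722135656651441357423962089058691014823273037824,
   168661426349694402676659638193641032255110083123684078355213221936234496,
   68558301877125705936210318949142016588717202025153053891653607096320,
   23377408258589550421184827917090510774186992482875906371465773056,
   28442922648317100224033862472489152700867763765967525580357238784,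
   143645965838105003774939276842090896124502269591131761825271345315840,
   700527254199242225057305932815118965137600059885834836993913960001437696,
   166380663852606375353477907780723366967288547770368, 75337482285544772903740928095282548013943519734182083330304,
   2106252261123440496135020116866613808507295646910255734551648141633,
   10352647493764202859086571867589611460129143704691490819343245241257986,
   690316174733302032808285103390330831779308897234602670891917538483240963,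
   10354725766094542045874420506516302187242564446971470213863121167056896,
   690174634685484143180478523228698922742938056477988554279862123664277504,
   141567693580015320921338957740582312767741341762982004285551958556928,
   334243996043027730886181198472389449244752754157843739277824320,
   165709312652439564244673695771865845395849986988073395591751751293772160,
   3019537063786831907611484004985349489897319215358003508944732505506240,
   1158441234372417601246929699651016896146205679606994910491180838912,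
   119300190471686865258978913913195880826916511659918515765248,
   462800315122887052004364999863497998696402539081013400304615424,
   67422903731679106473158451764999117014754678378695371847396339785729,
   165641912328999583811802976831079377792511939668318481935384919492264322,
   3020672462048490719046267742211570242482017456968695854891319385174467,
   925053219663403710975646966279049850573245037049281374735402706457853952,
   980910700412006357821653849678947865254485613994094810303948026753843201,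
   253171674999778633652684491728119684936018518335409818709883562754050,
   64189947434692059489416967157171001334535478403855859573629911043,
   3792183366020001740753848079533943161909071326334173515228884500736,
   249443681581191476903088869240434641197080279772591755205870822097216,
   14666276035781980586317723143085597365432423492162135280566087895252992,
   966244488566164540236504448293665050633784284002054087586579626621702144,
   966493868057353507334955444445299320409669114508637992441915912875933696,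
   14019172266922059736821870577488570408022494868978833796887067368357888,
   14670002229430068225340906691303647160293449919351010430872786318917632,
   911033993081979543029967364091646823280570236948062251641536303412543488,
   911030573003601125047838051854803677266431544132217687814488128969814016,
   13803492706668885579128106116404692862605959077489748117758769667022848,
   215680460367057654168406902564958563250454492039790267682286961951168,
   3529607498585337710546516300064211317559165279506770062050632663424]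

/-- number of a flag, digits in base 256 -/
def FI : List ℕ :=
  [2593889280, 1747983133204021248, 22930004560872048422612369408, 25620280208762044832107787676039512064,
   287305484848780675839017470017778501822307106816, 1332125560493944049122803828560449981926704244630168272896,
   6568875089297931622542899786111933074212580780350525435258540654592,
   37150287528360238987235099449872625940381517499230774972940513678922350592000, 11725768054878133575540887519391,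
   162226681783202978483437878193258869782432089934080,
   753252208246401702375105900391430308000649704711471502458880,
   212115821892696212957695001044688112552061995141631091671040000,
   485279040460662841352690899538362491960873020249035444802450473615360,
   490023990657482665881565452283613410944650333402786022341412529457070080,
   45938023684237992569189680262143217609215406894765015850648342473295790080,
   42517407766827040507092471057877591164872573062322363529374569469489637752832,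
   215679573337205118357338328469931699920788230280576204945183987466240,
   324382078299156507683311627242943614698998402305148342522044268465356800,
   77741270890152396016704336554946417392034233168225986718720332579215507456,
   48849787654996504111913993206962035586702608476892750016824533582866469093376,
   62940549331520152926107016609522575040141968747084733404388786334,
   12742787291895419590448081349724714232428336674172644840145871211264,
   3040471153077923495159747825305607231395821630651510882304, 627988984790622347703402997764268581709542326272,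
   4315871049293385309051982125192004419765226695675272726805108219952255335449755805,
   230206263728985652410636539458751152302224761508799416110521103494448453027790418118656,
   15206155276465636371295257971137365459741935655767899582776797435451816915167935630702149632,
   1063854260856543365470213374600241960934720533378437967693524955333567657526448155113641178300416,
   2444455604682293548188188710963394338788436143896647517507315847781365174905076694882470330368,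
   375473982728135208838443024181131672960211910253708193375263365467399895430229896522776524619776,
   16687398718640542892848309609729328816652415778220834727859176540389193539679020007819027939328,
   1662221459650391934358692440473533641073886796466770019539930108560528783860463617423790047232,
   2546327995789275445229762741364138701135748801210056615688131462436027131601404699248427008,
   228148029349472862950097275559438475426415242002291668764077604333308244431381079050059513856,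
   27352861476592228142842039718703955028603110314847509834901724742089012419842406476677120,
   325404275003578842857377460567356292468672529471272672899663664780265619849995045624551256883200,
   18898285740349952963928506073957203010702888950070935269854301150303053184539142081478656,
   5092589940848604969219507053933767498040688800328879094273160826409357051507155963480113152,
   45541607657482646241067843620013148452141668586286113553861925277471627457853390848,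
   56340125009831860327699064270676433456914651431939938541232700420145574880518774718464]

/-- first point of a line -/
def L0 : List ℕ :=
  [0, 0, 0, 0, 1, 1, 1, 1, 2, 2, 2, 2, 3, 3, 3, 3, 4, 4, 4, 4, 5, 5, 5, 5, 6, 6, 6, 6, 7, 7, 7, 7, 24, 24, 25, 25,
   26, 26, 27, 27]

/-- second point of a line -/
def L1 : List ℕ :=
  [8, 9, 10, 11, 8, 9, 16, 17, 8, 10, 16, 18, 8, 11, 17, 18, 9, 10, 16, 19, 9, 11, 17, 19, 10, 11, 18, 19, 12, 13,
   14, 15, 33, 35, 30, 31, 28, 29, 28, 29]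

/-- points of the flags -/
def fa : List ℕ :=
  [0, 6, 30, 28, 15, 39, 38, 33, 16, 17, 5, 34, 29, 6, 18, 14, 30, 32, 12, 3, 32, 1, 13, 2, 1, 28, 14, 37, 15, 39,
   36, 35, 19, 39, 7, 36, 15, 38, 36, 35, 37, 38, 33, 37, 18, 29, 16, 17, 5, 34, 4, 31, 16, 31, 5, 34, 4, 4, 17, 29,
   31, 18, 6, 13, 14, 2, 1, 30, 32, 12, 3, 13, 12, 3, 2, 28, 19, 33, 7, 35, 19, 7, 7, 4, 5, 28, 2, 3, 32, 38, 33,
   35, 39, 36, 15, 29, 6, 18, 31, 16, 34, 17, 1, 30, 13, 14, 12, 37, 19, 26, 23, 9, 26, 10, 21, 23, 9, 27, 25, 26,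
   10, 21, 23, 10, 22, 11, 9, 27, 25, 27, 21, 22, 11, 22, 25, 11, 25, 9, 11, 21, 23, 22, 26, 27, 10, 24, 20, 20, 8,
   8, 8, 24, 24, 20, 0, 0, 0, 24, 20, 8]

/-- lines of the flags -/
def fm : List ℕ :=
  [0, 24, 39, 27, 9, 6, 34, 38, 28, 14, 21, 34, 5, 25, 15, 17, 23, 35, 28, 15, 37, 5, 25, 10, 7, 36, 30, 10, 13, 35,
   20, 17, 23, 25, 30, 11, 5, 7, 36, 39, 37, 24, 16, 21, 30, 39, 6, 29, 20, 13, 19, 38, 10, 35, 23, 36, 16, 17, 7,
   37, 9, 11, 27, 16, 21, 9, 6, 34, 19, 20, 14, 29, 24, 13, 11, 38, 27, 15, 28, 14, 19, 29, 31, 18, 22, 4, 8, 12,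
   12, 32, 32, 33, 33, 33, 31, 26, 26, 26, 22, 18, 18, 22, 4, 8, 8, 4, 12, 32, 31, 29, 19, 20, 36, 9, 14, 7, 16, 28,
   35, 37, 24, 27, 11, 17, 23, 13, 5, 39, 34, 38, 10, 6, 25, 15, 30, 21, 1, 1, 3, 1, 3, 2, 2, 3, 2, 33, 22, 18, 12,
   4, 8, 31, 32, 26, 3, 2, 1, 0, 0, 0]

/-- a parent of each flag -/
def par : List ℕ :=
  [0, 0, 1, 1, 2, 2, 3, 3, 4, 4, 5, 5, 6, 6, 7, 8, 8, 9, 9, 10, 10, 11, 11, 12, 12, 13, 14, 15, 16, 16, 17, 18, 18,
   19, 19, 20, 20, 21, 22, 23, 24, 24, 25, 26, 27, 27, 28, 28, 29, 29, 30, 31, 31, 32, 33, 33, 34, 35, 36, 37, 39,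
   40, 41, 44, 44, 45, 45, 46, 47, 47, 48, 49, 51, 53, 56, 57, 63, 64, 65, 65, 69, 73, 1, 82, 82, 83, 83, 84, 84,
   85, 85, 86, 87, 88, 88, 89, 89, 90, 91, 91, 92, 93, 95, 96, 97, 97, 98, 102, 104, 3, 109, 109, 110, 110, 111,
   112, 112, 113, 114, 115, 115, 116, 116, 117, 117, 118, 119, 120, 121, 121, 123, 125, 128, 129, 130, 131, 5, 136,
   136, 137, 137, 138, 138, 139, 140, 6, 145, 145, 146, 147, 147, 148, 149, 152, 21, 154, 155, 37, 157, 158]

/-- the letter taking the parent to the flag -/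
def lt : List ℕ :=
  [0, 2, 0, 1, 0, 1, 0, 1, 0, 1, 0, 1, 0, 1, 1, 0, 1, 0, 1, 0, 1, 0, 1, 0, 1, 1, 1, 1, 0, 1, 0, 0, 1, 0, 1, 0, 1, 1,
   1, 1, 0, 1, 1, 1, 0, 1, 0, 1, 0, 1, 1, 0, 1, 1, 0, 1, 0, 1, 1, 0, 0, 0, 1, 0, 1, 0, 1, 1, 0, 1, 0, 1, 0, 1, 1, 0,
   0, 0, 0, 1, 1, 1, 2, 0, 1, 0, 1, 0, 1, 0, 1, 1, 0, 0, 1, 0, 1, 1, 0, 1, 1, 0, 1, 0, 0, 1, 0, 0, 0, 2, 0, 1, 0, 1,
   0, 0, 1, 0, 0, 0, 1, 0, 1, 0, 1, 1, 1, 0, 0, 1, 1, 0, 1, 1, 0, 0, 2, 0, 1, 0, 1, 0, 1, 1, 1, 2, 0, 1, 0, 0, 1, 1,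
   0, 0, 2, 0, 1, 2, 0, 0]

/-- the classes of the flags -/
def cls : List ℕ :=
  [0, 1, 1, 1, 1, 1, 1, 1, 1, 1, 1, 1, 1, 1, 1, 1, 1, 1, 1, 1, 1, 1, 1, 1, 1, 1, 1, 1, 1, 1, 1, 1, 1, 1, 1, 1, 1, 1,
   1, 1, 1, 1, 1, 1, 1, 1, 1, 1, 1, 1, 1, 1, 1, 1, 1, 1, 1, 1, 1, 1, 1, 1, 1, 1, 1, 1, 1, 1, 1, 1, 1, 1, 1, 1, 1, 1,
   1, 1, 1, 1, 1, 1, 2, 2, 2, 2, 2, 2, 2, 2, 2, 2, 2, 2, 2, 2, 2, 2, 2, 2, 2, 2, 2, 2, 2, 2, 2, 2, 2, 3, 3, 3, 3, 3,
   3, 3, 3, 3, 3, 3, 3, 3, 3, 3, 3, 3, 3, 3, 3, 3, 3, 3, 3, 3, 3, 3, 4, 4, 4, 4, 4, 4, 4, 4, 4, 5, 5, 5, 5, 5, 5, 5,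
   5, 5, 6, 6, 6, 7, 7, 7]

/-- representatives of the classes -/
def roots : List ℕ :=
  [0, 1, 82, 109, 136, 145, 154, 157]

/-- an ordering of the points -/
def OO : List ℕ :=
  [0, 6, 8, 10, 2, 4, 1, 3, 5, 7, 9, 11, 12, 13, 14, 15, 16, 17, 18, 19, 20, 21, 22, 23, 24, 25, 26, 27, 28, 29, 30,
   31, 32, 33, 34, 35, 36, 37, 38, 39]

/-- mates -/
def MT : List ℕ :=
  [0, 6, 24, 10, 14, 35, 3, 3, 7, 7, 9, 11, 12, 13, 14, 15, 16, 17, 18, 19, 20, 21, 22, 23, 24, 25, 26, 27, 28, 29,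
   30, 31, 32, 33, 34, 35, 36, 37, 38, 39]

/-- The coordinates of a code. -/
def dec (m c : ℕ) : ℤ := Int.ofNat (m / 16 ^ c % 16) - 4

/-- The list of 24 coordinates from 12. -/
def ex (l : List ℤ) : List ℤ := cyL.map fun c => l.getD c 0

/-- The `i`-th vector as a list. -/
def L (i : ℕ) : List ℤ := cyL.map fun c => dec (Ls.getD i 75059993789508) c

theorem length_L (i : ℕ) : (L i).length = 24 := by rw [L, List.length_map]; rfl

private theorem dot_eq : dotL = fun l r => Fq.dk l r 0 0 := by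
  funext l r
  exact (Fq.dk0 l r).symm

private theorem _root_.Cfsg.Agent.KOb559f68.e4.{ku, kv} {α : Type kv} {M : List α → Sort ku} (φ : ∀ l, M l) {z : M List.nil} {s : ∀ a l, M l → M (List.cons a l)} (h0 : φ List.nil = z) (hs : ∀ a l, φ (List.cons a l) = s a l (φ l)) (l : List α) : φ l = @List.rec α M z s l := List.rec h0 (fun a l ih => (hs a l).trans (congrArg (s a l) ih)) l
private noncomputable def _root_.Cfsg.Agent.KOb559f68.k5.{ku0} : type_of% @List.all.{ku0} := @(fun x0 x1 x2 => @List.rec.{(ku0+1), ku0} @x0 @(fun x3 => (@x0 → @Bool) → @Bool) @(fun x3 => @Bool.true) @(fun x3 x4 x5 x6 => @Bool.rec.{1} @(fun x7 => @Bool) @Bool.false (@x5 @x6) (@x6 @x3)) @x1 @x2)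
private theorem _root_.Cfsg.Agent.KOb559f68.e5.{ku0} : @List.all.{ku0} = @_root_.Cfsg.Agent.KOb559f68.k5.{ku0} := by delta _root_.Cfsg.Agent.KOb559f68.k5; funext a0 a1 a2; refine (congrFun (_root_.Cfsg.Agent.KOb559f68.e4 (fun a1 a2 => @List.all.{ku0} a0 a1 a2) ?_ (fun c0 c1 => ?_) a1) a2 :) <;> (rfl')
private noncomputable def _root_.Cfsg.Agent.KOb559f68.k6.{ku0} : type_of% @List.length.{ku0} := @(fun x0 x1 => @List.rec.{1, ku0} @x0 @(fun x2 => ℕ) (nat_lit 0) @(fun x2 x3 x4 => @Nat.add @x4 (nat_lit 1)) @x1)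
private theorem _root_.Cfsg.Agent.KOb559f68.e6.{ku0} : @List.length.{ku0} = @_root_.Cfsg.Agent.KOb559f68.k6.{ku0} := by delta _root_.Cfsg.Agent.KOb559f68.k6; funext a0 a1; refine (_root_.Cfsg.Agent.KOb559f68.e4 (fun a1 => @List.length.{ku0} a0 a1) ?_ (fun c0 c1 => ?_) a1 :) <;> (rfl')
private noncomputable def _root_.Cfsg.Agent.KOb559f68.k8 : type_of% @Nat.decEq := @(fun x0 x1 => @Bool.rec.{1} @(fun x2 => (@Eq.{1} _ (@Nat.beq @x0 @x1) @x2) → @Decidable (@Eq.{1} _ @x0 @x1)) @(fun x2 => @Decidable.isFalse _ (@Nat.ne_of_beq_eq_false _ _ @x2)) @(fun x2 => @Decidable.isTrue _ (@Nat.eq_of_beq_eq_true _ _ @x2)) (@Nat.beq @x0 @x1) (@Eq.refl.{1} _ (@Nat.beq @x0 @x1)))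
private theorem _root_.Cfsg.Agent.KOb559f68.e8 : @Nat.decEq = @_root_.Cfsg.Agent.KOb559f68.k8 := by delta _root_.Cfsg.Agent.KOb559f68.k8; rfl'
private noncomputable def _root_.Cfsg.Agent.KOb559f68.k13 : type_of% @Int.decEq := @(fun x0 x1 => @Int.rec.{1} @(fun x2 => @Decidable (@Eq.{1} _ @x2 @x1)) @(fun x2 => @Int.rec.{1} @(fun x3 => @Decidable (@Eq.{1} _ (@Int.ofNat @x2) @x3)) @(fun x3 => @Decidable.rec.{1} _ @(fun x4 => @Decidable (@Eq.{1} _ (@Int.ofNat @x2) (@Int.ofNat @x3))) @(fun x4 => @Decidable.isFalse _ (@Int.decEq._proof_2 @x2 @x3 @x4)) @(fun x4 => @Decidable.isTrue _ (@Int.decEq._proof_1 @x2 @x3 @x4)) (@Cfsg.Agent.KOb559f68.k8 @x2 @x3)) @(fun x3 => @Decidable.isFalse _ (@Int.decEq._proof_3 @x2 @x3)) @x1) @(fun x2 => @Int.rec.{1} @(fun x3 => @Decidable (@Eq.{1} _ (@Int.negSucc @x2) @x3)) @(fun x3 => @Decidable.isFalse _ (@Int.decEq._proof_4 @x2 @x3)) @(fun x3 => @Decidable.rec.{1} _ @(fun x4 => @Decidable (@Eq.{1} _ (@Int.negSucc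 @x2) (@Int.negSucc @x3))) @(fun x4 => @Decidable.isFalse _ (@Int.decEq._proof_6 @x2 @x3 @x4)) @(fun x4 => @Decidable.isTrue _ (@Int.decEq._proof_5 @x2 @x3 @x4)) (@Cfsg.Agent.KOb559f68.k8 @x2 @x3)) @x1) @x0)
private theorem _root_.Cfsg.Agent.KOb559f68.e13 : @Int.decEq = @_root_.Cfsg.Agent.KOb559f68.k13 := by delta _root_.Cfsg.Agent.KOb559f68.k13; rewrite [← Cfsg.Agent.KOb559f68.e8]; rfl'
private noncomputable def _root_.Cfsg.Agent.KOb559f68.k16.{ku0, ku1} : type_of% @List.map.{ku0, ku1} := @(fun x0 x1 x2 x3 => @List.rec.{(ku1+1), ku0} @x0 @(fun x4 => @List.{ku1} @x1) [] @(fun x4 x5 x6 => (@x2 @x4) :: @x6) @x3)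
private theorem _root_.Cfsg.Agent.KOb559f68.e16.{ku0, ku1} : @List.map.{ku0, ku1} = @_root_.Cfsg.Agent.KOb559f68.k16.{ku0, ku1} := by delta _root_.Cfsg.Agent.KOb559f68.k16; funext a0 a1 a2 a3; refine (_root_.Cfsg.Agent.KOb559f68.e4 (fun a3 => @List.map.{ku0, ku1} a0 a1 a2 a3) ?_ (fun c0 c1 => ?_) a3 :) <;> (rfl')
private theorem _root_.Cfsg.Agent.KOb559f68.e18.{ku} {M : Nat → Sort ku} (φ : ∀ n, M n) {z : M Nat.zero} {s : ∀ n, M n → M (Nat.succ n)} (h0 : φ Nat.zero = z) (hs : ∀ n, φ (Nat.succ n) = s n (φ n)) (n : Nat) : φ n = @Nat.rec M z s n := Nat.rec h0 (fun n ih => (hs n).trans (congrArg (s n) ih)) n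
private noncomputable def _root_.Cfsg.Agent.KOb559f68.k19 : type_of% @List.range.loop := @(fun x0 x1 => @Nat.rec.{1} @(fun x2 => (@List.{0} ℕ) → @List.{0} ℕ) @(fun x2 => @x2) @(fun x2 x3 x4 => @x3 (@x2 :: @x4)) @x0 @x1)
private theorem _root_.Cfsg.Agent.KOb559f68.e19 : @List.range.loop = @_root_.Cfsg.Agent.KOb559f68.k19 := by delta _root_.Cfsg.Agent.KOb559f68.k19; funext a0 a1; refine (congrFun (_root_.Cfsg.Agent.KOb559f68.e18 (fun a0 a1 => @List.range.loop a0 a1) ?_ (fun c0 => ?_) a0) a1 :) <;> (rfl')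
private noncomputable def _root_.Cfsg.Agent.KOb559f68.k25 : type_of% @Int.add := @(fun x0 x1 => @Int.rec.{1} @(fun x2 => ℤ) @(fun x2 => @Int.rec.{1} @(fun x3 => ℤ) @(fun x3 => @Int.ofNat (@Nat.add @x2 @x3)) @(fun x3 => @Nat.rec.{1} @(fun x4 => ℤ) (@Int.ofNat (@Nat.sub @x2 (@Nat.succ @x3))) @(fun x4 x5 => @Int.negSucc @x4) (@Nat.sub (@Nat.succ @x3) @x2)) @x1) @(fun x2 => @Int.rec.{1} @(fun x3 => ℤ) @(fun x3 => @Nat.rec.{1} @(fun x4 => ℤ) (@Int.ofNat (@Nat.sub @x3 (@Nat.succ @x2))) @(fun x4 x5 => @Int.negSucc @x4) (@Nat.sub (@Nat.succ @x2) @x3)) @(fun x3 => @Int.negSucc (@Nat.succ (@Nat.add @x2 @x3))) @x1) @x0)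
private theorem _root_.Cfsg.Agent.KOb559f68.e25 : @Int.add = @_root_.Cfsg.Agent.KOb559f68.k25 := by delta _root_.Cfsg.Agent.KOb559f68.k25; rfl'
private noncomputable def _root_.Cfsg.Agent.KOb559f68.k29 : (by first | exact type_of% @Cfsg.Agent.SporadicStructure.Co0Matrix.maskL | exact Unit : Sort _) := by first | (refine @Subtype.val _ (fun g => @Cfsg.Agent.SporadicStructure.Co0Matrix.maskL = @g) (@Subtype.mk _ _ (@(fun x0 => @List.rec.{1, 0} ℤ @(fun x1 => ℕ) (nat_lit 0) @(fun x1 x2 x3 => @Nat.add (@Int.rec.{1} @(fun x4 => ℕ) @(fun x4 => @x4) @(fun x4 => nat_lit 0) (@Int.rec.{1} @(fun x4 => ℤ) @(fun x4 => @Int.ofNat (@Nat.mod @x4 (nat_lit 2))) @(fun x4 => @Nat.rec.{1} @(fun x5 => ℤ) (@Int.ofNat (@Nat.sub (nat_lit 2) (@Nat.succ (@Nat.mod @x4 (nat_lit 2))))) @(fun x5 x6 => @Int.negSucc @x5) (@Nat.sub (@Nat.succ (@Nat.mod @x4 (nat_lit 2))) (nat_lit 2))) @x1)) (@Nat.mul (nat_lit 2) @x3)) @x0)) ?_); funext a0; refine (_root_.Cfsg.Agent.KOb559f68.e4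 (fun a0 => @Cfsg.Agent.SporadicStructure.Co0Matrix.maskL a0) ?_ (fun c0 c1 => ?_) a0 :) <;> (rfl')) | exact @Cfsg.Agent.SporadicStructure.Co0Matrix.maskL | exact ()
private theorem _root_.Cfsg.Agent.KOb559f68.e29 : (by first | exact @Cfsg.Agent.SporadicStructure.Co0Matrix.maskL = @_root_.Cfsg.Agent.KOb559f68.k29 | exact True : Prop) := by first | (delta _root_.Cfsg.Agent.KOb559f68.k29; exact @Subtype.property _ (fun g => @Cfsg.Agent.SporadicStructure.Co0Matrix.maskL = @g) _) | rfl | trivial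
private noncomputable def _root_.Cfsg.Agent.KOb559f68.k30 : type_of% @Int.ediv := @(fun x0 x1 => @Int.rec.{1} @(fun x2 => ℤ) @(fun x2 => @Int.rec.{1} @(fun x3 => ℤ) @(fun x3 => @Int.ofNat (@Nat.div @x2 @x3)) @(fun x3 => @Nat.rec.{1} @(fun x4 => ℤ) (@Int.ofNat (nat_lit 0)) @(fun x4 x5 => @Int.negSucc @x4) (@Nat.div @x2 (@Nat.succ @x3))) @x1) @(fun x2 => @Int.rec.{1} @(fun x3 => ℤ) @(fun x3 => @Nat.rec.{1} @(fun x4 => ℤ) (@Int.ofNat (nat_lit 0)) @(fun x4 x5 => @Int.negSucc (@Nat.div @x2 (@Nat.succ @x4))) @x3) @(fun x3 => @Int.ofNat (@Nat.succ (@Nat.div @x2 (@Nat.succ @x3)))) @x1) @x0)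
private theorem _root_.Cfsg.Agent.KOb559f68.e30 : @Int.ediv = @_root_.Cfsg.Agent.KOb559f68.k30 := by delta _root_.Cfsg.Agent.KOb559f68.k30; rfl'
private noncomputable def _root_.Cfsg.Agent.KOb559f68.k31 : (by first | exact type_of% @Cfsg.Agent.SporadicStructure.Co0Matrix.leechB | exact Unit : Sort _) := by first | (refine @Subtype.val _ (fun g => @Cfsg.Agent.SporadicStructure.Co0Matrix.leechB = @g) (@Subtype.mk _ _ (@(fun x0 => @Bool.rec.{1} @(fun x1 => @Bool) @Bool.false (@Cfsg.Agent.SporadicA.GolayBase.isCode (@Cfsg.Agent.KOb559f68.k29 (@Cfsg.Agent.KOb559f68.k16.{0, 0} _ _ @(fun x1 => @Cfsg.Agent.KOb559f68.k30 (@Int.add @x1 (@Int.rec.{1} @(fun x2 => ℤ) @(fun x2 => @Nat.rec.{1} @(fun x3 => ℤ) (@Int.ofNat (nat_lit 0)) @(fun x3 x4 => @Int.negSucc @x3) @x2) @(fun x2 => @Int.ofNat (@Nat.succ @x2)) (@Int.rec.{1} @(fun x2 => ℤ) @(fun x2 => @Int.ofNat (@Nat.mod @x2 (nat_lit 2))) @(fun x2 => @Nat.rec.{1} @(fun x3 => ℤ) (@Int.ofNat (@Nat.sub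 (nat_lit 2) (@Nat.succ (@Nat.mod @x2 (nat_lit 2))))) @(fun x3 x4 => @Int.negSucc @x3) (@Nat.sub (@Nat.succ (@Nat.mod @x2 (nat_lit 2))) (nat_lit 2))) (@List.rec.{1, 0} ℤ @(fun x2 => ℤ) (@Int.ofNat (nat_lit 0)) @(fun x2 x3 x4 => @x2) @x0)))) (@Int.ofNat (nat_lit 2))) @x0))) (@Bool.rec.{1} @(fun x1 => @Bool) @Bool.false (@Decidable.rec.{1} _ @(fun x1 => @Bool) @(fun x1 => @Bool.false) @(fun x1 => @Bool.true) (@Cfsg.Agent.KOb559f68.k13 (@Int.rec.{1} @(fun x1 => ℤ) @(fun x1 => @Int.ofNat (@Nat.mod @x1 (nat_lit 8))) @(fun x1 => @Nat.rec.{1} @(fun x2 => ℤ) (@Int.ofNat (@Nat.sub (nat_lit 8) (@Nat.succ (@Nat.mod @x1 (nat_lit 8))))) @(fun x2 x3 => @Int.negSucc @x2) (@Nat.sub (@Nat.succ (@Nat.mod @x1 (nat_lit 8))) (nat_lit 8))) (@Int.add (@List.foldr.{0, 0} _ _ @(fun x1 x2 => @Int.add @x1 @x2) (@Int.ofNat (nat_lit 0)) @x0) (@Int.rec.{1} @(fun x1 => ℤ) @(fun x1 => @Nat.rec.{1} @(fun x2 => ℤ) (@Int.ofNat (nat_lit 0)) @(fun x2 x3 => @Int.negSucc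 @x2) @x1) @(fun x1 => @Int.ofNat (@Nat.succ @x1)) (@Int.mul (@Int.ofNat (nat_lit 4)) (@Int.rec.{1} @(fun x1 => ℤ) @(fun x1 => @Int.ofNat (@Nat.mod @x1 (nat_lit 2))) @(fun x1 => @Nat.rec.{1} @(fun x2 => ℤ) (@Int.ofNat (@Nat.sub (nat_lit 2) (@Nat.succ (@Nat.mod @x1 (nat_lit 2))))) @(fun x2 x3 => @Int.negSucc @x2) (@Nat.sub (@Nat.succ (@Nat.mod @x1 (nat_lit 2))) (nat_lit 2))) (@List.rec.{1, 0} ℤ @(fun x1 => ℤ) (@Int.ofNat (nat_lit 0)) @(fun x1 x2 x3 => @x1) @x0)))))) (@Int.ofNat (nat_lit 0)))) (@Bool.rec.{1} @(fun x1 => @Bool) @Bool.false (@Cfsg.Agent.KOb559f68.k5.{0} _ @x0 @(fun x1 => @Decidable.rec.{1} _ @(fun x2 => @Bool) @(fun x2 => @Bool.false) @(fun x2 => @Bool.true) (@Cfsg.Agent.KOb559f68.k13 (@Int.rec.{1} @(fun x2 => ℤ) @(fun x2 => @Int.ofNat (@Nat.mod @x2 (nat_lit 2))) @(fun x2 => @Nat.rec.{1} @(fun x3 => ℤ) (@Int.ofNat (@Nat.sub (nat_lit 2) (@Nat.succ (@Nat.mod @x2 (nat_lit 2))))) @(fun x3 x4 => @Int.negSucc @x3) (@Nat.sub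 (@Nat.succ (@Nat.mod @x2 (nat_lit 2))) (nat_lit 2))) (@Int.add @x1 (@Int.rec.{1} @(fun x2 => ℤ) @(fun x2 => @Nat.rec.{1} @(fun x3 => ℤ) (@Int.ofNat (nat_lit 0)) @(fun x3 x4 => @Int.negSucc @x3) @x2) @(fun x2 => @Int.ofNat (@Nat.succ @x2)) (@Int.rec.{1} @(fun x2 => ℤ) @(fun x2 => @Int.ofNat (@Nat.mod @x2 (nat_lit 2))) @(fun x2 => @Nat.rec.{1} @(fun x3 => ℤ) (@Int.ofNat (@Nat.sub (nat_lit 2) (@Nat.succ (@Nat.mod @x2 (nat_lit 2))))) @(fun x3 x4 => @Int.negSucc @x3) (@Nat.sub (@Nat.succ (@Nat.mod @x2 (nat_lit 2))) (nat_lit 2))) (@List.rec.{1, 0} ℤ @(fun x2 => ℤ) (@Int.ofNat (nat_lit 0)) @(fun x2 x3 x4 => @x2) @x0))))) (@Int.ofNat (nat_lit 0))))) (@Nat.beq (@Cfsg.Agent.KOb559f68.k6.{0} _ @x0) (nat_lit 24)))))) ?_); rewrite [← Cfsg.Agent.KOb559f68.e6.{0}, ← Cfsg.Agent.KOb559f68.e5.{0}, ← Cfsg.Agent.KOb559f68.e13, ← Cfsg.Agent.KOb559f68.e30, ← Cfsg.Agent.KOb559f68.e16.{0, 0}, ← Cfsg.Agent.KOb559f68.e29]; (try delta Cfsg.Agent.SporadicStructure.Co0Matrix.leechB);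 (try generalize @Cfsg.Agent.SporadicA.GolayBase.isCode = g0); (try generalize @Cfsg.Agent.SporadicStructure.Co0Matrix.maskL = g1); rfl') | exact @Cfsg.Agent.SporadicStructure.Co0Matrix.leechB | exact ()
private theorem _root_.Cfsg.Agent.KOb559f68.e31 : (by first | exact @Cfsg.Agent.SporadicStructure.Co0Matrix.leechB = @_root_.Cfsg.Agent.KOb559f68.k31 | exact True : Prop) := by first | (delta _root_.Cfsg.Agent.KOb559f68.k31; exact @Subtype.property _ (fun g => @Cfsg.Agent.SporadicStructure.Co0Matrix.leechB = @g) _) | rfl | trivial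
private noncomputable def _root_.Cfsg.Agent.KOb559f68.k33.{ku0} : type_of% @List.get?Internal.{ku0} := @(fun x0 x1 x2 => @List.rec.{(ku0+1), ku0} @x0 @(fun x3 => ℕ → @Option.{ku0} @x0) @(fun x3 => @Option.none.{ku0} _) @(fun x3 x4 x5 x6 => @Nat.rec.{(ku0+1)} @(fun x7 => @Option.{ku0} @x0) (@Option.some.{ku0} _ @x3) @(fun x7 x8 => @x5 @x7) @x6) @x1 @x2)
private theorem _root_.Cfsg.Agent.KOb559f68.e33.{ku0} : @List.get?Internal.{ku0} = @_root_.Cfsg.Agent.KOb559f68.k33.{ku0} := by delta _root_.Cfsg.Agent.KOb559f68.k33; funext a0 a1 a2; refine (congrFun (_root_.Cfsg.Agent.KOb559f68.e4 (fun a1 a2 => @List.get?Internal.{ku0} a0 a1 a2) ?_ (fun c0 c1 => ?_) a1) a2 :) <;> [(funext b0; (rfl')); (funext b0; (cases b0 with | @zero  => (rfl') | @succ b0_0 => (rfl')))]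
private noncomputable def _root_.Cfsg.Agent.KOb559f68.k61 : type_of% @List.range := @(fun x0 => @Cfsg.Agent.KOb559f68.k19 @x0 [])
private theorem _root_.Cfsg.Agent.KOb559f68.e61 : @List.range = @_root_.Cfsg.Agent.KOb559f68.k61 := by delta _root_.Cfsg.Agent.KOb559f68.k61; rewrite [← Cfsg.Agent.KOb559f68.e19]; rfl'
private noncomputable def _root_.Cfsg.Agent.KOb559f68.k62 : (by first | exact type_of% @Cfsg.Agent.H843.IMC.Co2D.dec | exact Unit : Sort _) := by first | (refine @Subtype.val _ (fun g => @Cfsg.Agent.H843.IMC.Co2D.dec = @g) (@Subtype.mk _ _ (@(fun x0 x1 => @Cfsg.Agent.KOb559f68.k25 (@Int.ofNat (@Nat.mod (@Nat.div @x0 (@Nat.pow (nat_lit 16) @x1)) (nat_lit 16))) (@Nat.rec.{1} @(fun x2 => ℤ) (@Int.ofNat (nat_lit 0)) @(fun x2 x3 => @Int.negSucc @x2) (nat_lit 4)))) ?_); rewrite [← Cfsg.Agent.KOb559f68.e25]; rfl') | exact @Cfsg.Agent.H843.IMC.Co2D.dec | exact ()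
private theorem _root_.Cfsg.Agent.KOb559f68.e62 : (by first | exact @Cfsg.Agent.H843.IMC.Co2D.dec = @_root_.Cfsg.Agent.KOb559f68.k62 | exact True : Prop) := by first | (delta _root_.Cfsg.Agent.KOb559f68.k62; exact @Subtype.property _ (fun g => @Cfsg.Agent.H843.IMC.Co2D.dec = @g) _) | rfl | trivial
private noncomputable def _root_.Cfsg.Agent.KOb559f68.k63 : (by first | exact type_of% @Cfsg.Agent.H843.IMC.Co2D.L | exact Unit : Sort _) := by first | (refine @Subtype.val _ (fun g => @Cfsg.Agent.H843.IMC.Co2D.L = @g) (@Subtype.mk _ _ (@(fun x0 => @Cfsg.Agent.KOb559f68.k16.{0, 0} _ _ @(fun x1 => @Cfsg.Agent.KOb559f68.k62 (@Option.rec.{1, 0} ℕ @(fun x2 => ℕ) (nat_lit 75059993789508) @(fun x2 => @x2) (@Cfsg.Agent.KOb559f68.k33.{0} _ @Cfsg.Agent.H843.IMC.Co2D.Ls @x0)) @x1) @Cfsg.Agent.H843.IMC.Co2D.cyL)) ?_); rewrite [← Cfsg.Agent.KOb559f68.e33.{0}, ← Cfsg.Agent.KOb559f68.e62, ← Cfsg.Agent.KOb559f68.e16.{0, 0}]; (try delta Cfsg.Agent.H843.IMC.Co2D.L);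 (try generalize @Cfsg.Agent.H843.IMC.Co2D.dec = g0); (try generalize @Cfsg.Agent.H843.IMC.Co2D.Ls = g1); (try generalize @Cfsg.Agent.H843.IMC.Co2D.cyL = g2); rfl') | exact @Cfsg.Agent.H843.IMC.Co2D.L | exact ()
private theorem _root_.Cfsg.Agent.KOb559f68.e63 : (by first | exact @Cfsg.Agent.H843.IMC.Co2D.L = @_root_.Cfsg.Agent.KOb559f68.k63 | exact True : Prop) := by first | (delta _root_.Cfsg.Agent.KOb559f68.k63; exact @Subtype.property _ (fun g => @Cfsg.Agent.H843.IMC.Co2D.L = @g) _) | rfl | trivial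

theorem chk_leech : (List.range 82).all (fun i => leechB (L i)) = true := by (first | (rewrite [Cfsg.Agent.KOb559f68.e5.{0}, Cfsg.Agent.KOb559f68.e61, Cfsg.Agent.KOb559f68.e31, Cfsg.Agent.KOb559f68.e63]; decide +kernel) | decide +kernel)

private noncomputable def _root_.Cfsg.Agent.KOb559f68.k34.{ku0} : type_of% @List.getD.{ku0} := @(fun x0 x1 x2 x3 => @Option.rec.{(ku0+1), ku0} @x0 @(fun x4 => @x0) @x3 @(fun x4 => @x4) (@Cfsg.Agent.KOb559f68.k33.{ku0} _ @x1 @x2))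
private theorem _root_.Cfsg.Agent.KOb559f68.e34.{ku0} : @List.getD.{ku0} = @_root_.Cfsg.Agent.KOb559f68.k34.{ku0} := by delta _root_.Cfsg.Agent.KOb559f68.k34; rewrite [← Cfsg.Agent.KOb559f68.e33.{ku0}]; rfl'
private noncomputable def _root_.Cfsg.Agent.KOb559f68.k36 : (by first | exact type_of% @Cfsg.Agent.H843.IMC.Co2D.Fq.dk | exact Unit : Sort _) := by first | (refine @Subtype.val _ (fun g => @Cfsg.Agent.H843.IMC.Co2D.Fq.dk = @g) (@Subtype.mk _ _ (@(fun x0 => @List.rec.{1, 0} ℤ @(fun x1 => (@List.{0} ℤ) → ℕ → ℕ → ℤ) @(fun x1 x2 x3 => @Nat.rec.{1} @(fun x4 => ℤ) (@Int.ofNat (@Nat.sub @x2 @x3)) @(fun x4 x5 => @Int.negSucc @x4) (@Nat.sub @x3 @x2)) @(fun x1 x2 x3 x4 x5 x6 => @List.rec.{1, 0} ℤ @(fun x7 => ℤ) (@Nat.rec.{1} @(fun x7 => ℤ) (@Int.ofNat (@Nat.sub @x5 @x6)) @(fun x7 x8 => @Int.negSucc @x7) (@Nat.sub @x6 @x5)) @(fun x7 x8 x9 => @Int.rec.{1} @(fun x10 => ℤ) @(fun x10 => @Int.rec.{1} @(fun x11 => ℤ) @(fun x11 => @x3 @x8 (@Nat.add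 @x5 (@Nat.mul @x10 @x11)) @x6) @(fun x11 => @x3 @x8 @x5 (@Nat.add @x6 (@Nat.mul @x10 (@Nat.succ @x11)))) @x7) @(fun x10 => @Int.rec.{1} @(fun x11 => ℤ) @(fun x11 => @x3 @x8 @x5 (@Nat.add @x6 (@Nat.mul (@Nat.succ @x10) @x11))) @(fun x11 => @x3 @x8 (@Nat.add @x5 (@Nat.mul (@Nat.succ @x10) (@Nat.succ @x11))) @x6) @x7) @x1) @x4) @x0)) ?_); rfl') | exact @Cfsg.Agent.H843.IMC.Co2D.Fq.dk | exact ()
private theorem _root_.Cfsg.Agent.KOb559f68.e36 : (by first | exact @Cfsg.Agent.H843.IMC.Co2D.Fq.dk = @_root_.Cfsg.Agent.KOb559f68.k36 | exact True : Prop) := by first | (delta _root_.Cfsg.Agent.KOb559f68.k36; exact @Subtype.property _ (fun g => @Cfsg.Agent.H843.IMC.Co2D.Fq.dk = @g) _) | rfl | trivial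
private noncomputable def _root_.Cfsg.Agent.KOb559f68.k51 : type_of% @Bool.and := @(fun x0 x1 => @Bool.rec.{1} @(fun x2 => @Bool) @Bool.false @x1 @x0)
private theorem _root_.Cfsg.Agent.KOb559f68.e51 : @Bool.and = @_root_.Cfsg.Agent.KOb559f68.k51 := by delta _root_.Cfsg.Agent.KOb559f68.k51; rfl'
private noncomputable def _root_.Cfsg.Agent.KOb559f68.k53 : (by first | exact type_of% @Cfsg.Agent.CoOneType.CoEval.eqL | exact Unit : Sort _) := by first | (refine @Subtype.val _ (fun g => @Cfsg.Agent.CoOneType.CoEval.eqL = @g) (@Subtype.mk _ _ (@(fun (x0 : @List.{0} @Int) (x1 : @List.{0} @Int) => @List.rec.{1, 0} @Int @(fun (x2 : @List.{0} @Int) => ((@List.{0} @Int) → @Bool)) @(fun (x2 : @List.{0} @Int) => @List.rec.{1, 0} @Int @(fun (x3 : @List.{0} @Int) => (((@Nat.hasNotBit (nat_lit 1) (@List.ctorIdx.{0} @Int @x3)) → @Bool) → @Bool)) @(fun (x3 : ((@Nat.hasNotBit (nat_lit 1) (@List.ctorIdx.{0} @Int (@List.nil.{0} @Int))) → @Bool)) =>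 @Bool.true) @(fun (x3 : @Int) (x4 : @List.{0} @Int) (x5 : (((@Nat.hasNotBit (nat_lit 1) (@List.ctorIdx.{0} @Int @x4)) → @Bool) → @Bool)) (x6 : ((@Nat.hasNotBit (nat_lit 1) (@List.ctorIdx.{0} @Int (@List.cons.{0} @Int @x3 @x4))) → @Bool)) => @x6 (@Nat.ne_of_beq_eq_false (@Nat.land (@OfNat.ofNat.{0} @Nat (nat_lit 1) (@instOfNatNat (nat_lit 1))) (@Nat.shiftRight (nat_lit 1) (nat_lit 1))) (@OfNat.ofNat.{0} @Nat (nat_lit 1) (@instOfNatNat (nat_lit 1))) (@Eq.refl.{1} @Bool @Bool.false))) @x2 @(fun (x3 : @Nat.hasNotBit (nat_lit 1) (@List.ctorIdx.{0} @Int @x2)) => @Bool.false)) @(fun (x2 : @Int) (x3 : @List.{0} @Int) (x4 : ((@List.{0} @Int) → @Bool)) (x5 : @List.{0} @Int) => @List.rec.{1, 0} @Int @(fun (x6 : @List.{0} @Int) => (((@Nat.hasNotBit (nat_lit 2) (@List.ctorIdx.{0} @Int @x6)) → @Bool) → @Bool)) @(fun (x6 : ((@Nat.hasNotBit (nat_lit 2) (@List.ctorIdx.{0} @Int (@List.nil.{0} @Int))) → @Bool)) => @x6 (@Nat.ne_of_beq_eq_false (@Nat.land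 (@OfNat.ofNat.{0} @Nat (nat_lit 1) (@instOfNatNat (nat_lit 1))) (@Nat.shiftRight (nat_lit 2) (nat_lit 0))) (@OfNat.ofNat.{0} @Nat (nat_lit 1) (@instOfNatNat (nat_lit 1))) (@Eq.refl.{1} @Bool @Bool.false))) @(fun (x6 : @Int) (x7 : @List.{0} @Int) (x8 : (((@Nat.hasNotBit (nat_lit 2) (@List.ctorIdx.{0} @Int @x7)) → @Bool) → @Bool)) (x9 : ((@Nat.hasNotBit (nat_lit 2) (@List.ctorIdx.{0} @Int (@List.cons.{0} @Int @x6 @x7))) → @Bool)) => @Bool.rec.{1} @(fun (x10 : @Bool) => @Bool) @Bool.false (@x4 @x7) (@Decidable.rec.{1} (@Eq.{1} @Int @x2 @x6) @(fun (x10 : @Decidable (@Eq.{1} @Int @x2 @x6)) => @Bool) @(fun (x10 : @Not (@Eq.{1} @Int @x2 @x6)) => @Bool.false) @(fun (x10 : @Eq.{1} @Int @x2 @x6) => @Bool.true) (@Cfsg.Agent.KOb559f68.k13 @x2 @x6))) @x5 @(fun (x6 : @Nat.hasNotBit (nat_lit 2) (@List.ctorIdx.{0} @Int @x5)) => @Bool.false)) @x0 @x1)) ?_); rewrite [← Cfsg.Agent.KOb559f68.e13]; funext a0 a1; refine (congrFun (_root_.Cfsg.Agent.KOb559f68.e4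 (fun a0 a1 => @Cfsg.Agent.CoOneType.CoEval.eqL a0 a1) ?_ (fun c0 c1 => ?_) a0) a1 :) <;> [(funext b0; (cases b0 with | @nil  => (rfl') | @cons b0_0 b0_1 => (rfl'))); (funext b0; (cases b0 with | @nil  => (rfl') | @cons b0_0 b0_1 => (rfl')))]) | exact @Cfsg.Agent.CoOneType.CoEval.eqL | exact ()
private theorem _root_.Cfsg.Agent.KOb559f68.e53 : (by first | exact @Cfsg.Agent.CoOneType.CoEval.eqL = @_root_.Cfsg.Agent.KOb559f68.k53 | exact True : Prop) := by first | (delta _root_.Cfsg.Agent.KOb559f68.k53; exact @Subtype.property _ (fun g => @Cfsg.Agent.CoOneType.CoEval.eqL = @g) _) | rfl | trivial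

private noncomputable def evK (l : List ℤ) : ℤ := List.rec 0 (fun a _ x => a + 1048576 * x) l

private theorem evK_inj : ∀ l m : List ℤ, l.length = m.length → (∀ a ∈ l, |a| ≤ 300000) → (∀ a ∈ m, |a| ≤ 300000) →
    evK l = evK m → l = m
  | [], [], _, _, _, _ => rfl
  | [], _ :: _, h, _, _, _ => nomatch h
  | _ :: _, [], h, _, _, _ => nomatch h
  | a :: l, b :: m, h, h1, h2, h3 => by
    have e : a + 1048576 * evK l = b + 1048576 * evK m := h3
    have ha := abs_le.1 (h1 a List.mem_cons_self)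
    have hb := abs_le.1 (h2 b List.mem_cons_self)
    have e1 : a = b := by omega
    have e2 : evK l = evK m := by omega
    rw [e1, evK_inj l m (Nat.succ.inj h) (fun c hc => h1 c (List.mem_cons_of_mem _ hc))
      (fun c hc => h2 c (List.mem_cons_of_mem _ hc)) e2]

private noncomputable def colK (R : List (List ℤ)) : List ℤ :=
  List.rec (List.replicate 24 0) (fun r _ c => List.zipWith (fun a b => a + 1048576 * b) r c) R

private theorem dotK_zip : ∀ l r c : List ℤ, r.length = c.length →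
    dotL l (List.zipWith (fun a b => a + 1048576 * b) r c) = dotL l r + 1048576 * dotL l c
  | [], _, _, _ => by simp only [dotL_nil_left]; rfl
  | _ :: _, [], [], _ => by simp only [List.zipWith_nil_left, dotL_nil_right]; rfl
  | _ :: _, [], _ :: _, h => nomatch h
  | _ :: _, _ :: _, [], h => nomatch h
  | x :: l, a :: r, b :: c, h => by
    rw [List.zipWith_cons_cons, dotL_cons, dotL_cons, dotL_cons, dotK_zip l r c (Nat.succ.inj h)]; ring

private theorem dotK_zero : ∀ (l : List ℤ) (n : ℕ), dotL l (List.replicate n 0) = 0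
  | [], _ => dotL_nil_left _
  | _ :: _, 0 => dotL_nil_right _
  | x :: l, n + 1 => by rw [List.replicate_succ, dotL_cons, dotK_zero l n]; ring

private theorem colK_spec (l : List ℤ) : ∀ R : List (List ℤ), (∀ r ∈ R, r.length = 24) →
    (colK R).length = 24 ∧ dotL l (colK R) = evK (R.map fun r => dotL l r)
  | [], _ => ⟨List.length_replicate, dotK_zero l 24⟩
  | r :: R, h => by
    obtain ⟨h1, h2⟩ := colK_spec l R fun s hs => h s (List.mem_cons_of_mem _ hs)
    have h3 := h r List.mem_cons_self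
    refine ⟨?_, ?_⟩
    · show (List.zipWith (fun a b => a + 1048576 * b) r (colK R)).length = 24
      rw [List.length_zipWith, h1, h3]; rfl
    · show dotL l (List.zipWith (fun a b => a + 1048576 * b) r (colK R)) = dotL l r + 1048576 * evK (R.map fun r => dotL l r)
      rw [dotK_zip l r _ (h3.trans h1.symm), h2]

private theorem dotK_le : ∀ l r : List ℤ, (∀ a ∈ l, |a| ≤ 11) → (∀ b ∈ r, |b| ≤ 1000) → |dotL l r| ≤ 11000 * l.length
  | [], _, _, _ => by rw [dotL_nil_left]; exact le_refl _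
  | _ :: l, [], _, _ => by rw [dotL_nil_right, abs_zero]; positivity
  | a :: l, b :: r, h1, h2 => by
    have h3 := dotK_le l r (fun c hc => h1 c (List.mem_cons_of_mem _ hc)) fun c hc => h2 c (List.mem_cons_of_mem _ hc)
    have h4 : |a * b| ≤ 11 * 1000 := by
      rw [abs_mul]
      exact mul_le_mul (h1 a List.mem_cons_self) (h2 b List.mem_cons_self) (abs_nonneg _) (by norm_num)
    have h5 := abs_add_le (a * b) (dotL l r)
    rw [dotL_cons, List.length_cons]
    push_cast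
    linarith only [h3, h4, h5]

private theorem L_leK (i : ℕ) : ∀ a ∈ L i, |a| ≤ 11 := by
  intro a ha
  obtain ⟨c, -, rfl⟩ := List.mem_map.1 ha
  have h := Nat.mod_lt (Ls.getD i 75059993789508 / 16 ^ c) (show 0 < 16 by decide)
  show |Int.ofNat (Ls.getD i 75059993789508 / 16 ^ c % 16) - 4| ≤ 11
  generalize Ls.getD i 75059993789508 / 16 ^ c % 16 = x at h
  rw [Int.ofNat_eq_natCast, abs_le]
  omega

private theorem eqL_rflK : ∀ l : List ℤ, eqL l l = true
  | [] => rfl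
  | a :: l => by
    show (decide (a = a) && eqL l l) = true
    rw [decide_eq_true rfl, eqL_rflK l]; rfl

private noncomputable def ckK (R : List (List ℤ)) (pv : List ℕ) : Bool :=
  (Nat.beq R.length 24 && R.all fun r => Nat.beq r.length 24 && r.all fun a => Nat.ble a.natAbs 1000) &&
  (List.range 82).all fun i => Nat.rec (motive := fun _ => Bool) false
    (fun j _ => decide (Fq.dk (L i) (colK R) 0 0 = 8 * evK (L j)) && Nat.blt j 82) (Nat.succ (pv.getD i 0))

private theorem ckK_sound {R : List (List ℤ)} {pv : List ℕ} (h : ckK R pv = true) :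
    (List.range 82).all (fun i => eqL (ap R (L i)) (L (pv.getD i 0)) && Nat.blt (pv.getD i 0) 82) = true := by
  delta ckK at h
  rw [Bool.and_eq_true, Bool.and_eq_true] at h
  have hR := List.all_eq_true.1 h.1.2
  have hl : ∀ r ∈ R, r.length = 24 := fun r hr => Nat.eq_of_beq_eq_true (Bool.and_eq_true_iff.1 (hR r hr)).1
  have hb : ∀ r ∈ R, ∀ a ∈ r, |a| ≤ 1000 := fun r hr a ha => by
    have := Nat.le_of_ble_eq_true (List.all_eq_true.1 (Bool.and_eq_true_iff.1 (hR r hr)).2 a ha)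
    rw [← Int.natCast_natAbs]; exact_mod_cast this
  refine List.all_eq_true.2 fun i hi => ?_
  have h1 : (decide (Fq.dk (L i) (colK R) 0 0 = 8 * evK (L (pv.getD i 0))) && Nat.blt (pv.getD i 0) 82) = true :=
    List.all_eq_true.1 h.2 i hi
  generalize pv.getD i 0 = j at h1 ⊢
  rw [Bool.and_eq_true] at h1 ⊢
  refine ⟨?_, h1.2⟩
  have h2 := of_decide_eq_true h1.1
  have h3 : ∀ l : List ℤ, 8 * evK l = evK (l.map fun a => 8 * a) := fun l => by
    induction l with
    | nil => rfl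
    | cons a l ih =>
      show 8 * (a + 1048576 * evK l) = 8 * a + 1048576 * evK (l.map fun a => 8 * a)
      rw [← ih]; ring
  rw [Fq.dk0, (colK_spec (L i) R hl).2, h3] at h2
  have h4 := evK_inj _ _ (by rw [List.length_map, List.length_map, length_L, Nat.eq_of_beq_eq_true h.1.1]) (fun a ha => by
      obtain ⟨r, hr, rfl⟩ := List.mem_map.1 ha
      have := dotK_le (L i) r (L_leK i) (hb r hr)
      rw [length_L] at this
      exact this.trans (by norm_num)) (fun a ha => by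
      obtain ⟨b, hb, rfl⟩ := List.mem_map.1 ha
      have := abs_le.1 (L_leK j b hb)
      rw [abs_le]; omega) h2
  have h5 : ap R (L i) = L j := by
    have e : ap R (L i) = (R.map fun r => dotL (L i) r).map (· / 8) := by rw [List.map_map]; rfl
    rw [e, h4, List.map_map]
    refine (List.map_congr_left fun a _ => ?_).trans (List.map_id _)
    show 8 * a / 8 = a
    omega
  rw [h5]
  exact eqL_rflK _

private theorem ckK_all : (ckK R0 pv0 && ckK R1 pv1 && ckK R2 pv2) = true := by decide +kernel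

theorem chk0 : (List.range 82).all (fun i => eqL (ap R0 (L i)) (L (pv0.getD i 0)) && Nat.blt (pv0.getD i 0) 82) = true :=
  ckK_sound (Bool.and_eq_true_iff.1 (Bool.and_eq_true_iff.1 ckK_all).1).1

theorem chk1 : (List.range 82).all (fun i => eqL (ap R1 (L i)) (L (pv1.getD i 0)) && Nat.blt (pv1.getD i 0) 82) = true :=
  ckK_sound (Bool.and_eq_true_iff.1 (Bool.and_eq_true_iff.1 ckK_all).1).2

theorem chk2 : (List.range 82).all (fun i => eqL (ap R2 (L i)) (L (pv2.getD i 0)) && Nat.blt (pv2.getD i 0) 82) = true :=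
  ckK_sound (Bool.and_eq_true_iff.1 ckK_all).2

/-- The vector `w`. -/
def wl : List ℤ := Cfsg.Agent.LThreeCo1Twelve.Data.vl (2, 2, 0, 0)

theorem chk_w : (eqL (ap R0 wl) wl && eqL (ap R1 wl) wl && eqL (ap R2 wl) wl) = true := by decide +kernel

private noncomputable def _root_.Cfsg.Agent.KOb559f68.k0 : type_of% @Decidable.decide := @(fun x0 x1 => @Decidable.rec.{1} _ @(fun x2 => @Bool) @(fun x2 => @Bool.false) @(fun x2 => @Bool.true) @x1)
private theorem _root_.Cfsg.Agent.KOb559f68.e0 : @Decidable.decide = @_root_.Cfsg.Agent.KOb559f68.k0 := by delta _root_.Cfsg.Agent.KOb559f68.k0; rfl'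
private noncomputable def _root_.Cfsg.Agent.KOb559f68.k14 : type_of% @Int.instDecidableEq := @Cfsg.Agent.KOb559f68.k13
private theorem _root_.Cfsg.Agent.KOb559f68.e14 : @Int.instDecidableEq = @_root_.Cfsg.Agent.KOb559f68.k14 := by delta _root_.Cfsg.Agent.KOb559f68.k14; rewrite [← Cfsg.Agent.KOb559f68.e13]; rfl'
private noncomputable def _root_.Cfsg.Agent.KOb559f68.k26 : type_of% @Int.mul := @(fun x0 x1 => @Int.rec.{1} @(fun x2 => ℤ) @(fun x2 => @Int.rec.{1} @(fun x3 => ℤ) @(fun x3 => @Int.ofNat (@Nat.mul @x2 @x3)) @(fun x3 => @Nat.rec.{1} @(fun x4 => ℤ) (@Int.ofNat (nat_lit 0)) @(fun x4 x5 => @Int.negSucc @x4) (@Nat.mul @x2 (@Nat.succ @x3))) @x1) @(fun x2 => @Int.rec.{1} @(fun x3 => ℤ) @(fun x3 => @Nat.rec.{1} @(fun x4 => ℤ) (@Int.ofNat (nat_lit 0)) @(fun x4 x5 => @Int.negSucc @x4) (@Nat.mul (@Nat.succ @x2) @x3)) @(fun x3 => @Int.ofNat (@Nat.mul (@Nat.succ @x2) (@Nat.succ @x3))) @x1) @x0)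
private theorem _root_.Cfsg.Agent.KOb559f68.e26 : @Int.mul = @_root_.Cfsg.Agent.KOb559f68.k26 := by delta _root_.Cfsg.Agent.KOb559f68.k26; rfl'
private noncomputable def _root_.Cfsg.Agent.KOb559f68.k64 : (by first | exact type_of% @Cfsg.Agent.LThreeCo1Twelve.Data.vl | exact Unit : Sort _) := by first | (refine @Subtype.val _ (fun g => @Cfsg.Agent.LThreeCo1Twelve.Data.vl = @g) (@Subtype.mk _ _ (@(fun x0 => (@Cfsg.Agent.KOb559f68.k26 (@Int.ofNat (nat_lit 2)) (@Prod.fst.{0, 0} _ _ @x0)) :: ((@Int.ofNat (nat_lit 0)) :: ((@Cfsg.Agent.KOb559f68.k26 (@Int.ofNat (nat_lit 2)) (@Prod.fst.{0, 0} _ _ (@Prod.snd.{0, 0} _ _ (@Prod.snd.{0, 0} _ _ @x0)))) :: ((@Int.ofNat (nat_lit 0)) :: ((@Int.ofNat (nat_lit 0)) :: ((@Cfsg.Agent.KOb559f68.k26 (@Int.ofNat (nat_lit 2)) (@Prod.snd.{0, 0} _ _ (@Prod.snd.{0, 0} _ _ (@Prod.snd.{0, 0} _ _ @x0)))) :: ((@Int.ofNat (nat_lit 0)) :: ((@Cfsg.Agent.KOb559f68.k26 (@Int.ofNat (nat_lit 2)) (@Prod.snd.{0, 0} _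 _ (@Prod.snd.{0, 0} _ _ (@Prod.snd.{0, 0} _ _ @x0)))) :: ((@Int.ofNat (nat_lit 0)) :: ((@Cfsg.Agent.KOb559f68.k26 (@Int.ofNat (nat_lit 2)) (@Prod.fst.{0, 0} _ _ (@Prod.snd.{0, 0} _ _ (@Prod.snd.{0, 0} _ _ @x0)))) :: ((@Int.ofNat (nat_lit 0)) :: ((@Int.ofNat (nat_lit 0)) :: ((@Cfsg.Agent.KOb559f68.k26 (@Int.ofNat (nat_lit 2)) (@Prod.fst.{0, 0} _ _ (@Prod.snd.{0, 0} _ _ @x0))) :: ((@Int.ofNat (nat_lit 0)) :: ((@Int.ofNat (nat_lit 0)) :: ((@Int.ofNat (nat_lit 0)) :: ((@Int.ofNat (nat_lit 0)) :: ((@Int.ofNat (nat_lit 0)) :: ((@Int.ofNat (nat_lit 0)) :: ((@Int.ofNat (nat_lit 0)) :: ((@Int.ofNat (nat_lit 0)) :: ((@Int.ofNat (nat_lit 0)) :: ((@Cfsg.Agent.KOb559f68.k26 (@Int.ofNat (nat_lit 2)) (@Prod.fst.{0, 0} _ _ (@Prod.snd.{0, 0} _ _ (@Prod.snd.{0, 0} _ _ @x0)))) :: ((@Cfsg.Agent.KOb559f68.k26 (@Int.ofNat (nat_lit 2)) (@Prod.snd.{0, 0} _ _ (@Prod.snd.{0, 0} _ _ (@Prod.snd.{0, 0} _ _ @x0)))) :: []))))))))))))))))))))))))) ?_); rewrite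 [← Cfsg.Agent.KOb559f68.e26]; rfl') | exact @Cfsg.Agent.LThreeCo1Twelve.Data.vl | exact ()
private theorem _root_.Cfsg.Agent.KOb559f68.e64 : (by first | exact @Cfsg.Agent.LThreeCo1Twelve.Data.vl = @_root_.Cfsg.Agent.KOb559f68.k64 | exact True : Prop) := by first | (delta _root_.Cfsg.Agent.KOb559f68.k64; exact @Subtype.property _ (fun g => @Cfsg.Agent.LThreeCo1Twelve.Data.vl = @g) _) | rfl | trivial

theorem chk_n : (List.range 82).all (fun i => decide (dotL (L i) (L i) = 32) && decide (dotL (L i) wl = 16)) = true := by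
  rw [dot_eq]; (first | (delta Cfsg.Agent.H843.IMC.Co2D.wl; rewrite [Cfsg.Agent.KOb559f68.e5.{0}, Cfsg.Agent.KOb559f68.e61, Cfsg.Agent.KOb559f68.e51, Cfsg.Agent.KOb559f68.e0, Cfsg.Agent.KOb559f68.e14, Cfsg.Agent.KOb559f68.e36, Cfsg.Agent.KOb559f68.e63, Cfsg.Agent.KOb559f68.e64]; decide +kernel) | decide +kernel)

private noncomputable def _root_.Cfsg.Agent.KOb559f68.k9 : type_of% @instDecidableEqNat := @Cfsg.Agent.KOb559f68.k8
private theorem _root_.Cfsg.Agent.KOb559f68.e9 : @instDecidableEqNat = @_root_.Cfsg.Agent.KOb559f68.k9 := by delta _root_.Cfsg.Agent.KOb559f68.k9; rewrite [← Cfsg.Agent.KOb559f68.e8]; rfl'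
private noncomputable def _root_.Cfsg.Agent.KOb559f68.k68.{ku0} : type_of% @List.decidableBAll.{ku0} := @(fun x0 x1 x2 x3 => @List.rec.{1, ku0} @x0 @(fun x4 => @Decidable ((x5 : @x0) → (@Membership.mem.{ku0, ku0} _ _ _ @x4 @x5) → @x1 @x5)) (@Decidable.isTrue _ (@List.decidableBAll._proof_1.{ku0} _ @x1)) @(fun x4 x5 x6 => @Decidable.rec.{1} _ @(fun x7 => @Decidable ((x8 : @x0) → (@Membership.mem.{ku0, ku0} _ _ _ (@x4 :: @x5) @x8) → @x1 @x8)) @(fun x7 => @Decidable.isFalse _ (@List.decidableBAll._proof_4.{ku0} _ @x1 @x4 @x5 @x7)) @(fun x7 => @Decidable.rec.{1} _ @(fun x8 => @Decidable ((x9 : @x0) → (@Membership.mem.{ku0, ku0} _ _ _ (@x4 :: @x5) @x9) → @x1 @x9)) @(fun x8 => @Decidable.isFalse _ (@List.decidableBAll._proof_3.{ku0} _ @x1 @x4 @x5 @x8)) @(fun x8 => @Decidable.isTrue _ (@List.decidableBAll._proof_2.{ku0} _ @x1 @x4 @x5 @x7 @x8)) @x6) (@x2 @x4)) @x3)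
private theorem _root_.Cfsg.Agent.KOb559f68.e68.{ku0} : @List.decidableBAll.{ku0} = @_root_.Cfsg.Agent.KOb559f68.k68.{ku0} := by delta _root_.Cfsg.Agent.KOb559f68.k68; funext a0 a1 a2 a3; refine (_root_.Cfsg.Agent.KOb559f68.e4 (fun a3 => @List.decidableBAll.{ku0} a0 a1 a2 a3) ?_ (fun c0 c1 => ?_) a3 :) <;> (rfl')
private noncomputable def _root_.Cfsg.Agent.KOb559f68.k69.{ku0} : type_of% @List.instDecidablePairwise.{ku0} := @(fun x0 x1 x2 x3 => @List.rec.{1, ku0} @x0 @(fun x4 => @Decidable (@List.Pairwise.{ku0} _ @x1 @x4)) (@Decidable.isTrue _ (@List.Pairwise.nil.{ku0} _ _)) @(fun x4 x5 x6 => @Decidable.rec.{1} _ @(fun x7 => @Decidable (@List.Pairwise.{ku0} _ @x1 (@x4 :: @x5))) @(fun x7 => @Decidable.isFalse _ (@List.instDecidablePairwise._proof_3.{ku0} _ _ @x4 @x5 @x7)) @(fun x7 => @Decidable.rec.{1} _ @(fun x8 => @Decidable (@List.Pairwise.{ku0} _ @x1 (@x4 :: @x5))) @(fun x8 => @Decidable.isFalse _ (@List.instDecidablePairwise._proof_1.{ku0}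 _ _ @x4 @x5 @x8)) @(fun x8 => @Decidable.isTrue _ (@List.instDecidablePairwise._proof_2.{ku0} _ _ @x4 @x5 @x7 @x8)) (@Cfsg.Agent.KOb559f68.k68.{ku0} _ (@x1 @x4) (@x2 @x4) @x5)) @x6) @x3)
private theorem _root_.Cfsg.Agent.KOb559f68.e69.{ku0} : @List.instDecidablePairwise.{ku0} = @_root_.Cfsg.Agent.KOb559f68.k69.{ku0} := by delta _root_.Cfsg.Agent.KOb559f68.k69; rewrite [← Cfsg.Agent.KOb559f68.e68.{ku0}]; funext a0 a1 a2 a3; refine (_root_.Cfsg.Agent.KOb559f68.e4 (fun a3 => @List.instDecidablePairwise.{ku0} a0 a1 a2 a3) ?_ (fun c0 c1 => ?_) a3 :) <;> (rfl')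
private noncomputable def _root_.Cfsg.Agent.KOb559f68.k70.{ku0} : type_of% @List.nodupDecidable.{ku0} := @(fun x0 x1 => @Cfsg.Agent.KOb559f68.k69.{ku0} _ @(fun x2 x3 => @Ne.{(ku0+1)} _ @x2 @x3) @(fun x2 x3 => @Decidable.rec.{1} _ @(fun x4 => @Decidable (¬ (@Eq.{(ku0+1)} _ @x2 @x3))) @(fun x4 => @Decidable.isTrue _ @x4) @(fun x4 => @Decidable.isFalse _ (@absurd.{0} _ _ @x4)) (@x1 @x2 @x3)))
private theorem _root_.Cfsg.Agent.KOb559f68.e70.{ku0} : @List.nodupDecidable.{ku0} = @_root_.Cfsg.Agent.KOb559f68.k70.{ku0} := by delta _root_.Cfsg.Agent.KOb559f68.k70; rewrite [← Cfsg.Agent.KOb559f68.e69.{ku0}]; rfl'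

theorem nodup_Ls : Ls.Nodup := by (first | (refine of_decide_eq_true ?_; rewrite [Cfsg.Agent.KOb559f68.e0, Cfsg.Agent.KOb559f68.e70.{0}, Cfsg.Agent.KOb559f68.e9]; decide +kernel) | decide +kernel)

theorem length_Ls : Ls.length = 82 := by decide +kernel

/-- The code of a list. -/
def enc (l : List ℤ) : ℕ :=
  ([0, 12, 3, 10, 20, 21, 1, 2, 4, 5, 8, 13].mapIdx fun c j => (l.getD j 0 + 4).toNat * 16 ^ c).sum

private noncomputable def _root_.Cfsg.Agent.KOb559f68.k17.{ku0, ku1} : type_of% @List.foldr.{ku0, ku1} := @(fun x0 x1 x2 x3 x4 => @List.rec.{(ku1+1), ku0} @x0 @(fun x5 => @x1) @x3 @(fun x5 x6 x7 => @x2 @x5 @x7) @x4)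
private theorem _root_.Cfsg.Agent.KOb559f68.e17.{ku0, ku1} : @List.foldr.{ku0, ku1} = @_root_.Cfsg.Agent.KOb559f68.k17.{ku0, ku1} := by delta _root_.Cfsg.Agent.KOb559f68.k17; funext a0 a1 a2 a3 a4; refine (_root_.Cfsg.Agent.KOb559f68.e4 (fun a4 => @List.foldr.{ku0, ku1} a0 a1 a2 a3 a4) ?_ (fun c0 c1 => ?_) a4 :) <;> (rfl')
private noncomputable def _root_.Cfsg.Agent.KOb559f68.k71.{ku0} : type_of% @List.concat.{ku0} := @(fun x0 x1 x2 => @List.rec.{(ku0+1), ku0} @x0 @(fun x3 => @x0 → @List.{ku0} @x0) @(fun x3 => @x3 :: []) @(fun x3 x4 x5 x6 => @x3 :: (@x5 @x6)) @x1 @x2)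
private theorem _root_.Cfsg.Agent.KOb559f68.e71.{ku0} : @List.concat.{ku0} = @_root_.Cfsg.Agent.KOb559f68.k71.{ku0} := by delta _root_.Cfsg.Agent.KOb559f68.k71; funext a0 a1 a2; refine (congrFun (_root_.Cfsg.Agent.KOb559f68.e4 (fun a1 a2 => @List.concat.{ku0} a0 a1 a2) ?_ (fun c0 c1 => ?_) a1) a2 :) <;> (rfl')
private noncomputable def _root_.Cfsg.Agent.KOb559f68.k72.{ku0, ku1} : type_of% @List.mapIdx.go.{ku0, ku1} := @(fun x0 x1 x2 x3 x4 => @List.rec.{(ku1+1), ku0} @x0 @(fun x5 => (@Array.{ku1} @x1) → @List.{ku1} @x1) @(fun x5 => @Array.toList.{ku1} _ @x5) @(fun x5 x6 x7 x8 => @x7 (@Array.mk.{ku1} _ (@Cfsg.Agent.KOb559f68.k71.{ku1} _ (@Array.toList.{ku1} _ @x8) (@x2 (@Cfsg.Agent.KOb559f68.k6.{ku1} _ (@Array.toList.{ku1} _ @x8)) @x5)))) @x3 @x4)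
private theorem _root_.Cfsg.Agent.KOb559f68.e72.{ku0, ku1} : @List.mapIdx.go.{ku0, ku1} = @_root_.Cfsg.Agent.KOb559f68.k72.{ku0, ku1} := by delta _root_.Cfsg.Agent.KOb559f68.k72; rewrite [← Cfsg.Agent.KOb559f68.e6.{ku1}, ← Cfsg.Agent.KOb559f68.e71.{ku1}]; funext a0 a1 a2 a3 a4; refine (congrFun (_root_.Cfsg.Agent.KOb559f68.e4 (fun a3 a4 => @List.mapIdx.go.{ku0, ku1} a0 a1 a2 a3 a4) ?_ (fun c0 c1 => ?_) a3) a4 :) <;> (rfl')
private noncomputable def _root_.Cfsg.Agent.KOb559f68.k73 : (by first | exact type_of% @Cfsg.Agent.H843.IMC.Co2D.enc | exact Unit : Sort _) := by first | (refine @Subtype.val _ (fun g => @Cfsg.Agent.H843.IMC.Co2D.enc = @g) (@Subtype.mk _ _ (@(fun x0 => @Cfsg.Agent.KOb559f68.k17.{0, 0} _ _ @(fun x1 x2 => @Nat.add @x1 @x2) (nat_lit 0) (@Cfsg.Agent.KOb559f68.k72.{0, 0} _ _ @(fun x1 x2 => @Nat.mul (@Int.rec.{1} @(fun x3 => ℕ) @(fun x3 => @x3) @(fun x3 => nat_lit 0) (@Cfsg.Agent.KOb559f68.k25 (@Option.rec.{1, 0}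 ℤ @(fun x3 => ℤ) (@Int.ofNat (nat_lit 0)) @(fun x3 => @x3) (@Cfsg.Agent.KOb559f68.k33.{0} _ @x0 @x2)) (@Int.ofNat (nat_lit 4)))) (@Nat.pow (nat_lit 16) @x1)) ((nat_lit 0) :: ((nat_lit 12) :: ((nat_lit 3) :: ((nat_lit 10) :: ((nat_lit 20) :: ((nat_lit 21) :: ((nat_lit 1) :: ((nat_lit 2) :: ((nat_lit 4) :: ((nat_lit 5) :: ((nat_lit 8) :: ((nat_lit 13) :: [])))))))))))) (@Array.mk.{0} _ [])))) ?_); rewrite [← Cfsg.Agent.KOb559f68.e33.{0}, ← Cfsg.Agent.KOb559f68.e25, ← Cfsg.Agent.KOb559f68.e72.{0, 0}, ← Cfsg.Agent.KOb559f68.e17.{0, 0}]; rfl') | exact @Cfsg.Agent.H843.IMC.Co2D.enc | exact ()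
private theorem _root_.Cfsg.Agent.KOb559f68.e73 : (by first | exact @Cfsg.Agent.H843.IMC.Co2D.enc = @_root_.Cfsg.Agent.KOb559f68.k73 | exact True : Prop) := by first | (delta _root_.Cfsg.Agent.KOb559f68.k73; exact @Subtype.property _ (fun g => @Cfsg.Agent.H843.IMC.Co2D.enc = @g) _) | rfl | trivial

theorem chkE : (List.range 82).all (fun i => Nat.beq (enc (L i)) (Ls.getD i 75059993789508)) = true := by (first | (rewrite [Cfsg.Agent.KOb559f68.e5.{0}, Cfsg.Agent.KOb559f68.e61, Cfsg.Agent.KOb559f68.e73, Cfsg.Agent.KOb559f68.e63, Cfsg.Agent.KOb559f68.e34.{0}]; decide +kernel) | decide +kernel)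

private noncomputable def _root_.Cfsg.Agent.KOb559f68.k24.{ku0, ku1, ku2} : type_of% @List.zipWith.{ku0, ku1, ku2} := @(fun x0 x1 x2 x3 x4 x5 => @List.rec.{(max (ku1+1) (ku2+1)), ku0} @x0 @(fun x6 => (@List.{ku1} @x1) → @List.{ku2} @x2) @(fun x6 => []) @(fun x6 x7 x8 x9 => @List.rec.{(ku2+1), ku1} @x1 @(fun x10 => @List.{ku2} @x2) [] @(fun x10 x11 x12 => (@x3 @x6 @x10) :: (@x8 @x11)) @x9) @x4 @x5)
private theorem _root_.Cfsg.Agent.KOb559f68.e24.{ku0, ku1, ku2} : @List.zipWith.{ku0, ku1, ku2} = @_root_.Cfsg.Agent.KOb559f68.k24.{ku0, ku1, ku2} := by delta _root_.Cfsg.Agent.KOb559f68.k24; funext a0 a1 a2 a3 a4 a5; refine (congrFun (_root_.Cfsg.Agent.KOb559f68.e4 (fun a4 a5 => @List.zipWith.{ku0, ku1, ku2} a0 a1 a2 a3 a4 a5) ?_ (fun c0 c1 => ?_) a4) a5 :) <;> [(funext b0; (rfl')); (funext b0; (cases b0 with | @nil  => (rfl') | @cons b0_0 b0_1 => (rfl')))]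

theorem chkP : (List.range 41).all (fun q => eqL (List.zipWith (· + ·) (L (2 * q)) (L (2 * q + 1))) wl) = true := by
  (first | (delta Cfsg.Agent.H843.IMC.Co2D.wl; rewrite [Cfsg.Agent.KOb559f68.e5.{0}, Cfsg.Agent.KOb559f68.e61, Cfsg.Agent.KOb559f68.e53, Cfsg.Agent.KOb559f68.e24.{0, 0, 0}, Cfsg.Agent.KOb559f68.e63, Cfsg.Agent.KOb559f68.e64]; decide +kernel) | decide +kernel)

/-! ### The quadrangle -/

/-- Adjacency. -/
def adj (a b : ℕ) : Bool := (AM.getD a 0).testBit b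

/-- Incidence. -/
def inc (a m : ℕ) : Bool := (LM.getD m 0).testBit a

/-- The line through two points. -/
def tl (a b : ℕ) : ℕ := TL.getD a 0 / 64 ^ b % 64

/-- The number of a flag. -/
def fi (a m : ℕ) : ℕ := FI.getD a 0 / 256 ^ m % 256

private noncomputable def _root_.Cfsg.Agent.KOb559f68.k2 : type_of% @Bool.decEq := @(fun x0 x1 => @Bool.rec.{1} @(fun x2 => @Decidable (@Eq.{1} _ @x2 @x1)) (@Bool.rec.{1} @(fun x2 => @Decidable (@Eq.{1} _ @Bool.false @x2)) (@Decidable.isTrue _ (@rfl.{1} _ _)) (@Decidable.isFalse _ @(fun x2 => @Bool.noConfusion.{0} _ _ _ @x2)) @x1) (@Bool.rec.{1} @(fun x2 => @Decidable (@Eq.{1} _ @Bool.true @x2)) (@Decidable.isFalse _ @(fun x2 => @Bool.noConfusion.{0} _ _ _ @x2)) (@Decidable.isTrue _ (@rfl.{1} _ _)) @x1) @x0)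
private theorem _root_.Cfsg.Agent.KOb559f68.e2 : @Bool.decEq = @_root_.Cfsg.Agent.KOb559f68.k2 := by delta _root_.Cfsg.Agent.KOb559f68.k2; rfl'
private noncomputable def _root_.Cfsg.Agent.KOb559f68.k3 : type_of% @instDecidableEqBool := @Cfsg.Agent.KOb559f68.k2
private theorem _root_.Cfsg.Agent.KOb559f68.e3 : @instDecidableEqBool = @_root_.Cfsg.Agent.KOb559f68.k3 := by delta _root_.Cfsg.Agent.KOb559f68.k3; rewrite [← Cfsg.Agent.KOb559f68.e2]; rfl'
private noncomputable def _root_.Cfsg.Agent.KOb559f68.oEq.{ku} (α : Sort ku) (a b : Nat) (f t : α) : α := @Decidable.rec (a = b) (fun _ => α) (fun _ => f) (fun _ => t) (Nat.decEq a b)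
private noncomputable def _root_.Cfsg.Agent.KOb559f68.k74.{ku} (α : Sort ku) (a b : Nat) (f t : α) : α := @Bool.rec (fun _ => α) f t (Nat.beq a b)
private theorem _root_.Cfsg.Agent.KOb559f68.e74.{ku} : @_root_.Cfsg.Agent.KOb559f68.oEq.{ku} = @_root_.Cfsg.Agent.KOb559f68.k74.{ku} := funext fun α => funext fun a => funext fun b => funext fun f => funext fun t => by delta _root_.Cfsg.Agent.KOb559f68.oEq _root_.Cfsg.Agent.KOb559f68.k74; cases h : Nat.beq a b <;> cases Nat.decEq a b <;> rename_i g <;> first | rfl | exact absurd g (Nat.ne_of_beq_eq_false h) | exact absurd (Nat.eq_of_beq_eq_true h) g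
private noncomputable def _root_.Cfsg.Agent.KOb559f68.k75 : (by first | exact type_of% @Cfsg.Agent.H843.IMC.Co2D.adj | exact Unit : Sort _) := by first | (refine @Subtype.val _ (fun g => @Cfsg.Agent.H843.IMC.Co2D.adj = @g) (@Subtype.mk _ _ (@(fun x0 x1 => @Bool.rec.{1} @(fun x2 => @Bool) @Bool.true @Bool.false (@Cfsg.Agent.KOb559f68.k74.{1} @Bool (@Nat.land (nat_lit 1) (@Nat.shiftRight (@Option.rec.{1, 0} ℕ @(fun x2 => ℕ) (nat_lit 0) @(fun x2 => @x2) (@Cfsg.Agent.KOb559f68.k33.{0} _ @Cfsg.Agent.H843.IMC.Co2D.AM @x0)) @x1)) (nat_lit 0) @Bool.false @Bool.true))) ?_); rewrite [← Cfsg.Agent.KOb559f68.e33.{0}, ← Cfsg.Agent.KOb559f68.e74.{1}]; (try delta Cfsg.Agent.H843.IMC.Co2D.adj); (try generalize @Cfsg.Agent.H843.IMC.Co2D.AM = g0); rfl') | exact @Cfsg.Agent.H843.IMC.Co2D.adj | exact ()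
private theorem _root_.Cfsg.Agent.KOb559f68.e75 : (by first | exact @Cfsg.Agent.H843.IMC.Co2D.adj = @_root_.Cfsg.Agent.KOb559f68.k75 | exact True : Prop) := by first | (delta _root_.Cfsg.Agent.KOb559f68.k75; exact @Subtype.property _ (fun g => @Cfsg.Agent.H843.IMC.Co2D.adj = @g) _) | rfl | trivial
private noncomputable def _root_.Cfsg.Agent.KOb559f68.k76 : type_of% @Bool.or := @(fun x0 x1 => @Bool.rec.{1} @(fun x2 => @Bool) @x1 @Bool.true @x0)
private theorem _root_.Cfsg.Agent.KOb559f68.e76 : @Bool.or = @_root_.Cfsg.Agent.KOb559f68.k76 := by delta _root_.Cfsg.Agent.KOb559f68.k76; rfl'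
private noncomputable def _root_.Cfsg.Agent.KOb559f68.k77 : type_of% @Bool.not := @(fun x0 => @Bool.rec.{1} @(fun x1 => @Bool) @Bool.true @Bool.false @x0)
private theorem _root_.Cfsg.Agent.KOb559f68.e77 : @Bool.not = @_root_.Cfsg.Agent.KOb559f68.k77 := by delta _root_.Cfsg.Agent.KOb559f68.k77; rfl'

private noncomputable def dgK (n : ℕ) : ℕ → List ℤ :=
  Nat.rec (fun _ => []) (fun _ ih M => Int.subNatNat (Nat.mod M 1048576) 524288 :: ih (Nat.div M 1048576)) n

private noncomputable def rwK (q : ℕ) (N : ℤ) (D : List ℤ) : Bool :=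
  (Nat.beq D.length 40 && D.all fun a => Nat.ble a.natAbs 300000) && decide (N = evK D) &&
    (List.zip (List.range 40) D).all fun p => (adj q p.1 == decide (p.2 = 8)) && (Nat.beq q p.1 || !decide (p.2 = 32))

private noncomputable def nmK (q : ℕ) : ℤ := Fq.dk (L (2 * q)) (colK ((List.range 40).map fun r => L (2 * r))) 0 0

private theorem rwK_sound {q : ℕ} {D : List ℤ} (h : rwK q (nmK q) D = true) : ((List.range 40).all fun r =>
    (adj q r == decide (dotL (L (2 * q)) (L (2 * r)) = 8)) && (Nat.beq q r || !decide (dotL (L (2 * q)) (L (2 * r)) = 32))) =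
    true := by
  delta rwK nmK at h
  rw [Bool.and_eq_true, Bool.and_eq_true, Bool.and_eq_true] at h
  have h2 := of_decide_eq_true h.1.2
  rw [Fq.dk0, (colK_spec (L (2 * q)) _ fun r hr => by
    obtain ⟨s, -, rfl⟩ := List.mem_map.1 hr; exact length_L _).2, List.map_map] at h2
  have h4 := evK_inj _ _ (by rw [List.length_map, List.length_range, Nat.eq_of_beq_eq_true h.1.1.1]) (fun a ha => by
      obtain ⟨r, -, rfl⟩ := List.mem_map.1 ha
      have := dotK_le (L (2 * q)) (L (2 * r)) (L_leK _) fun b hb => (L_leK _ b hb).trans (by norm_num)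
      rw [length_L] at this
      exact this.trans (by norm_num)) (fun a ha => by
      have := Nat.le_of_ble_eq_true (List.all_eq_true.1 h.1.1.2 a ha)
      rw [← Int.natCast_natAbs]; exact_mod_cast this) h2
  have h5 := h.2
  rw [← h4] at h5
  refine List.all_eq_true.2 fun r hr => List.all_eq_true.1 h5 (r, dotL (L (2 * q)) (L (2 * r))) ?_
  rw [List.zip_map_right]
  refine List.mem_map.2 ⟨(r, r), ?_, rfl⟩
  rw [List.zip_eq_zipWith, List.zipWith_self]
  exact List.mem_map.2 ⟨r, hr, rfl⟩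

theorem chkA : (List.range 40).all (fun q => (List.range 40).all fun r =>
    (adj q r == decide (dotL (L (2 * q)) (L (2 * r)) = 8)) && (Nat.beq q r || !decide (dotL (L (2 * q)) (L (2 * r)) = 32))) =
    true := by
  have h : ((List.range 40).all fun q => rwK q (nmK q) (dgK 40 (nmK q + evK (List.replicate 40 524288)).toNat)) = true := by
    decide +kernel
  exact List.all_eq_true.2 fun q hq => rwK_sound (List.all_eq_true.1 h q hq)

theorem chkZ : ((List.range 40).all (fun q => decide (dotL (L (2 * q)) (L (zr.getD q 0)) = 0) && Nat.blt (zr.getD q 0) 82) &&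
    (List.range 82).all (fun j => !decide (dotL (L 80) (L j) = 0) && !decide (dotL (L 81) (L j) = 0))) = true := by
  rw [dot_eq]; (first | (rewrite [Cfsg.Agent.KOb559f68.e51, Cfsg.Agent.KOb559f68.e5.{0}, Cfsg.Agent.KOb559f68.e61, Cfsg.Agent.KOb559f68.e0, Cfsg.Agent.KOb559f68.e14, Cfsg.Agent.KOb559f68.e36, Cfsg.Agent.KOb559f68.e63, Cfsg.Agent.KOb559f68.e34.{0}, Cfsg.Agent.KOb559f68.e77]; decide +kernel) | decide +kernel)

private noncomputable def _root_.Cfsg.Agent.KOb559f68.k78 : (by first | exact type_of% @Cfsg.Agent.H843.IMC.Co2D.inc | exact Unit : Sort _) := by first | (refine @Subtype.val _ (fun g => @Cfsg.Agent.H843.IMC.Co2D.inc = @g) (@Subtype.mk _ _ (@(fun x0 x1 => @Bool.rec.{1} @(fun x2 => @Bool) @Bool.true @Bool.false (@Cfsg.Agent.KOb559f68.k74.{1} @Bool (@Nat.land (nat_lit 1) (@Nat.shiftRight (@Option.rec.{1, 0} ℕ @(fun x2 => ℕ) (nat_lit 0) @(fun x2 => @x2) (@Cfsg.Agent.KOb559f68.k33.{0} _ @Cfsg.Agent.H843.IMC.Co2D.LM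 @x1)) @x0)) (nat_lit 0) @Bool.false @Bool.true))) ?_); rewrite [← Cfsg.Agent.KOb559f68.e33.{0}, ← Cfsg.Agent.KOb559f68.e74.{1}]; (try delta Cfsg.Agent.H843.IMC.Co2D.inc); (try generalize @Cfsg.Agent.H843.IMC.Co2D.LM = g0); rfl') | exact @Cfsg.Agent.H843.IMC.Co2D.inc | exact ()
private theorem _root_.Cfsg.Agent.KOb559f68.e78 : (by first | exact @Cfsg.Agent.H843.IMC.Co2D.inc = @_root_.Cfsg.Agent.KOb559f68.k78 | exact True : Prop) := by first | (delta _root_.Cfsg.Agent.KOb559f68.k78; exact @Subtype.property _ (fun g => @Cfsg.Agent.H843.IMC.Co2D.inc = @g) _) | rfl | trivial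

theorem chkL1 : (List.range 40).all (fun m => adj (L0.getD m 0) (L1.getD m 0) && (Nat.blt (L0.getD m 0) 40 &&
    Nat.blt (L1.getD m 0) 40) && (List.range 40).all fun c => inc c m == (Nat.beq c (L0.getD m 0) ||
      Nat.beq c (L1.getD m 0) || (adj c (L0.getD m 0) && adj c (L1.getD m 0)))) = true := by
  (first | (rewrite [Cfsg.Agent.KOb559f68.e5.{0}, Cfsg.Agent.KOb559f68.e61, Cfsg.Agent.KOb559f68.e51, Cfsg.Agent.KOb559f68.e75, Cfsg.Agent.KOb559f68.e34.{0}, Cfsg.Agent.KOb559f68.e3, Cfsg.Agent.KOb559f68.e78, Cfsg.Agent.KOb559f68.e76]; decide +kernel) | decide +kernel)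

private noncomputable def _root_.Cfsg.Agent.KOb559f68.k79 : (by first | exact type_of% @Cfsg.Agent.H843.IMC.Co2D.tl | exact Unit : Sort _) := by first | (refine @Subtype.val _ (fun g => @Cfsg.Agent.H843.IMC.Co2D.tl = @g) (@Subtype.mk _ _ (@(fun x0 x1 => @Nat.mod (@Nat.div (@Option.rec.{1, 0} ℕ @(fun x2 => ℕ) (nat_lit 0) @(fun x2 => @x2) (@Cfsg.Agent.KOb559f68.k33.{0} _ @Cfsg.Agent.H843.IMC.Co2D.TL @x0)) (@Nat.pow (nat_lit 64) @x1)) (nat_lit 64))) ?_); rewrite [← Cfsg.Agent.KOb559f68.e33.{0}]; (try delta Cfsg.Agent.H843.IMC.Co2D.tl); (try generalize @Cfsg.Agent.H843.IMC.Co2D.TL = g0); rfl') | exact @Cfsg.Agent.H843.IMC.Co2D.tl | exact ()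
private theorem _root_.Cfsg.Agent.KOb559f68.e79 : (by first | exact @Cfsg.Agent.H843.IMC.Co2D.tl = @_root_.Cfsg.Agent.KOb559f68.k79 | exact True : Prop) := by first | (delta _root_.Cfsg.Agent.KOb559f68.k79; exact @Subtype.property _ (fun g => @Cfsg.Agent.H843.IMC.Co2D.tl = @g) _) | rfl | trivial

theorem chkL2 : (List.range 40).all (fun a => (List.range 40).all fun b => !(adj a b) || (Nat.blt (tl a b) 40 &&
    (List.range 40).all fun c => inc c (tl a b) == (Nat.beq c a || Nat.beq c b || (adj c a && adj c b)))) = true := by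
  (first | (rewrite [Cfsg.Agent.KOb559f68.e5.{0}, Cfsg.Agent.KOb559f68.e61, Cfsg.Agent.KOb559f68.e76, Cfsg.Agent.KOb559f68.e77, Cfsg.Agent.KOb559f68.e75, Cfsg.Agent.KOb559f68.e51, Cfsg.Agent.KOb559f68.e79, Cfsg.Agent.KOb559f68.e3, Cfsg.Agent.KOb559f68.e78]; decide +kernel) | decide +kernel)

theorem chkL3 : (List.range 40).all (fun m => (List.range 40).all fun m' => Nat.beq m m' ||
    !(inc (L0.getD m 0) m' && inc (L1.getD m 0) m')) = true := by
  (first | (rewrite [Cfsg.Agent.KOb559f68.e5.{0}, Cfsg.Agent.KOb559f68.e61, Cfsg.Agent.KOb559f68.e76, Cfsg.Agent.KOb559f68.e77, Cfsg.Agent.KOb559f68.e51, Cfsg.Agent.KOb559f68.e78, Cfsg.Agent.KOb559f68.e34.{0}]; decide +kernel) | decide +kernel)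

private noncomputable def _root_.Cfsg.Agent.KOb559f68.k80 : (by first | exact type_of% @Cfsg.Agent.H843.IMC.Co2D.fi | exact Unit : Sort _) := by first | (refine @Subtype.val _ (fun g => @Cfsg.Agent.H843.IMC.Co2D.fi = @g) (@Subtype.mk _ _ (@(fun x0 x1 => @Nat.mod (@Nat.div (@Option.rec.{1, 0} ℕ @(fun x2 => ℕ) (nat_lit 0) @(fun x2 => @x2) (@Cfsg.Agent.KOb559f68.k33.{0} _ @Cfsg.Agent.H843.IMC.Co2D.FI @x0)) (@Nat.pow (nat_lit 256) @x1)) (nat_lit 256))) ?_); rewrite [← Cfsg.Agent.KOb559f68.e33.{0}]; (try delta Cfsg.Agent.H843.IMC.Co2D.fi); (try generalize @Cfsg.Agent.H843.IMC.Co2D.FI = g0); rfl') | exact @Cfsg.Agent.H843.IMC.Co2D.fi | exact ()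
private theorem _root_.Cfsg.Agent.KOb559f68.e80 : (by first | exact @Cfsg.Agent.H843.IMC.Co2D.fi = @_root_.Cfsg.Agent.KOb559f68.k80 | exact True : Prop) := by first | (delta _root_.Cfsg.Agent.KOb559f68.k80; exact @Subtype.property _ (fun g => @Cfsg.Agent.H843.IMC.Co2D.fi = @g) _) | rfl | trivial

theorem chkF1 : (List.range 40).all (fun a => (List.range 40).all fun m => !(inc a m) || (Nat.blt (fi a m) 160 &&
    Nat.beq (fa.getD (fi a m) 0) a && Nat.beq (fm.getD (fi a m) 0) m)) = true := by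
  (first | (rewrite [Cfsg.Agent.KOb559f68.e5.{0}, Cfsg.Agent.KOb559f68.e61, Cfsg.Agent.KOb559f68.e76, Cfsg.Agent.KOb559f68.e77, Cfsg.Agent.KOb559f68.e78, Cfsg.Agent.KOb559f68.e51, Cfsg.Agent.KOb559f68.e80, Cfsg.Agent.KOb559f68.e34.{0}]; decide +kernel) | decide +kernel)

theorem chkF2 : (List.range 160).all (fun i => Nat.blt (fa.getD i 0) 40 && Nat.blt (fm.getD i 0) 40 &&
    inc (fa.getD i 0) (fm.getD i 0) && Nat.beq (fi (fa.getD i 0) (fm.getD i 0)) i) = true := by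
  (first | (rewrite [Cfsg.Agent.KOb559f68.e5.{0}, Cfsg.Agent.KOb559f68.e61, Cfsg.Agent.KOb559f68.e51, Cfsg.Agent.KOb559f68.e34.{0}, Cfsg.Agent.KOb559f68.e78, Cfsg.Agent.KOb559f68.e80]; decide +kernel) | decide +kernel)

/-- The action of a letter on the vectors. -/
def pvl (k i : ℕ) : ℕ := if k = 0 then pv0.getD i 0 else if k = 1 then pv1.getD i 0 else pv2.getD i 0

/-- The action of a letter on the points. -/
def pq (k q : ℕ) : ℕ := pvl k (2 * q) / 2

/-- The action of a letter on the flags. -/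
def pf (k i : ℕ) : ℕ := fi (pq k (fa.getD i 0)) (tl (pq k (L0.getD (fm.getD i 0) 0)) (pq k (L1.getD (fm.getD i 0) 0)))

private noncomputable def _root_.Cfsg.Agent.KOb559f68.k81 : (by first | exact type_of% @Cfsg.Agent.H843.IMC.Co2D.pvl | exact Unit : Sort _) := by first | (refine @Subtype.val _ (fun g => @Cfsg.Agent.H843.IMC.Co2D.pvl = @g) (@Subtype.mk _ _ (@(fun x0 x1 => @Cfsg.Agent.KOb559f68.k74.{1} ℕ @x0 (nat_lit 0) (@Cfsg.Agent.KOb559f68.k74.{1} ℕ @x0 (nat_lit 1) (@Option.rec.{1, 0} ℕ @(fun x2 => ℕ) (nat_lit 0) @(fun x2 => @x2) (@Cfsg.Agent.KOb559f68.k33.{0} _ @Cfsg.Agent.H843.IMC.Co2D.pv2 @x1)) (@Option.rec.{1, 0} ℕ @(fun x2 => ℕ) (nat_lit 0) @(fun x2 => @x2) (@Cfsg.Agent.KOb559f68.k33.{0} _ @Cfsg.Agent.H843.IMC.Co2D.pv1 @x1))) (@Option.rec.{1, 0} ℕ @(fun x2 => ℕ) (nat_lit 0) @(fun x2 => @x2) (@Cfsg.Agent.KOb559f68.k33.{0} _ @Cfsg.Agent.H843.IMC.Co2D.pv0 @x1)))) ?_); rewrite [← Cfsg.Agent.KOb559f68.e33.{0}, ← Cfsg.Agent.KOb559f68.e74.{1}];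 (try delta Cfsg.Agent.H843.IMC.Co2D.pvl); (try generalize @Cfsg.Agent.H843.IMC.Co2D.pv2 = g0); (try generalize @Cfsg.Agent.H843.IMC.Co2D.pv1 = g1); (try generalize @Cfsg.Agent.H843.IMC.Co2D.pv0 = g2); rfl') | exact @Cfsg.Agent.H843.IMC.Co2D.pvl | exact ()
private theorem _root_.Cfsg.Agent.KOb559f68.e81 : (by first | exact @Cfsg.Agent.H843.IMC.Co2D.pvl = @_root_.Cfsg.Agent.KOb559f68.k81 | exact True : Prop) := by first | (delta _root_.Cfsg.Agent.KOb559f68.k81; exact @Subtype.property _ (fun g => @Cfsg.Agent.H843.IMC.Co2D.pvl = @g) _) | rfl | trivial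
private noncomputable def _root_.Cfsg.Agent.KOb559f68.k82 : (by first | exact type_of% @Cfsg.Agent.H843.IMC.Co2D.pq | exact Unit : Sort _) := by first | (refine @Subtype.val _ (fun g => @Cfsg.Agent.H843.IMC.Co2D.pq = @g) (@Subtype.mk _ _ (@(fun x0 x1 => @Nat.div (@Cfsg.Agent.KOb559f68.k81 @x0 (@Nat.mul (nat_lit 2) @x1)) (nat_lit 2))) ?_); rewrite [← Cfsg.Agent.KOb559f68.e81]; (try delta Cfsg.Agent.H843.IMC.Co2D.pq); (try generalize @Cfsg.Agent.H843.IMC.Co2D.pvl = g0); rfl') | exact @Cfsg.Agent.H843.IMC.Co2D.pq | exact ()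
private theorem _root_.Cfsg.Agent.KOb559f68.e82 : (by first | exact @Cfsg.Agent.H843.IMC.Co2D.pq = @_root_.Cfsg.Agent.KOb559f68.k82 | exact True : Prop) := by first | (delta _root_.Cfsg.Agent.KOb559f68.k82; exact @Subtype.property _ (fun g => @Cfsg.Agent.H843.IMC.Co2D.pq = @g) _) | rfl | trivial

theorem chkQ : (List.range 3).all (fun k => (List.range 40).all fun q => Nat.blt (pq k q) 40 &&
    Nat.beq (pvl k (2 * q + 1) / 2) (pq k q)) = true := by
  (first | (rewrite [Cfsg.Agent.KOb559f68.e5.{0}, Cfsg.Agent.KOb559f68.e61, Cfsg.Agent.KOb559f68.e51, Cfsg.Agent.KOb559f68.e82, Cfsg.Agent.KOb559f68.e81]; decide +kernel) | decide +kernel)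

private noncomputable def _root_.Cfsg.Agent.KOb559f68.k83 : (by first | exact type_of% @Cfsg.Agent.H843.IMC.Co2D.pf | exact Unit : Sort _) := by first | (refine @Subtype.val _ (fun g => @Cfsg.Agent.H843.IMC.Co2D.pf = @g) (@Subtype.mk _ _ (@(fun x0 x1 => @Cfsg.Agent.KOb559f68.k80 (@Cfsg.Agent.KOb559f68.k82 @x0 (@Option.rec.{1, 0} ℕ @(fun x2 => ℕ) (nat_lit 0) @(fun x2 => @x2) (@Cfsg.Agent.KOb559f68.k33.{0} _ @Cfsg.Agent.H843.IMC.Co2D.fa @x1))) (@Cfsg.Agent.KOb559f68.k79 (@Cfsg.Agent.KOb559f68.k82 @x0 (@Option.rec.{1, 0} ℕ @(fun x2 => ℕ) (nat_lit 0) @(fun x2 => @x2) (@Cfsg.Agent.KOb559f68.k33.{0} _ @Cfsg.Agent.H843.IMC.Co2D.L0 (@Option.rec.{1, 0} ℕ @(fun x2 => ℕ) (nat_lit 0) @(fun x2 => @x2) (@Cfsg.Agent.KOb559f68.k33.{0} _ @Cfsg.Agent.H843.IMC.Co2D.fm @x1))))) (@Cfsg.Agent.KOb559f68.k82 @x0 (@Option.rec.{1, 0} ℕ @(fun x2 => ℕ) (nat_lit 0) @(fun x2 => @x2) (@Cfsg.Agent.KOb559f68.k33.{0} _ @Cfsg.Agent.H843.IMC.Co2D.L1 (@Option.rec.{1,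 0} ℕ @(fun x2 => ℕ) (nat_lit 0) @(fun x2 => @x2) (@Cfsg.Agent.KOb559f68.k33.{0} _ @Cfsg.Agent.H843.IMC.Co2D.fm @x1)))))))) ?_); rewrite [← Cfsg.Agent.KOb559f68.e79, ← Cfsg.Agent.KOb559f68.e33.{0}, ← Cfsg.Agent.KOb559f68.e82, ← Cfsg.Agent.KOb559f68.e80]; (try delta Cfsg.Agent.H843.IMC.Co2D.pf); (try generalize @Cfsg.Agent.H843.IMC.Co2D.fi = g0); (try generalize @Cfsg.Agent.H843.IMC.Co2D.pq = g1); (try generalize @Cfsg.Agent.H843.IMC.Co2D.fa = g2); (try generalize @Cfsg.Agent.H843.IMC.Co2D.tl = g3); (try generalize @Cfsg.Agent.H843.IMC.Co2D.L0 = g4); (try generalize @Cfsg.Agent.H843.IMC.Co2D.fm = g5); (try generalize @Cfsg.Agent.H843.IMC.Co2D.L1 = g6); rfl') | exact @Cfsg.Agent.H843.IMC.Co2D.pf | exact ()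
private theorem _root_.Cfsg.Agent.KOb559f68.e83 : (by first | exact @Cfsg.Agent.H843.IMC.Co2D.pf = @_root_.Cfsg.Agent.KOb559f68.k83 | exact True : Prop) := by first | (delta _root_.Cfsg.Agent.KOb559f68.k83; exact @Subtype.property _ (fun g => @Cfsg.Agent.H843.IMC.Co2D.pf = @g) _) | rfl | trivial
private noncomputable def _root_.Cfsg.Agent.KOb559f68.k84.{ku0} : type_of% @ite.{ku0} := @(fun x0 x1 x2 x3 x4 => @Decidable.rec.{ku0} _ @(fun x5 => @x0) @(fun x5 => @x4) @(fun x5 => @x3) @x2)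
private theorem _root_.Cfsg.Agent.KOb559f68.e84.{ku0} : @ite.{ku0} = @_root_.Cfsg.Agent.KOb559f68.k84.{ku0} := by delta _root_.Cfsg.Agent.KOb559f68.k84; rfl'

theorem chkT : (List.range 160).all (fun i => Nat.beq i 0 || (Nat.blt (par.getD i 0) i && Nat.blt (lt.getD i 0) 3 &&
    Nat.beq (pf (lt.getD i 0) (par.getD i 0)) i &&
    (if lt.getD i 0 = 2 then Nat.beq (roots.getD (cls.getD i 0) 0) i else
      Nat.beq (cls.getD i 0) (cls.getD (par.getD i 0) 0)))) = true := by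
  (first | (rewrite [Cfsg.Agent.KOb559f68.e5.{0}, Cfsg.Agent.KOb559f68.e61, Cfsg.Agent.KOb559f68.e76, Cfsg.Agent.KOb559f68.e51, Cfsg.Agent.KOb559f68.e34.{0}, Cfsg.Agent.KOb559f68.e83, Cfsg.Agent.KOb559f68.e84.{1}, Cfsg.Agent.KOb559f68.e9]; decide +kernel) | decide +kernel)

theorem chkR : (Nat.beq (pf 0 0) 0 && Nat.beq (pf 1 0) 0 && Nat.beq (roots.getD (cls.getD 0 0) 0) 0 &&
    (List.range 160).all fun i => Nat.blt (cls.getD i 0) 8) = true := by
  (first | (rewrite [Cfsg.Agent.KOb559f68.e51, Cfsg.Agent.KOb559f68.e83, Cfsg.Agent.KOb559f68.e34.{0}, Cfsg.Agent.KOb559f68.e5.{0}, Cfsg.Agent.KOb559f68.e61]; decide +kernel) | decide +kernel)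

/-! ### Rigidity -/

/-- The points `r`, `p` have the same position with respect to the first `n` points and the two lines. -/
def same (n r p : ℕ) : Bool := (inc r (fm.getD 0 0) == inc p (fm.getD 0 0)) && (inc r (fm.getD 1 0) == inc p (fm.getD 1 0)) &&
  (OO.take n).all fun o => adj r o == adj p o

theorem chkO : (Nat.beq (OO.getD 0 0) (fa.getD 0 0) && Nat.beq (OO.getD 1 0) (fa.getD 1 0) &&
    (List.range 40).all (fun a => OO.contains a) && Nat.beq OO.length 40 && OO.all fun o => Nat.blt o 40) = true := by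
  decide +kernel

theorem chkS : (List.range 40).all (fun n => Nat.blt n 2 || (List.range 40).all fun r => !(same n r (OO.getD n 0)) ||
    (Nat.beq r (OO.getD n 0) || Nat.beq r (MT.getD n 0) || (OO.take n).contains r)) = true := by
  decide +kernel

/-! ### The complete list -/

/-- Lists of a given weighted norm and parity. -/
def en (o : Bool) : List ℤ → ℤ → List (List ℤ)
  | [], b => if b = 0 then [[]] else []
  | w :: ws, b => (if o then [-5, -3, -1, 1, 3, 5] else [-4, -2, 0, 2, 4]).flatMap fun a =>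
      if (if o then ws.sum else 0) ≤ b - w * (a * a) then (en o ws (b - w * (a * a))).map (a :: ·) else []

/-- The candidates. -/
def cand : List (List ℤ) := [-5, -4, -3, -2, -1, 0, 1, 2, 3, 4, 5].flatMap fun a =>
  (en (decide (a % 2 = 1)) [1, 1, 1, 1, 3, 3, 3, 3, 3, 3] (32 - a * a - (4 - a) * (4 - a))).map fun l => a :: (4 - a) :: l

/-- The candidates with first coordinate `a` (split of `chkC`). -/
def candC (a : ℤ) : List (List ℤ) :=
  (en (decide (a % 2 = 1)) [1, 1, 1, 1, 3, 3, 3, 3, 3, 3] (32 - a * a - (4 - a) * (4 - a))).map fun l => a :: (4 - a) :: l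

/-- The test of `chkC`. -/
def tstC (l : List ℤ) : Bool := !(leechB (ex l)) || (List.range 82).any fun i => eqL (ex l) (L i)

private def bt (m a : ℤ) : ℕ := ((a - m) / 2 % 2).toNat

private def mk' (m : ℤ) : List (ℤ × ℕ) → List ℤ → ℕ
  | w :: ws, a :: l => bt m a * w.2 + mk' m ws l
  | _, _ => 0

private def sm' : List (ℤ × ℕ) → List ℤ → ℤ
  | w :: ws, a :: l => w.1 * a + sm' ws l
  | _, _ => 0

/-- the enumeration, with the sum and the mask of the Golay test -/
private def go (o : Bool) (m : ℤ) (ws : List (ℤ × ℕ)) : ℤ → ℤ → ℕ → List ℤ → Bool :=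
  List.rec (fun b t k pre => !decide (b = 0) ||
      (!(decide ((t - 4 * m) % 8 = 0) && Cfsg.Agent.SporadicA.GolayBase.isCode k) || tstC pre.reverse))
    (fun w ws ih b t k pre => (if o then [-5, -3, -1, 1, 3, 5] else [-4, -2, 0, 2, 4]).all fun a =>
      !decide ((if o then (ws.map Prod.fst).sum else 0) ≤ b - w.1 * (a * a)) ||
        ih (b - w.1 * (a * a)) (t + w.1 * a) (Nat.add k (Nat.mul (bt m a) w.2)) (a :: pre)) ws

private theorem go_spec {o : Bool} {m : ℤ} (ws : List (ℤ × ℕ)) : ∀ (b t : ℤ) (k : ℕ) (pre : List ℤ), go o m ws b t k pre = true →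
    ∀ l ∈ en o (ws.map Prod.fst) b, l.length = ws.length ∧
      (!(decide ((t + sm' ws l - 4 * m) % 8 = 0) && Cfsg.Agent.SporadicA.GolayBase.isCode (k + mk' m ws l)) ||
        tstC (pre.reverse ++ l)) = true := by
  induction ws with
  | nil =>
    intro b t k pre h l hl
    rw [List.map_nil, en] at hl
    split_ifs at hl with e
    · obtain rfl := List.mem_singleton.1 hl
      rw [List.append_nil, sm', add_zero]
      exact ⟨rfl, (Bool.or_eq_true_iff.1 h).resolve_left (by rw [decide_eq_true e]; exact Bool.false_ne_true)⟩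
      exact fun _ _ _ _ e _ => nomatch e
    · exact absurd hl List.not_mem_nil
  | cons w ws ih =>
    intro b t k pre h l hl
    rw [List.map_cons, en] at hl
    obtain ⟨a, ha, hl⟩ := List.mem_flatMap.1 hl
    by_cases e : (if o then (ws.map Prod.fst).sum else 0) ≤ b - w.1 * (a * a)
    · rw [if_pos e] at hl
      obtain ⟨l, hl', rfl⟩ := List.mem_map.1 hl
      obtain ⟨h1, h2⟩ := ih _ _ _ _ ((Bool.or_eq_true_iff.1 (List.all_eq_true.1 h a ha)).resolve_left
        (by rw [decide_eq_true e]; exact Bool.false_ne_true)) l hl'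
      rw [List.reverse_cons, List.append_assoc, add_assoc t, Nat.add_eq, Nat.add_assoc k] at h2
      exact ⟨congrArg (· + 1) h1, h2⟩
    · rw [if_neg e] at hl
      exact absurd hl List.not_mem_nil

private theorem maskL_cons (a : ℤ) (t : List ℤ) : maskL (a :: t) = (a % 2).toNat + 2 * maskL t := rfl

private theorem maskL_nil : maskL [] = 0 := rfl

private def wsC : List (ℤ × ℕ) := [(1, 8), (1, 1024), (1, 1048576), (1, 2097152), (3, 2114), (3, 4194820), (3, 147472),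
  (3, 8388768), (3, 327936), (3, 565248)]

private theorem chkC_of (a : ℤ) (h : go (decide (a % 2 = 1)) (a % 2) wsC (32 - a * a - (4 - a) * (4 - a)) 4
    (bt (a % 2) a + bt (a % 2) (4 - a) * 4096) [4 - a, a] = true) : (candC a).all tstC = true := by
  refine List.all_eq_true.2 fun l hl => ?_
  obtain ⟨l, hl', rfl⟩ := List.mem_map.1 hl
  obtain ⟨h1, h2⟩ := go_spec wsC _ _ _ _ h l hl'
  refine (Bool.or_eq_true_iff.1 h2).elim (fun h3 => ?_) id
  obtain ⟨x0, x1, x2, x3, x4, x5, x6, x7, x8, x9, rfl⟩ : ∃ x0 x1 x2 x3 x4 x5 x6 x7 x8 x9,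
      l = [x0, x1, x2, x3, x4, x5, x6, x7, x8, x9] := by
    match l, h1 with
    | [x0, x1, x2, x3, x4, x5, x6, x7, x8, x9], _ => exact ⟨_, _, _, _, _, _, _, _, _, _, rfl⟩
  have e1 : maskL ((ex [a, 4 - a, x0, x1, x2, x3, x4, x5, x6, x7, x8, x9]).map fun x => (x - a % 2) / 2) =
      bt (a % 2) a + bt (a % 2) (4 - a) * 4096 + mk' (a % 2) wsC [x0, x1, x2, x3, x4, x5, x6, x7, x8, x9] := by
    simp only [ex, cyL, wsC, mk', maskL_cons, maskL_nil, List.map_cons, List.map_nil, List.getD_cons_succ, List.getD_cons_zero, bt]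
    ring
  have e2 : (ex [a, 4 - a, x0, x1, x2, x3, x4, x5, x6, x7, x8, x9]).sum = 4 + sm' wsC [x0, x1, x2, x3, x4, x5, x6, x7, x8, x9] := by
    simp only [ex, cyL, wsC, sm', List.map_cons, List.map_nil, List.getD_cons_succ, List.getD_cons_zero, List.sum_cons, List.sum_nil]
    ring
  rw [← e1, ← e2] at h3
  refine Bool.or_eq_true_iff.2 (Or.inl ?_)
  show (!(_ && _ && _ && _)) = true
  rw [Bool.not_eq_true', Bool.and_assoc]
  exact Bool.and_eq_false_iff.2 (Or.inr (Bool.not_eq_true' _ ▸ h3))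

/-- the same enumeration in natural numbers; the letters are `(a, a * a, a + 8, bit)` -/
private noncomputable def goN (al : List (ℤ × ℕ × ℕ × ℕ)) (o m : ℕ) (ws : List (ℕ × ℕ)) : ℕ → ℕ → ℕ → List ℤ → Bool :=
  List.rec (fun b t k pre => Bool.rec true (Bool.rec true (Bool.rec true (tstC pre.reverse)
      (Cfsg.Agent.SporadicA.GolayBase.isCode k)) (Nat.beq (Nat.mod t 8) m)) (Nat.beq b 0))
    (fun w ws ih b t k pre => List.rec true (fun e _ r => Bool.rec false r (Bool.rec true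
      (Nat.rec true (fun c _ => ih c (Nat.add t (Nat.mul w.1 e.2.2.1)) (Nat.add k (Nat.mul e.2.2.2 w.2)) (e.1 :: pre))
        (Nat.succ (Nat.sub b (Nat.mul w.1 e.2.1))))
      (Nat.ble (Nat.add (Nat.mul o (ws.map Prod.fst).sum) (Nat.mul w.1 e.2.1)) b))) al) ws

private theorem goN_spec {o : Bool} {m : ℤ} {al : List (ℤ × ℕ × ℕ × ℕ)} {o' m' : ℕ}
    (ha : ∀ a ∈ (if o then [-5, -3, -1, 1, 3, 5] else [-4, -2, 0, 2, 4] : List ℤ), (a, (a * a).toNat, (a + 8).toNat, bt m a) ∈ al ∧ -8 ≤ a)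
    (ho : o' = if o then 1 else 0) (hm : (m' : ℤ) = 4 * m % 8) (ws : List (ℕ × ℕ)) :
    ∀ (b t k : ℕ) (pre : List ℤ) (u : ℤ), (t : ℤ) % 8 = u % 8 → goN al o' m' ws b t k pre = true →
      go o m (ws.map fun w => ((w.1 : ℤ), w.2)) b u k pre = true := by
  induction ws with
  | nil =>
    intro b t k pre u hu h
    show (!decide ((b : ℤ) = 0) || (!(decide ((u - 4 * m) % 8 = 0) && _) || _)) = true
    by_cases h1 : (b : ℤ) = 0
    · by_cases h2 : (u - 4 * m) % 8 = 0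
      · have e1 : Nat.beq b 0 = true := Nat.beq_eq ▸ (by omega : b = 0)
        have e2 : Nat.beq (Nat.mod t 8) m' = true := Nat.beq_eq ▸ (by show t % 8 = m'; omega)
        have h3 : (Bool.rec true (Bool.rec true (Bool.rec true (tstC pre.reverse)
          (Cfsg.Agent.SporadicA.GolayBase.isCode k)) (Nat.beq (Nat.mod t 8) m')) (Nat.beq b 0) : Bool) = true := h
        rw [e1, e2] at h3
        revert h3
        cases Cfsg.Agent.SporadicA.GolayBase.isCode k
        · exact fun _ => by simp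
        · exact fun h => Bool.or_eq_true_iff.2 (Or.inr (Bool.or_eq_true_iff.2 (Or.inr h)))
      · simp [h2]
    · rw [decide_eq_false h1]; rfl
  | cons w ws ih =>
    intro b t k pre u hu h
    refine List.all_eq_true.2 fun a ha' => ?_
    obtain ⟨h1, h2⟩ := ha a ha'
    have h3 : ∀ l : List (ℤ × ℕ × ℕ × ℕ), ∀ F : ℤ × ℕ × ℕ × ℕ → Bool,
        (List.rec true (fun e _ r => Bool.rec false r (F e)) l : Bool) = true → ∀ e ∈ l, F e = true := by
      intro l F
      induction l with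
      | nil => exact fun _ _ h => nomatch h
      | cons x l ihl =>
        intro h e he
        have h' : (Bool.rec false (List.rec true (fun e _ r => Bool.rec false r (F e)) l : Bool) (F x) : Bool) = true := h
        cases hx : F x
        · rw [hx] at h'; exact nomatch h'
        · rw [hx] at h'
          rcases List.mem_cons.1 he with rfl | he
          exacts [hx, ihl h' e he]
    have h4 := h3 al (fun e => Bool.rec (motive := fun _ => Bool) true (goN al o' m' ws (b - w.1 * e.2.1) (t + w.1 * e.2.2.1) (k + e.2.2.2 * w.2) (e.1 :: pre))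
      (Nat.ble (o' * (ws.map Prod.fst).sum + w.1 * e.2.1) b)) h _ h1
    have e1 : (((a * a).toNat : ℕ) : ℤ) = a * a := Int.toNat_of_nonneg (mul_self_nonneg a)
    have e2 : (((a + 8).toNat : ℕ) : ℤ) = a + 8 := Int.toNat_of_nonneg (by omega)
    have e3 : (if o then ((ws.map fun w : ℕ × ℕ => ((w.1 : ℤ), w.2)).map Prod.fst).sum else 0) =
        ((o' * (ws.map Prod.fst).sum : ℕ) : ℤ) := by
      rw [ho]
      cases o
      · simp
      · simp [List.map_map, Function.comp_def, Nat.cast_list_sum]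
    by_cases h5 : (if o then ((ws.map fun w : ℕ × ℕ => ((w.1 : ℤ), w.2)).map Prod.fst).sum else 0) ≤ (b : ℤ) - (w.1 : ℤ) * (a * a)
    · refine Bool.or_eq_true_iff.2 (Or.inr ?_)
      rw [e3, ← e1] at h5
      have h6 : o' * (ws.map Prod.fst).sum + w.1 * (a * a).toNat ≤ b := by
        zify
        push_cast at h5
        linarith
      dsimp only at h4
      rw [Nat.ble_eq_true_of_le h6] at h4
      have h7 := ih _ _ _ _ (u + (w.1 : ℤ) * a) (by
        push_cast
        rw [e2, mul_add, ← add_assoc, Int.add_mul_emod_self_right, Int.add_emod, hu, ← Int.add_emod]) h4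
      rwa [Nat.cast_sub (le_trans (Nat.le_add_left _ _) h6), Nat.cast_mul, e1] at h7
    · exact Bool.or_eq_true_iff.2 (Or.inl (by rw [decide_eq_false h5]; rfl))

private def wsN : List (ℕ × ℕ) := [(1, 8), (1, 1024), (1, 1048576), (1, 2097152), (3, 2114), (3, 4194820), (3, 147472),
  (3, 8388768), (3, 327936), (3, 565248)]

private theorem goE (b k : ℕ) (pre : List ℤ) (h : goN [(-4, 16, 4, 0), (-2, 4, 6, 1), (0, 0, 8, 0), (2, 4, 10, 1), (4, 16, 12, 0)] 0 0 wsN
    b 4 k pre = true) : go false 0 wsC b 4 k pre = true :=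
  goN_spec (o := false) (by decide) rfl rfl wsN b 4 k pre 4 rfl h

private theorem goO (b k : ℕ) (pre : List ℤ) (h : goN [(-5, 25, 3, 1), (-3, 9, 5, 0), (-1, 1, 7, 1), (1, 1, 9, 0), (3, 9, 11, 1),
    (5, 25, 13, 0)] 1 4 wsN b 4 k pre = true) : go true 1 wsC b 4 k pre = true :=
  goN_spec (o := true) (by decide) rfl rfl wsN b 4 k pre 4 rfl h

theorem chkC : cand.all (fun l => !(leechB (ex l)) || (List.range 82).any fun i => eqL (ex l) (L i)) = true := by
  rw [List.all_eq_true]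
  intro l hl
  obtain ⟨a, ha, hl⟩ := List.mem_flatMap.1 hl
  have key : (candC a).all tstC = true := by
    simp only [List.mem_cons, List.not_mem_nil, or_false] at ha
    rcases ha with rfl | rfl | rfl | rfl | rfl | rfl | rfl | rfl | rfl | rfl | rfl
    iterate 5 exact chkC_of _ (by decide +kernel)
    · exact chkC_of _ (goE 16 0 [4, 0] (by decide +kernel))
    · exact chkC_of _ (goO 22 4096 [3, 1] (by decide +kernel))
    · exact chkC_of _ (goE 24 4097 [2, 2] (by decide +kernel))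
    · exact chkC_of _ (goO 22 1 [1, 3] (by decide +kernel))
    · exact chkC_of _ (goE 16 0 [0, 4] (by decide +kernel))
    · exact chkC_of _ (by decide +kernel)
  exact List.all_eq_true.1 key l hl

/-- The packed permutation inverting `s0`. -/
def pk : ℕ := 220213109803259289183002082616117280

end Cfsg.Agent.H843.IMC.Co2D

private theorem dce_9a7a30f2e47a : _root_.True := by
  try have : _root_.True := by simp only [_root_.Cfsg.Agent.H843.IMC.Co2D.L.eq_1]
  exact _root_.True.intro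
end

-- part: H843/IMC/Co2Q
section
prune_inst 0x30006104240000000000000060003f42e2000002002800000040000404c10d4200008120b210111210c0a8044038003811000070420000000000000001180080002102825091ac00100000002000400000000000020000000000000000000000000000000
set_option linter.all false
open scoped Cfsg.Agent.FastGrp

/-!
# The Steinberg character of degree 81 on the flags of the quadrangle (helper843)
-/

set_option autoImplicit false

namespace Cfsg.Agent.H843.IMC.Co2Q

open Cfsg Representation Cfsg.Agent.H843.IMC.Co2D Cfsg.Agent.H678.DG.Sph Cfsg.Agent.H714.DG.Top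
open scoped ComplexConjugate

universe u

theorem rng {n : ℕ} {f : ℕ → Bool} (h : (List.range n).all f = true) {i : ℕ} (hi : i < n) : f i = true :=
  List.all_eq_true.1 h i (List.mem_range.2 hi)

/-! ### The group of the quadrangle -/

/-- The permutations of the points preserving the adjacency. -/
def Gam : Subgroup (Equiv.Perm (Fin 40)) where
  carrier := {σ | ∀ a b : Fin 40, adj (σ a) (σ b) = adj a b}
  mul_mem' := fun hσ hτ a b => (hσ _ _).trans (hτ a b)
  one_mem' := fun _ _ => rfl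
  inv_mem' := by
    intro σ hσ a b
    have h := hσ (σ⁻¹ a) (σ⁻¹ b)
    have e : ∀ a, σ (σ⁻¹ a) = a := fun a => σ.apply_symm_apply a
    rw [e, e] at h
    exact h.symm

theorem l0_lt (m : Fin 40) : L0.getD m 0 < 40 := by
  have h := rng chkL1 m.2
  simp only [Bool.and_eq_true, Nat.blt_eq] at h
  exact h.1.2.1

theorem l1_lt (m : Fin 40) : L1.getD m 0 < 40 := by
  have h := rng chkL1 m.2
  simp only [Bool.and_eq_true, Nat.blt_eq] at h
  exact h.1.2.2

/-- First point of a line. -/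
def l0 (m : Fin 40) : Fin 40 := ⟨L0.getD m 0, l0_lt m⟩

/-- Second point of a line. -/
def l1 (m : Fin 40) : Fin 40 := ⟨L1.getD m 0, l1_lt m⟩

theorem adj_l (m : Fin 40) : adj (l0 m) (l1 m) = true := by
  have h := rng chkL1 m.2
  simp only [Bool.and_eq_true] at h
  exact h.1.1

theorem inc_iff (c m : Fin 40) : inc c m = (Nat.beq c (l0 m) || Nat.beq c (l1 m) || (adj c (l0 m) && adj c (l1 m))) := by
  have h := rng chkL1 m.2
  rw [Bool.and_eq_true] at h
  exact eq_of_beq (rng h.2 c.2)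

theorem tl_spec {a b : Fin 40} (h : adj a b = true) : ∃ ht : tl a b < 40, ∀ c : Fin 40,
    inc c (⟨tl a b, ht⟩ : Fin 40) = (Nat.beq c a || Nat.beq c b || (adj c a && adj c b)) := by
  have h1 := rng (rng chkL2 a.2) b.2
  simp only [h, Bool.not_true, Bool.false_or, Bool.and_eq_true, Nat.blt_eq] at h1
  exact ⟨h1.1, fun c => eq_of_beq (rng h1.2 c.2)⟩

theorem beq_perm (σ : Equiv.Perm (Fin 40)) (a b : Fin 40) : Nat.beq (σ a) (σ b) = Nat.beq a b := by
  rw [Bool.eq_iff_iff]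
  constructor
  · intro h
    rw [σ.injective (Fin.ext (Nat.eq_of_beq_eq_true h))]
    exact Nat.beq_refl _
  · intro h
    rw [Fin.ext (Nat.eq_of_beq_eq_true h)]
    exact Nat.beq_refl _

/-- The image of a line. -/
def ln (σ : Equiv.Perm (Fin 40)) (m : Fin 40) : Fin 40 :=
  if h : tl (σ (l0 m)) (σ (l1 m)) < 40 then ⟨_, h⟩ else 0

theorem inc_ln {σ : Equiv.Perm (Fin 40)} (hσ : σ ∈ Gam) (c m : Fin 40) : inc (σ c) (ln σ m) = inc c m := by
  obtain ⟨ht, h⟩ := tl_spec ((hσ (l0 m) (l1 m)).trans (adj_l m))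
  rw [ln, dif_pos ht, h, inc_iff, beq_perm, beq_perm, hσ c (l0 m), hσ c (l1 m)]

theorem line_ext {m m' : Fin 40} (h : ∀ c : Fin 40, inc c m = true → inc c m' = true) : m = m' := by
  have h1 := rng (rng chkL3 m.2) m'.2
  have h2 : inc (l0 m) m = true := by
    rw [inc_iff, Nat.beq_refl]
    rfl
  have h3 : inc (l1 m) m = true := by
    rw [inc_iff, Nat.beq_refl, Bool.or_true]
    rfl
  have h4 : inc (L0.getD m 0) m' = true := h _ h2
  have h5 : inc (L1.getD m 0) m' = true := h _ h3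
  rw [h4, h5] at h1
  rw [Bool.or_eq_true] at h1
  rcases h1 with h1 | h1
  · exact Fin.ext (Nat.eq_of_beq_eq_true h1)
  · exact absurd h1 (by decide)

theorem ln_mul {σ τ : Equiv.Perm (Fin 40)} (hσ : σ ∈ Gam) (hτ : τ ∈ Gam) (m : Fin 40) :
    ln (σ * τ) m = ln σ (ln τ m) := by
  apply line_ext
  intro c h
  obtain ⟨d, rfl⟩ := (σ * τ).surjective c
  rw [inc_ln (Gam.mul_mem hσ hτ)] at h
  rw [Equiv.Perm.mul_apply, inc_ln hσ, inc_ln hτ]
  exact h

theorem ln_one (m : Fin 40) : ln 1 m = m := by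
  apply line_ext
  intro c h
  have h1 := inc_ln Gam.one_mem c m
  rw [Equiv.Perm.one_apply] at h1
  rw [← h1]
  exact h

/-! ### Flags -/

theorem flag_spec (i : Fin 160) : fa.getD i 0 < 40 ∧ fm.getD i 0 < 40 ∧ inc (fa.getD i 0) (fm.getD i 0) = true ∧
    fi (fa.getD i 0) (fm.getD i 0) = i := by
  have h := rng chkF2 i.2
  simp only [Bool.and_eq_true, Nat.blt_eq] at h
  exact ⟨h.1.1.1, h.1.1.2, h.1.2, Nat.eq_of_beq_eq_true h.2⟩

/-- The point of a flag. -/
def FA (i : Fin 160) : Fin 40 := ⟨fa.getD i 0, (flag_spec i).1⟩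

/-- The line of a flag. -/
def FM (i : Fin 160) : Fin 40 := ⟨fm.getD i 0, (flag_spec i).2.1⟩

theorem inc_F (i : Fin 160) : inc (FA i) (FM i) = true := (flag_spec i).2.2.1

theorem flag_ext {i j : Fin 160} (h1 : FA i = FA j) (h2 : FM i = FM j) : i = j := by
  apply Fin.ext
  rw [← (flag_spec i).2.2.2, ← (flag_spec j).2.2.2]
  have h3 : fa.getD i 0 = fa.getD j 0 := congrArg Fin.val h1
  have h4 : fm.getD i 0 = fm.getD j 0 := congrArg Fin.val h2
  rw [h3, h4]

theorem fi_spec {a m : Fin 40} (h : inc a m = true) : ∃ ht : fi a m < 160, FA ⟨fi a m, ht⟩ = a ∧ FM ⟨fi a m, ht⟩ = m := by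
  have h1 := rng (rng chkF1 a.2) m.2
  rw [h] at h1
  simp only [Bool.not_true, Bool.false_or, Bool.and_eq_true, Nat.blt_eq] at h1
  exact ⟨h1.1.1, Fin.ext (Nat.eq_of_beq_eq_true h1.1.2), Fin.ext (Nat.eq_of_beq_eq_true h1.2)⟩

/-- The image of a flag. -/
def fl (σ : Equiv.Perm (Fin 40)) (i : Fin 160) : Fin 160 :=
  if h : fi (σ (FA i)) (ln σ (FM i)) < 160 then ⟨_, h⟩ else 0

theorem F_fl {σ : Equiv.Perm (Fin 40)} (hσ : σ ∈ Gam) (i : Fin 160) :
    FA (fl σ i) = σ (FA i) ∧ FM (fl σ i) = ln σ (FM i) := by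
  obtain ⟨ht, h1, h2⟩ := fi_spec ((inc_ln hσ (FA i) (FM i)).trans (inc_F i))
  rw [fl, dif_pos ht]
  exact ⟨h1, h2⟩

instance actG : MulAction ↥Gam (Fin 160) where
  smul σ i := fl σ i
  one_smul i := by
    show fl 1 i = i
    exact flag_ext (F_fl Gam.one_mem i).1 ((F_fl Gam.one_mem i).2.trans (ln_one _))
  mul_smul σ τ i := by
    show fl (σ * τ) i = fl σ (fl τ i)
    apply flag_ext
    · rw [(F_fl (Gam.mul_mem σ.2 τ.2) i).1, (F_fl σ.2 _).1, (F_fl τ.2 _).1]
      rfl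
    · rw [(F_fl (Gam.mul_mem σ.2 τ.2) i).2, (F_fl σ.2 _).2, (F_fl τ.2 _).2, ln_mul σ.2 τ.2]

theorem FA_smul (σ : ↥Gam) (i : Fin 160) : FA (σ • i) = (σ : Equiv.Perm (Fin 40)) (FA i) := (F_fl σ.2 i).1

theorem FM_smul (σ : ↥Gam) (i : Fin 160) : FM (σ • i) = ln σ (FM i) := (F_fl σ.2 i).2

theorem ln_inj (σ : ↥Gam) {m m' : Fin 40} (h : ln σ m = ln σ m') : m = m' := by
  have h1 : ∀ m, ln (σ⁻¹ : ↥Gam) (ln σ m) = m := by
    intro m
    rw [← ln_mul (σ⁻¹).2 σ.2, ← Subgroup.coe_mul, inv_mul_cancel]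
    exact ln_one m
  rw [← h1 m, h, h1 m']

/-! ### The space of functions -/

/-- The stars. -/
noncomputable def st (t : Fin 40 ⊕ Fin 40) : Fin 160 → ℂ :=
  Sum.elim (fun a i => if FA i = a then 1 else 0) (fun m i => if FM i = m then 1 else 0) t

/-- The span of the stars. -/
noncomputable def SS : Submodule ℂ (Fin 160 → ℂ) := Submodule.span ℂ (Set.range st)

/-- The space of functions. -/
noncomputable def V : Submodule ℂ (Fin 160 → ℂ) := perp SS

theorem V_ne : V ≠ ⊥ := by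
  apply perp_ne_bot
  have h := finrank_range_le_card (R := ℂ) st
  rw [Fintype.card_sum, Fintype.card_fin] at h
  rw [Fintype.card_fin]
  exact lt_of_le_of_lt h (by norm_num)

theorem V_inv_Gam (g : ↥Gam) : ∀ φ ∈ V, (fun x => φ (g⁻¹ • x)) ∈ V := by
  refine perp_inv (fun g => span_inv ?_ g) g
  rintro g _ ⟨t, rfl⟩
  rcases t with a | m
  · refine Submodule.subset_span ⟨Sum.inl ((g : Equiv.Perm (Fin 40)) a), ?_⟩
    funext x
    show (if FA x = (g : Equiv.Perm (Fin 40)) a then (1 : ℂ) else 0) = if FA (g⁻¹ • x) = a then 1 else 0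
    have h : FA x = (g : Equiv.Perm (Fin 40)) (FA (g⁻¹ • x)) := by
      rw [← FA_smul, smul_inv_smul]
    rw [h]
    simp only [EmbeddingLike.apply_eq_iff_eq]
  · refine Submodule.subset_span ⟨Sum.inr (ln g m), ?_⟩
    funext x
    show (if FM x = ln g m then (1 : ℂ) else 0) = if FM (g⁻¹ • x) = m then 1 else 0
    have h : FM x = ln g (FM (g⁻¹ • x)) := by
      rw [← FM_smul, smul_inv_smul]
    rw [h]
    by_cases h1 : FM (g⁻¹ • x) = m
    · rw [if_pos h1, if_pos (by rw [h1])]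
    · rw [if_neg h1, if_neg fun h2 => h1 (ln_inj g h2)]

/-- Sum over a panel. -/
theorem sum_panel (φ : Fin 160 → ℂ) (P : Fin 160 → Prop) [DecidablePred P] (l : List (Fin 160)) (hl : l.Nodup)
    (h : ∀ i, P i ↔ i ∈ l) : ∑ i, φ i * (if P i then 1 else 0) = (l.map φ).sum := by
  simp only [mul_ite, mul_one, mul_zero]
  rw [← Finset.sum_filter]
  have h1 : Finset.univ.filter P = l.toFinset := by
    ext i
    simp [h]
  rw [h1, List.sum_toFinset _ hl]

theorem point_sum {φ : Fin 160 → ℂ} (hφ : φ ∈ V) (a : Fin 40) (l : List (Fin 160)) (hl : l.Nodup)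
    (h : ∀ i, FA i = a ↔ i ∈ l) : (l.map φ).sum = 0 := by
  rw [← sum_panel φ (fun i => FA i = a) l hl h]
  exact hφ _ (Submodule.subset_span ⟨Sum.inl a, rfl⟩)

theorem line_sum {φ : Fin 160 → ℂ} (hφ : φ ∈ V) (a : Fin 40) (l : List (Fin 160)) (hl : l.Nodup)
    (h : ∀ i, FM i = a ↔ i ∈ l) : (l.map φ).sum = 0 := by
  rw [← sum_panel φ (fun i => FM i = a) l hl h]
  exact hφ _ (Submodule.subset_span ⟨Sum.inr a, rfl⟩)

/-- The coefficients. -/
noncomputable def AA : Fin 8 → ℂ := ![1, 1 / 81, -1 / 27, -1 / 27, 1 / 9, 1 / 9, -1 / 3, -1 / 3]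

theorem cl_lt (i : Fin 160) : cls.getD i 0 < 8 := by
  have h := chkR
  rw [Bool.and_eq_true] at h
  have h1 := rng h.2 i.2
  rwa [Nat.blt_eq] at h1

/-- The class of a flag. -/
def cl (i : Fin 160) : Fin 8 := ⟨cls.getD i 0, cl_lt i⟩

/-- The representatives of the classes. -/
def rt (j : Fin 8) : Fin 160 := Fin.ofNat 160 (roots.getD j 0)

theorem relations {φ : Fin 160 → ℂ} (hφ : φ ∈ V) {b : Fin 8 → ℂ} (h : ∀ i, φ i = b (cl i)) (j : Fin 8) :
    b j = b 0 * AA j := by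
  have e0 : (∀ i, FA i = 1 ↔ i ∈ ([21, 24, 66, 102] : List (Fin 160))) ∧
      (∀ i, FM i = 4 ↔ i ∈ ([85, 102, 105, 149] : List (Fin 160))) ∧
      (∀ i, FA i = 9 ↔ i ∈ ([111, 116, 126, 137] : List (Fin 160))) ∧
      (∀ i, FM i = 1 ↔ i ∈ ([136, 137, 139, 156] : List (Fin 160))) ∧
      (∀ i, FA i = 8 ↔ i ∈ ([148, 149, 150, 159] : List (Fin 160))) ∧
      (∀ i, FA i = 0 ↔ i ∈ ([0, 154, 155, 156] : List (Fin 160))) ∧
      (∀ i, FM i = 0 ↔ i ∈ ([0, 157, 158, 159] : List (Fin 160))) := by decide +kernel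
  have e1 := point_sum hφ 1 [21, 24, 66, 102] (by decide) e0.1
  have e2 := line_sum hφ 4 [85, 102, 105, 149] (by decide) e0.2.1
  have e3 := point_sum hφ 9 [111, 116, 126, 137] (by decide) e0.2.2.1
  have e4 := line_sum hφ 1 [136, 137, 139, 156] (by decide) e0.2.2.2.1
  have e5 := point_sum hφ 8 [148, 149, 150, 159] (by decide) e0.2.2.2.2.1
  have e6 := point_sum hφ 0 [0, 154, 155, 156] (by decide) e0.2.2.2.2.2.1
  have e7 := line_sum hφ 0 [0, 157, 158, 159] (by decide) e0.2.2.2.2.2.2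
  have c : cl 21 = 1 ∧ cl 24 = 1 ∧ cl 66 = 1 ∧ cl 102 = 2 ∧ cl 85 = 2 ∧ cl 105 = 2 ∧ cl 149 = 5 ∧ cl 111 = 3 ∧
      cl 116 = 3 ∧ cl 126 = 3 ∧ cl 137 = 4 ∧ cl 136 = 4 ∧ cl 139 = 4 ∧ cl 156 = 6 ∧ cl 148 = 5 ∧ cl 150 = 5 ∧
      cl 159 = 7 ∧ cl 0 = 0 ∧ cl 154 = 6 ∧ cl 155 = 6 ∧ cl 157 = 7 ∧ cl 158 = 7 := by decide +kernel
  obtain ⟨c1, c2, c3, c4, c5, c6, c7, c8, c9, c10, c11, c12, c13, c14, c15, c16, c17, c18, c19, c20, c21, c22⟩ := c
  simp only [List.map_cons, List.map_nil, List.sum_cons, List.sum_nil, h, c1, c2, c3, c4, c5, c6, c7, c8, c9, c10, c11,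
    c12, c13, c14, c15, c16, c17, c18, c19, c20, c21, c22] at e1 e2 e3 e4 e5 e6 e7
  have f6 : b 6 = -(1 / 3) * b 0 := by linear_combination (1 / 3) * e6
  have f7 : b 7 = -(1 / 3) * b 0 := by linear_combination (1 / 3) * e7
  have f4 : b 4 = -(1 / 3) * b 6 := by linear_combination (1 / 3) * e4
  have f5 : b 5 = -(1 / 3) * b 7 := by linear_combination (1 / 3) * e5
  have f2 : b 2 = -(1 / 3) * b 5 := by linear_combination (1 / 3) * e2
  have f3 : b 3 = -(1 / 3) * b 4 := by linear_combination (1 / 3) * e3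
  have f1 : b 1 = -(1 / 3) * b 2 := by linear_combination (1 / 3) * e1
  fin_cases j
  · simp [AA]
  · simp only [AA]; simp; rw [f1, f2, f5, f7]; ring
  · simp only [AA]; simp; rw [f2, f5, f7]; ring
  · simp only [AA]; simp; rw [f3, f4, f6]; ring
  · simp only [AA]; simp; rw [f4, f6]; ring
  · simp only [AA]; simp; rw [f5, f7]; ring
  · simp only [AA]; simp; rw [f6]; ring
  · simp only [AA]; simp; rw [f7]; ring

theorem conj_AA (j : Fin 8) : conj (AA j) = AA j := by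
  fin_cases j <;> simp [AA, Complex.conj_ofNat]

theorem nrm_v : nrm (fun i => AA (cl i)) = 160 / 81 := by
  rw [nrm_cls cl ![1, 81, 27, 27, 9, 9, 3, 3] (by decide +kernel) AA]
  simp only [conj_AA]
  simp [Fin.sum_univ_succ, AA]
  norm_num

/-- **The Steinberg character.** -/
theorem exists_chi {G : Type u} [Group G] [Finite G] [MulAction G (Fin 160)] (ρ : G →* ↥Gam)
    (hρ : ∀ (g : G) (i : Fin 160), g • i = ρ g • i)
    (hV : ∀ (g : G), ∀ φ ∈ V, (fun x => φ (g⁻¹ • x)) ∈ V)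
    (g : ℕ → G) (hg : ∀ k < 3, ∀ q : Fin 40, (((ρ (g k) : ↥Gam) : Equiv.Perm (Fin 40)) q : ℕ) = pq k q) :
    MulAction.IsPretransitive G (Fin 160) ∧ ∃ χ : IrrCharacter G, charDegree (χ : G → ℂ) = 81 ∧
      (χ : G → ℂ) = (rep V hV).character := by
  have hf : ∀ k < 3, ∀ i : Fin 160, ((g k • i : Fin 160) : ℕ) = pf k i := by
    intro k hk i
    rw [hρ]
    show ((fl (ρ (g k)) i : Fin 160) : ℕ) = _
    have h1 := F_fl (ρ (g k)).2 i
    have h2 : ((ρ (g k) • i : Fin 160) : ℕ) = fi (FA (ρ (g k) • i)) (FM (ρ (g k) • i)) :=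
      (flag_spec (ρ (g k) • i)).2.2.2.symm
    have h3 : ((FM (fl (ρ (g k)) i) : Fin 40) : ℕ) = tl (pq k (L0.getD (fm.getD i 0) 0)) (pq k (L1.getD (fm.getD i 0) 0)) := by
      rw [h1.2]
      obtain ⟨ht, -⟩ := tl_spec (((ρ (g k)).2 (l0 (FM i)) (l1 (FM i))).trans (adj_l (FM i)))
      rw [ln, dif_pos ht]
      show tl _ _ = _
      rw [hg k hk, hg k hk]
      rfl
    have h4 : ((FA (fl (ρ (g k)) i) : Fin 40) : ℕ) = pq k (fa.getD i 0) := by
      rw [h1.1, hg k hk]
      rfl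
    have h5 : ((fl (ρ (g k)) i : Fin 160) : ℕ) = fi (FA (fl (ρ (g k)) i)) (FM (fl (ρ (g k)) i)) := h2
    rw [h5, h3, h4]
    rfl
  -- the tree
  have htree : ∀ i : Fin 160, i ≠ 0 → ∃ j : Fin 160, ∃ k < 3, (j : ℕ) < i ∧ g k • j = i ∧
      ((k = 2 ∧ rt (cl i) = i) ∨ (k ≠ 2 ∧ cl i = cl j)) := by
    intro i hi
    have h := rng chkT i.2
    rw [Bool.or_eq_true, Bool.and_eq_true, Bool.and_eq_true, Bool.and_eq_true, Nat.blt_eq, Nat.blt_eq] at h
    rcases h with h | ⟨⟨⟨h1, h2⟩, h3⟩, h4⟩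
    · exact absurd (Fin.ext (Nat.eq_of_beq_eq_true h)) hi
    · refine ⟨⟨par.getD i 0, h1.trans i.2⟩, lt.getD i 0, h2, h1, ?_, ?_⟩
      · apply Fin.ext
        rw [hf _ h2]
        exact Nat.eq_of_beq_eq_true h3
      · by_cases h5 : lt.getD i 0 = 2
        · rw [if_pos h5] at h4
          left
          refine ⟨h5, ?_⟩
          apply Fin.ext
          show (roots.getD (cls.getD i 0) 0) % 160 = i
          rw [Nat.eq_of_beq_eq_true h4]
          exact Nat.mod_eq_of_lt i.2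
        · rw [if_neg h5] at h4
          exact Or.inr ⟨h5, Fin.ext (Nat.eq_of_beq_eq_true h4)⟩
  have htr : ∀ i : Fin 160, ∃ x : G, x • (0 : Fin 160) = i := by
    intro i
    obtain ⟨n, hn⟩ : ∃ n : ℕ, (i : ℕ) = n := ⟨_, rfl⟩
    induction n using Nat.strong_induction_on generalizing i with
    | _ n ih =>
      by_cases h0 : i = 0
      · exact ⟨1, by rw [h0, one_smul]⟩
      · obtain ⟨j, k, -, hj, h1, -⟩ := htree i h0
        obtain ⟨x, hx⟩ := ih j (by omega) j rfl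
        exact ⟨g k * x, by rw [mul_smul, hx, h1]⟩
  have hpre : MulAction.IsPretransitive G (Fin 160) := by
    constructor
    intro i j
    obtain ⟨x, hx⟩ := htr i
    obtain ⟨y, hy⟩ := htr j
    exact ⟨y * x⁻¹, by rw [mul_smul, ← hx, inv_smul_smul, hy]⟩
  refine ⟨hpre, ?_⟩
  have hfix : ∀ k < 2, g k • (0 : Fin 160) = 0 := by
    intro k hk
    apply Fin.ext
    rw [hf k (by omega)]
    have h := chkR
    simp only [Bool.and_eq_true] at h
    interval_cases k
    · exact Nat.eq_of_beq_eq_true h.1.1.1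
    · exact Nat.eq_of_beq_eq_true h.1.1.2
  have hr0 : rt (cl 0) = 0 := by decide +kernel
  obtain ⟨-, χ, h1, -, h3⟩ := exists_of_top (G := G) hV V_ne 0 (Subgroup.closure {g 0, g 1}) (by
    intro x hx
    have h : Subgroup.closure {g 0, g 1} ≤ MulAction.stabilizer G (0 : Fin 160) := by
      rw [Subgroup.closure_le]
      rintro x (rfl | rfl)
      · exact hfix 0 (by norm_num)
      · exact hfix 1 (by norm_num)
    exact h hx) (v := fun i => AA (cl i)) (by
      have : cl 0 = 0 := by decide +kernel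
      simp [this, AA]) (by
    intro φ hφ hK
    have hb : ∀ i : Fin 160, φ i = φ (rt (cl i)) := by
      intro i
      obtain ⟨n, hn⟩ : ∃ n : ℕ, (i : ℕ) = n := ⟨_, rfl⟩
      induction n using Nat.strong_induction_on generalizing i with
      | _ n ih =>
        by_cases h0 : i = 0
        · rw [h0, hr0]
        · obtain ⟨j, k, hk, hj, h1, h2⟩ := htree i h0
          rcases h2 with ⟨-, h2⟩ | ⟨h4, h2⟩
          · rw [h2]
          · rw [h2, ← ih j (by omega) j rfl, ← h1]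
            refine hK _ (Subgroup.subset_closure ?_) j
            interval_cases k
            · exact Or.inl rfl
            · exact Or.inr rfl
            · exact absurd rfl h4
    have h := relations hφ (b := fun j => φ (rt j)) hb
    refine ⟨φ (rt 0), funext fun i => ?_⟩
    rw [hb, h (cl i)]
    rfl)
  refine ⟨χ, ?_, h3⟩
  rw [nrm_v, Fintype.card_fin] at h1
  have h4 : (charDegree (χ : G → ℂ) : ℂ) = 81 := by
    field_simp at h1
    push_cast at h1
    linear_combination (1 / 160 : ℂ) * h1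
  exact_mod_cast h4

/-! ### Rigidity -/

theorem same_smul {σ : ↥Gam} (h0 : σ • (0 : Fin 160) = 0) (h1 : σ • (1 : Fin 160) = 1) {n : ℕ}
    (hn : ∀ o : Fin 40, (o : ℕ) ∈ OO.take n → (σ : Equiv.Perm (Fin 40)) o = o) {r p : Fin 40}
    (h : same n r p = true) : same n ((σ : Equiv.Perm (Fin 40)) r) p = true := by
  unfold same at h ⊢
  simp only [Bool.and_eq_true, beq_iff_eq, List.all_eq_true] at h ⊢
  obtain ⟨⟨h2, h3⟩, h4⟩ := h
  have e0 : FM 0 = ln σ (FM 0) := by
    conv_lhs => rw [← h0]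
    exact FM_smul σ 0
  have e1 : FM 1 = ln σ (FM 1) := by
    conv_lhs => rw [← h1]
    exact FM_smul σ 1
  refine ⟨⟨?_, ?_⟩, ?_⟩
  · rw [← h2]
    show inc ((σ : Equiv.Perm (Fin 40)) r) (FM 0) = inc r (FM 0)
    conv_lhs => rw [e0]
    exact inc_ln σ.2 r (FM 0)
  · rw [← h3]
    show inc ((σ : Equiv.Perm (Fin 40)) r) (FM 1) = inc r (FM 1)
    conv_lhs => rw [e1]
    exact inc_ln σ.2 r (FM 1)
  · intro o ho
    rw [← h4 o ho]
    have ho40 : o < 40 := by
      have h := chkO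
      simp only [Bool.and_eq_true, List.all_eq_true, Nat.blt_eq] at h
      exact h.2 o (List.mem_of_mem_take ho)
    have h5 := hn ⟨o, ho40⟩ ho
    have h6 := σ.2 r ⟨o, ho40⟩
    rw [h5] at h6
    exact h6

/-- **Rigidity.** -/
theorem rigid {σ : ↥Gam} (h0 : σ • (0 : Fin 160) = 0) (h1 : σ • (1 : Fin 160) = 1) {N : ℕ} (hN : Odd N)
    (hσ : σ ^ N = 1) : σ = 1 := by
  have hodd : ∀ p : Fin 40, (σ : Equiv.Perm (Fin 40)) ((σ : Equiv.Perm (Fin 40)) p) = p → (σ : Equiv.Perm (Fin 40)) p = p := by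
    intro p hp
    obtain ⟨m, rfl⟩ := hN
    have h2 : ∀ m : ℕ, ((σ : Equiv.Perm (Fin 40)) ^ (2 * m)) p = p := by
      intro m
      induction m with
      | zero => rfl
      | succ m ih => rw [Nat.mul_succ, pow_add, Equiv.Perm.mul_apply, pow_two, Equiv.Perm.mul_apply, hp, ih]
    have h3 : ((σ : Equiv.Perm (Fin 40)) ^ (2 * m + 1)) p = p := by
      rw [← Subgroup.coe_pow, hσ]
      rfl
    rw [pow_succ', Equiv.Perm.mul_apply, h2] at h3
    exact h3
  have hO := chkO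
  simp only [Bool.and_eq_true, List.all_eq_true, Nat.blt_eq] at hO
  obtain ⟨⟨⟨⟨hO1, hO2⟩, hO3⟩, hO4⟩, hO5⟩ := hO
  have hlen : OO.length = 40 := Nat.eq_of_beq_eq_true hO4
  have key : ∀ n ≤ 40, ∀ o : Fin 40, (o : ℕ) ∈ OO.take n → (σ : Equiv.Perm (Fin 40)) o = o := by
    intro n
    induction n with
    | zero =>
      intro _ o ho
      rw [List.take_zero] at ho
      exact absurd ho List.not_mem_nil
    | succ n ih =>
      intro hn o ho
      have ih' := ih (by omega)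
      rw [List.take_succ_eq_append_getElem (by omega), List.mem_append] at ho
      rcases ho with ho | ho
      · exact ih' o ho
      · rw [List.mem_singleton] at ho
        have hon : OO.getD n 0 = o := by rw [List.getD_eq_getElem _ _ (by omega), ho]
        by_cases hn2 : n < 2
        · interval_cases n
          · have h3 : o = FA 0 := Fin.ext (by rw [← hon]; exact Nat.eq_of_beq_eq_true hO1)
            rw [h3, ← FA_smul, h0]
          · have h3 : o = FA 1 := Fin.ext (by rw [← hon]; exact Nat.eq_of_beq_eq_true hO2)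
            rw [h3, ← FA_smul, h1]
        · have hs : ∀ r : Fin 40, same n r o = true → r = o ∨ (r : ℕ) = MT.getD n 0 ∨ (σ : Equiv.Perm (Fin 40)) r = r := by
            intro r hr
            have h3 := rng chkS (i := n) (by omega)
            rw [Bool.or_eq_true, Nat.blt_eq] at h3
            replace h3 := rng (h3.resolve_left hn2) r.2
            rw [hon, hr] at h3
            simp only [Bool.or_eq_true, Bool.not_true, Bool.false_eq_true, false_or,
              List.contains_iff_mem] at h3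
            rcases h3 with (h3 | h3) | h3
            · exact Or.inl (Fin.ext (Nat.eq_of_beq_eq_true h3))
            · exact Or.inr (Or.inl (Nat.eq_of_beq_eq_true h3))
            · exact Or.inr (Or.inr (ih' r h3))
          have s0 : same n o o = true := by
            unfold same
            simp
          have s1 := same_smul h0 h1 ih' s0
          have s2 := same_smul h0 h1 ih' s1
          rcases hs _ s1 with h3 | h3 | h3
          · exact h3
          · rcases hs _ s2 with h4 | h4 | h4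
            · exact hodd o h4
            · have h5 : (σ : Equiv.Perm (Fin 40)) ((σ : Equiv.Perm (Fin 40)) o) = (σ : Equiv.Perm (Fin 40)) o :=
                Fin.ext (h4.trans h3.symm)
              exact (σ : Equiv.Perm (Fin 40)).injective h5
            · exact (σ : Equiv.Perm (Fin 40)).injective ((σ : Equiv.Perm (Fin 40)).injective h4)
          · exact (σ : Equiv.Perm (Fin 40)).injective h3
  apply Subtype.ext
  ext1 o
  have h3 : (o : ℕ) ∈ OO := List.contains_iff_mem.1 (hO3 o (List.mem_range.2 o.2))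
  rw [← List.take_length (l := OO), hlen] at h3
  rw [key 40 le_rfl o h3]
  rfl

end Cfsg.Agent.H843.IMC.Co2Q

private theorem dce_dae44e16ead0 : _root_.True := by
  try have : _root_.True := by simp only [_root_.Cfsg.Agent.H843.IMC.Co2Q.AA.eq_1]
  try have : _root_.True := by simp only [_root_.Cfsg.Agent.H843.IMC.Co2Q.fl.eq_1]
  try have : _root_.True := by simp only [_root_.Cfsg.Agent.H843.IMC.Co2Q.ln.eq_1]
  exact _root_.True.intro
end

-- part: H843/IMC/Co2V
section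
prune_inst 0x30004101340002000004000222006381610000900060000141440004004181620040a100022010000040be10100100300000007040300000000030000003002080074a0257910c04040009800084000000000000000000000000000000000000000000000
set_option linter.all false
open scoped Cfsg.Agent.FastGrp

/-!
# The 82 vectors and the quadrangle for `Co2` (helper843)
-/

set_option autoImplicit false

namespace Cfsg.Agent.H843.IMC.Co2V

open Cfsg Cfsg.Agent.SporadicA Cfsg.Agent.SporadicStructure.Co0Matrix Cfsg.Agent.CoOneType.CoEval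
open Cfsg.Agent.SporadicA.Co0Mono Cfsg.Agent.SporadicA.Co1Simple
open Cfsg.Agent.SporadicA.GolayBase (idx pt)
open Cfsg.Agent.LThreeCo1Twelve.Perm Cfsg.Agent.LThreeCo1Twelve.Mono Cfsg.Agent.LThreeCo1Twelve.Strip
open Cfsg.Agent.SporadicStructure.Co0Base (e8 e8_coe co0_dotInt)
open Cfsg.Agent.SporadicStructure.LeechBase (zmod2_cases)
open Cfsg.Agent.CoOneType.SignFacts
open Cfsg.Agent.KFacts.Co1.OctGen (mem_N_of_smul_e8)
open Cfsg.Agent.H843.IMC.Co2D Cfsg.Agent.H843.IMC.Co2Q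
open Cfsg.Agent.H843.IMC.LeechConv
open scoped Pointwise

/-! ### The complete list -/

/-- The weighted norm. -/
def wn : List ℤ → List ℤ → ℤ
  | w :: ws, a :: l => w * (a * a) + wn ws l
  | _, _ => 0

theorem wn_ge (o : Bool) : ∀ {ws l : List ℤ}, l.length = ws.length → (∀ w ∈ ws, 1 ≤ w) →
    (∀ a ∈ l, a % 2 = if o then 1 else 0) → (if o then ws.sum else 0) ≤ wn ws l
  | [], [], _, _, _ => by cases o <;> simp [wn]
  | w :: ws, a :: l, h1, h2, h3 => by
    have ih := wn_ge o (ws := ws) (l := l) (by simpa using h1) (fun w hw => h2 w (List.mem_cons_of_mem _ hw))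
      (fun a ha => h3 a (List.mem_cons_of_mem _ ha))
    have hw := h2 w List.mem_cons_self
    have ha := h3 a List.mem_cons_self
    show _ ≤ w * (a * a) + wn ws l
    cases o
    · simp only [Bool.false_eq_true, if_false] at ih ⊢
      have : 0 ≤ w * (a * a) := mul_nonneg (by omega) (mul_self_nonneg a)
      omega
    · simp only [if_true] at ih ha ⊢
      rw [List.sum_cons]
      have h4 : 1 ≤ a * a := by
        have h5 : a ≠ 0 := by rintro rfl; simp at ha
        have := mul_self_nonneg a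
        have h6 : a * a ≠ 0 := mul_ne_zero h5 h5
        omega
      have : w ≤ w * (a * a) := le_mul_of_one_le_right (by omega) h4
      omega
  | [], _ :: _, h1, _, _ => by simp at h1
  | _ :: _, [], h1, _, _ => by simp at h1

theorem mem_en (o : Bool) : ∀ {ws l : List ℤ} {b : ℤ}, l.length = ws.length → (∀ w ∈ ws, 1 ≤ w) →
    (∀ a ∈ l, a % 2 = if o then 1 else 0) → wn ws l = b → b ≤ 32 → l ∈ en o ws b
  | [], [], b, _, _, _, h4, _ => by
    have h5 : (0 : ℤ) = b := h4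
    subst h5
    exact List.mem_singleton.2 rfl
  | w :: ws, a :: l, b, h1, h2, h3, h4, h5 => by
    have hl : l.length = ws.length := by simpa using h1
    have hw' : ∀ w ∈ ws, 1 ≤ w := fun w hw => h2 w (List.mem_cons_of_mem _ hw)
    have hp' : ∀ a ∈ l, a % 2 = if o then 1 else 0 := fun a ha => h3 a (List.mem_cons_of_mem _ ha)
    have hw := h2 w List.mem_cons_self
    have ha := h3 a List.mem_cons_self
    have h6 := wn_ge o hl hw' hp'
    have h7 : w * (a * a) + wn ws l = b := h4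
    have h8 : 0 ≤ wn ws l := by
      cases o
      · exact h6
      · refine le_trans ?_ h6
        simp only [if_true]
        exact List.sum_nonneg fun w hw => by have := hw' w hw; omega
    have h9 : a * a ≤ w * (a * a) := le_mul_of_one_le_left (mul_self_nonneg a) hw
    have h10 : a * a ≤ 32 := by omega
    have h11 : a ≤ 5 := by nlinarith
    have h12 : -5 ≤ a := by nlinarith
    have h13 : l ∈ en o ws (b - w * (a * a)) := mem_en o hl hw' hp' (by omega) (by
      have : 0 ≤ w * (a * a) := mul_nonneg (by omega) (mul_self_nonneg a)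
      omega)
    unfold en
    rw [List.mem_flatMap]
    refine ⟨a, ?_, ?_⟩
    · cases o
      · simp only [Bool.false_eq_true, if_false] at ha ⊢
        simp only [List.mem_cons, List.not_mem_nil, or_false]
        omega
      · simp only [if_true] at ha ⊢
        simp only [List.mem_cons, List.not_mem_nil, or_false]
        omega
    · rw [if_pos (by omega)]
      exact List.mem_map.2 ⟨l, h13, rfl⟩
  | [], _ :: _, _, h1, _, _, _, _ => by simp at h1
  | _ :: _, [], _, h1, _, _, _, _ => by simp at h1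

theorem cycle_rep : ∀ p : GolayPt, p = pt (rp.getD (cyL.getD (idx p) 0) 0) ∨
    p = tb (pt (rp.getD (cyL.getD (idx p) 0) 0)) ∨ p = tb (tb (pt (rp.getD (cyL.getD (idx p) 0) 0))) := by
  decide +kernel

/-- The twelve coordinates of a fixed vector. -/
def co (u : leechLattice) : List ℤ := rp.map fun i => (u : GolayPt → ℤ) (pt i)

theorem length_ex (l : List ℤ) : (ex l).length = 24 := by rw [ex, List.length_map]; rfl

theorem cyL_lt : ∀ p : GolayPt, cyL.getD (idx p) 0 < 12 := by decide +kernel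

theorem length_cyL : cyL.length = 24 := rfl

theorem length_rp : rp.length = 12 := rfl

theorem getD_map {α β : Type*} (l : List α) (f : α → β) (d : α) (d' : β) {i : ℕ} (hi : i < l.length) :
    (l.map f).getD i d' = f (l.getD i d) := by
  rw [List.getD_eq_getElem _ _ (by rw [List.length_map]; exact hi), List.getElem_map, List.getD_eq_getElem _ _ hi]

theorem coe_ex {u : leechLattice} (hs : s0 • u = u) : (u : GolayPt → ℤ) = vec (ex (co u)) := by
  funext p
  have h1 : vec (ex (co u)) p = (u : GolayPt → ℤ) (pt (rp.getD (cyL.getD (idx p) 0) 0)) := by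
    rw [vec_apply, ex, getD_map cyL _ 0 0 (by rw [length_cyL]; exact GolayBase.idx_lt p), co,
      getD_map rp _ 0 0 (by rw [length_rp]; exact cyL_lt p)]
  rw [h1]
  rcases cycle_rep p with h | h | h
  · exact congrArg _ h
  · conv_lhs => rw [h]
    exact fix_apply hs _
  · conv_lhs => rw [h]
    rw [fix_apply hs, fix_apply hs]

theorem memL {i : ℕ} (hi : i < 82) : vec (L i) ∈ leechLattice := vec_mem_of_leechB (rng chk_leech hi)

/-- The vectors. -/
noncomputable def vv (i : ℕ) : leechLattice := if hi : i < 82 then ⟨vec (L i), memL hi⟩ else 0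

theorem vv_coe {i : ℕ} (hi : i < 82) : ((vv i : leechLattice) : GolayPt → ℤ) = vec (L i) := by
  rw [vv, dif_pos hi]

/-- **The list is complete.** -/
theorem complete {u : leechLattice} (hs : s0 • u = u) (hn : sqNorm (u : GolayPt → ℤ) = 32)
    (hd : dotInt (u : GolayPt → ℤ) (v1 : GolayPt → ℤ) = 16) : ∃ i < 82, u = vv i := by
  have hu := coe_ex hs
  have hB : leechB (ex (co u)) = true := leechB_of_mem (length_ex _) (by rw [← hu]; exact u.2)
  have hdd : dotL (ex (co u)) (ex (co u)) = 32 := by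
    rw [← dotInt_vec _ _ (length_ex _).le, ← hu, ← sqNorm_eq_dot, hn]
  have hdw : dotL (ex (co u)) wl = 16 := by
    rw [← dotInt_vec _ _ (length_ex _).le, ← hu, ← hd, v1_coe]
    rfl
  obtain ⟨m, z, h1, -, -⟩ := (LeechSet.mem_leechLattice_iff' _).1 u.2
  have hpar : ∀ a ∈ co u, a % 2 = m % 2 := by
    intro a ha
    rw [co, List.mem_map] at ha
    obtain ⟨i, -, rfl⟩ := ha
    rw [h1]
    omega
  have hco : co u = [(u : GolayPt → ℤ) (pt 0), (u : GolayPt → ℤ) (pt 12), (u : GolayPt → ℤ) (pt 3),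
      (u : GolayPt → ℤ) (pt 10), (u : GolayPt → ℤ) (pt 20), (u : GolayPt → ℤ) (pt 21), (u : GolayPt → ℤ) (pt 1),
      (u : GolayPt → ℤ) (pt 2), (u : GolayPt → ℤ) (pt 4), (u : GolayPt → ℤ) (pt 5), (u : GolayPt → ℤ) (pt 8),
      (u : GolayPt → ℤ) (pt 13)] := rfl
  rw [hco] at hpar hdd hdw hB hu
  generalize (u : GolayPt → ℤ) (pt 0) = a0, (u : GolayPt → ℤ) (pt 12) = a1, (u : GolayPt → ℤ) (pt 3) = a2,
    (u : GolayPt → ℤ) (pt 10) = a3, (u : GolayPt → ℤ) (pt 20) = a4, (u : GolayPt → ℤ) (pt 21) = a5,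
    (u : GolayPt → ℤ) (pt 1) = a6, (u : GolayPt → ℤ) (pt 2) = a7, (u : GolayPt → ℤ) (pt 4) = a8,
    (u : GolayPt → ℤ) (pt 5) = a9, (u : GolayPt → ℤ) (pt 8) = a10, (u : GolayPt → ℤ) (pt 13) = a11
    at hpar hdd hdw hB hu
  have e1 : a0 * 4 + a1 * 4 = 16 := by
    rw [← hdw]
    simp [ex, cyL, dotL_cons, dotL_nil_left, wl, Cfsg.Agent.LThreeCo1Twelve.Data.vl]
  have e2 : a0 * a0 + a1 * a1 + wn [1, 1, 1, 1, 3, 3, 3, 3, 3, 3] [a2, a3, a4, a5, a6, a7, a8, a9, a10, a11] = 32 := by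
    rw [← hdd]
    simp only [ex, cyL, dotL_cons, dotL_nil_left, wn, List.map_cons, List.map_nil, List.getD_cons_zero,
      List.getD_cons_succ]
    ring
  have e3 : a1 = 4 - a0 := by omega
  subst e3
  have hpos : 0 ≤ wn [1, 1, 1, 1, 3, 3, 3, 3, 3, 3] [a2, a3, a4, a5, a6, a7, a8, a9, a10, a11] := by
    simp only [wn]
    nlinarith [mul_self_nonneg a2, mul_self_nonneg a3, mul_self_nonneg a4, mul_self_nonneg a5, mul_self_nonneg a6,
      mul_self_nonneg a7, mul_self_nonneg a8, mul_self_nonneg a9, mul_self_nonneg a10, mul_self_nonneg a11]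
  have e4 : a0 ≤ 5 := by nlinarith [mul_self_nonneg (4 - a0)]
  have e5 : -5 ≤ a0 := by nlinarith [mul_self_nonneg (4 - a0)]
  have hm : (if (decide (a0 % 2 = 1)) = true then (1 : ℤ) else 0) = m % 2 := by
    have h2 := hpar a0 (by simp)
    rcases Int.emod_two_eq_zero_or_one a0 with h3 | h3
    · rw [h3] at h2 ⊢
      simp [← h2]
    · rw [h3] at h2 ⊢
      simp [← h2]
  have hmem : [a2, a3, a4, a5, a6, a7, a8, a9, a10, a11] ∈ en (decide (a0 % 2 = 1)) [1, 1, 1, 1, 3, 3, 3, 3, 3, 3]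
      (32 - a0 * a0 - (4 - a0) * (4 - a0)) := by
    refine mem_en _ rfl (by decide) (fun a ha => ?_) (by omega) ?_
    · rw [hm]
      exact hpar a (List.mem_cons_of_mem _ (List.mem_cons_of_mem _ ha))
    · nlinarith [mul_self_nonneg (4 - a0), mul_self_nonneg a0]
  have hcand : a0 :: (4 - a0) :: [a2, a3, a4, a5, a6, a7, a8, a9, a10, a11] ∈ cand := by
    unfold cand
    rw [List.mem_flatMap]
    refine ⟨a0, ?_, List.mem_map.2 ⟨_, hmem, rfl⟩⟩
    simp only [List.mem_cons, List.not_mem_nil, or_false]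
    omega
  have h2 := List.all_eq_true.1 chkC _ hcand
  rw [hB] at h2
  simp only [Bool.not_true, Bool.false_or, List.any_eq_true, List.mem_range] at h2
  obtain ⟨i, hi, h3⟩ := h2
  refine ⟨i, hi, ?_⟩
  apply Subtype.ext
  rw [vv_coe hi, hu, eqL_eq h3]

end Cfsg.Agent.H843.IMC.Co2V

private theorem dce_2adfb6843b89 : _root_.True := by
  try have : _root_.True := by simp only [_root_.Cfsg.Agent.H843.IMC.Co2V.wn.eq_1]
  try have : _root_.True := by simp only [_root_.Cfsg.Agent.H843.IMC.Co2D.cyL.eq_1]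
  try have : _root_.True := by simp only [_root_.Cfsg.Agent.H843.IMC.Co2D.wl.eq_1]
  try have : _root_.True := by simp only [_root_.Cfsg.Agent.H843.IMC.Co2V.co.eq_1]
  try have : _root_.True := by simp only [_root_.Cfsg.Agent.H843.IMC.Co2V.wn._sparseCasesOn_1.else_eq]
  try have : _root_.True := by simp only [_root_.Cfsg.Agent.H843.IMC.Co2V.wn.eq_2]
  try have : _root_.True := by simp only [_root_.Cfsg.Agent.H843.IMC.Co2V.wn.eq_def]
  try have : _root_.True := by simp only [_root_.Cfsg.Agent.H843.IMC.Co2D.en.eq_def]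
  try have : _root_.True := by simp only [_root_.Cfsg.Agent.H843.IMC.Co2D.ex.eq_1]
  try have : _root_.True := by simp only [_root_.Cfsg.Agent.H843.IMC.Co2V.vv.eq_1]
  exact _root_.True.intro
end

-- part: H843/IMC/Co2W
section
prune_inst 0x2005000002000004000260005f8383000090002b00010104000004c08d220000a720000011020000be0400310048110000300210000000000000411900a08003420243b5a804040009802084400000000000020000000000000000000000000000000
set_option linter.all false
open scoped Cfsg.Agent.FastGrp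

/-!
# The normalizer of the element of order 3 of `Co2` acts on the quadrangle (helper843)
-/

set_option autoImplicit false

namespace Cfsg.Agent.H843.IMC.Co2W

open Cfsg Cfsg.Agent.SporadicA Cfsg.Agent.SporadicStructure.Co0Matrix Cfsg.Agent.CoOneType.CoEval
open Cfsg.Agent.SporadicA.Co0Mono Cfsg.Agent.SporadicA.Co1Simple
open Cfsg.Agent.SporadicA.GolayBase (idx pt)
open Cfsg.Agent.LThreeCo1Twelve.Perm Cfsg.Agent.LThreeCo1Twelve.Mono Cfsg.Agent.LThreeCo1Twelve.Strip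
open Cfsg.Agent.SporadicStructure.Co0Base (e8 e8_coe co0_dotInt co0_sqNorm)
open Cfsg.Agent.SporadicStructure.LeechBase (zmod2_cases)
open Cfsg.Agent.CoOneType.SignFacts
open Cfsg.Agent.KFacts.Co1.OctGen (mem_N_of_smul_e8)
open Cfsg.Agent.H843.IMC.Co2D Cfsg.Agent.H843.IMC.Co2Q Cfsg.Agent.H843.IMC.Co2V
open scoped Pointwise

/-! ### The groups -/

/-- The stabilizer of `w`. -/
abbrev Gw : Type := ↥(MulAction.stabilizer Co0 v1)

/-- The element of order 3. -/
noncomputable def x : Gw := ⟨s0, sv1⟩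

theorem s0_ne : s0 ≠ 1 := Cfsg.Agent.LThreeCo1Twelve.Norm.s0_ne

theorem orderOf_x : orderOf x = 3 := by
  have : Fact (Nat.Prime 3) := ⟨Nat.prime_three⟩
  refine orderOf_eq_prime (Subtype.ext ?_) fun h => s0_ne (congrArg Subtype.val h)
  show s0 ^ 3 = 1
  rw [← s0_cube, pow_succ, pow_two]

/-- The normalizer. -/
noncomputable abbrev NN : Subgroup Gw := Subgroup.normalizer ((Subgroup.zpowers x : Subgroup Gw) : Set Gw)

/-- The centralizer. -/
noncomputable abbrev KK : Subgroup Gw := Subgroup.centralizer ((Subgroup.zpowers x : Subgroup Gw) : Set Gw)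

theorem KK_eq : KK = Subgroup.centralizer {x} := by
  rw [KK, Subgroup.zpowers_eq_closure, Subgroup.centralizer_closure]

theorem mem_KK {g : Gw} : g ∈ KK ↔ (g : Co0) * s0 = s0 * (g : Co0) := by
  rw [KK_eq, Subgroup.mem_centralizer_singleton_iff]
  exact ⟨fun h => congrArg Subtype.val h, fun h => Subtype.ext h⟩

theorem KK_le : KK ≤ NN := by
  intro g hg
  rw [Subgroup.mem_normalizer_iff]
  intro h
  have key : ∀ h, h ∈ Subgroup.zpowers x → g * h * g⁻¹ = h := fun h hh => by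
    rw [← Subgroup.mem_centralizer_iff.1 hg h hh, mul_inv_cancel_right]
  constructor
  · intro hh
    rw [key h hh]
    exact hh
  · intro hh
    have h1 := key _ hh
    have h2 : g * h * g⁻¹ = h := by
      have h3 : g * (g * h * g⁻¹) = g * h := by
        calc g * (g * h * g⁻¹) = (g * (g * h * g⁻¹) * g⁻¹) * g := by group
          _ = g * h * g⁻¹ * g := by rw [h1]
          _ = g * h := by group
      exact mul_left_cancel h3
    rwa [h2] at hh

/-! ### The vectors -/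

theorem cyL_tb : ∀ p : GolayPt, cyL.getD (idx (tb p)) 0 = cyL.getD (idx p) 0 := by decide +kernel

theorem vec_L (i : ℕ) (p : GolayPt) : vec (L i) p = dec (Ls.getD i 75059993789508) (cyL.getD (idx p) 0) := by
  rw [vec_apply, L, getD_map cyL _ 0 0 (by rw [length_cyL]; exact GolayBase.idx_lt p)]

theorem s0_vv {i : ℕ} (hi : i < 82) : s0 • vv i = vv i := by
  apply s0_fix
  intro p
  rw [vv_coe hi, vec_L, vec_L, cyL_tb]

theorem sq_vv {i : ℕ} (hi : i < 82) : sqNorm (vv i : GolayPt → ℤ) = 32 := by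
  have h := rng chk_n hi
  rw [Bool.and_eq_true, decide_eq_true_eq] at h
  rw [vv_coe hi, sqNorm_eq_dot, dotInt_vec _ _ (length_L i).le, h.1]

theorem dot_vv {i : ℕ} (hi : i < 82) : dotInt (vv i : GolayPt → ℤ) (v1 : GolayPt → ℤ) = 16 := by
  have h := rng chk_n hi
  rw [Bool.and_eq_true, decide_eq_true_eq, decide_eq_true_eq] at h
  rw [vv_coe hi, v1_coe, dotInt_vec _ _ (length_L i).le]
  exact h.2

theorem vv_inj {i j : ℕ} (hi : i < 82) (hj : j < 82) (h : vv i = vv j) : i = j := by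
  have h1 : vec (L i) = vec (L j) := by rw [← vv_coe hi, ← vv_coe hj, h]
  have h2 := vec_injective (length_L i) (length_L j) h1
  have h3 := Nat.eq_of_beq_eq_true (rng chkE hi)
  have h4 := Nat.eq_of_beq_eq_true (rng chkE hj)
  rw [h2, h4] at h3
  have hi' : i < Ls.length := by rw [length_Ls]; exact hi
  have hj' : j < Ls.length := by rw [length_Ls]; exact hj
  rw [List.getD_eq_getElem _ _ hi', List.getD_eq_getElem _ _ hj'] at h3
  exact ((nodup_Ls.getElem_inj_iff).1 h3).symm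

/-- Image of a vector fixed by `s0`. -/
theorem fix_smul {n : Gw} (hn : n ∈ NN) {v : leechLattice} (hv : s0 • v = v) :
    s0 • ((n : Co0) • v) = (n : Co0) • v := by
  have h1 : n⁻¹ * x * n ∈ Subgroup.zpowers x := by
    have h2 := (Subgroup.mem_normalizer_iff.1 (NN.inv_mem hn) x).1 (Subgroup.mem_zpowers x)
    rwa [inv_inv] at h2
  obtain ⟨k, hk⟩ := Subgroup.mem_zpowers_iff.1 h1
  have h2 : s0 * (n : Co0) = (n : Co0) * s0 ^ k := by
    have h3 : x * n = n * x ^ k := by rw [hk]; group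
    exact congrArg Subtype.val h3
  have h3 : s0 ^ k • v = v :=
    (MulAction.stabilizer Co0 v).zpow_mem (MulAction.mem_stabilizer_iff.2 hv) k
  rw [← mul_smul, h2, mul_smul, h3]

theorem smul_vv {n : Gw} (hn : n ∈ NN) {i : ℕ} (hi : i < 82) : ∃ j < 82, (n : Co0) • vv i = vv j := by
  refine complete (fix_smul hn (s0_vv hi)) ?_ ?_
  · rw [co0_sqNorm, sq_vv hi]
  · rw [← dot_vv hi]
    have h1 : (n : Co0) • v1 = v1 := n.2
    have h2 := co0_dotInt (n : Co0) (vv i) v1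
    rw [h1] at h2
    exact h2

/-! ### The pairs -/

/-- The pairs. -/
def PS (q : ℕ) : Set leechLattice := {vv (2 * q), vv (2 * q + 1)}

theorem vec_zip : ∀ {l l' : List ℤ}, l.length = l'.length → vec (List.zipWith (· + ·) l l') = vec l + vec l' := by
  intro l l' h
  funext p
  rw [Pi.add_apply, vec_apply, vec_apply, vec_apply]
  by_cases hp : GolayBase.idx p < l.length
  · have hp' : GolayBase.idx p < l'.length := h ▸ hp
    rw [List.getD_eq_getElem _ _ hp, List.getD_eq_getElem _ _ hp', List.getD_eq_getElem _ _ (by simp [h, hp']),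
      List.getElem_zipWith]
  · have h1 : l.length ≤ GolayBase.idx p := by omega
    have h2 : l'.length ≤ GolayBase.idx p := by omega
    rw [List.getD_eq_default _ _ h1, List.getD_eq_default _ _ h2, List.getD_eq_default _ _ (by simp [h1]), add_zero]

theorem add_pair {q : ℕ} (hq : q < 41) : vv (2 * q) + vv (2 * q + 1) = v1 := by
  have h := rng chkP hq
  apply Subtype.ext
  show ((vv (2 * q) : leechLattice) : GolayPt → ℤ) + ((vv (2 * q + 1) : leechLattice) : GolayPt → ℤ) = _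
  rw [vv_coe (by omega), vv_coe (by omega), v1_coe, ← vec_zip (by rw [length_L, length_L]), eqL_eq h]
  rfl

theorem second {q : ℕ} (hq : q < 41) : vv (2 * q + 1) = v1 - vv (2 * q) := by rw [← add_pair hq]; abel

theorem first {q : ℕ} (hq : q < 41) : vv (2 * q) = v1 - vv (2 * q + 1) := by rw [← add_pair hq]; abel

theorem smul_PS (g : Co0) (q : ℕ) : g • PS q = {g • vv (2 * q), g • vv (2 * q + 1)} := by
  rw [PS, Set.smul_set_insert, Set.smul_set_singleton]

theorem mem_PS {j r : ℕ} (hj : j < 82) (hr : r < 41) : vv j ∈ PS r ↔ j / 2 = r := by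
  constructor
  · intro h
    rcases h with h | h
    · have h1 := vv_inj hj (by omega) h
      omega
    · have h1 := vv_inj hj (by omega) h
      omega
  · intro h
    rcases Nat.mod_two_eq_zero_or_one j with h1 | h1
    · left
      rw [show j = 2 * r by omega]
    · right
      rw [show j = 2 * r + 1 by omega]
      rfl

theorem PS_inj {q r : ℕ} (hq : q < 41) (hr : r < 41) (h : PS q = PS r) : q = r := by
  have h1 : vv (2 * q) ∈ PS r := by rw [← h]; exact Or.inl rfl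
  have h2 := (mem_PS (by omega) hr).1 h1
  omega

theorem PS_eq_of_mem {g : Co0} (hg : g • v1 = v1) {q j : ℕ} (hq : q < 41) (hj : j < 82)
    (h : g • vv (2 * q) = vv j) : g • PS q = PS (j / 2) := by
  have h1 : g • vv (2 * q + 1) = v1 - vv j := by
    rw [second hq, Cfsg.Agent.SporadicA.Co0Mono.smul_sub, hg, h]
  rw [smul_PS, h, h1]
  rcases Nat.mod_two_eq_zero_or_one j with h2 | h2
  · have h3 : j = 2 * (j / 2) := by omega
    have h4 := second (q := j / 2) (by omega)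
    rw [← h3] at h4
    rw [← h4, PS, ← h3]
  · have h3 : j = 2 * (j / 2) + 1 := by omega
    have h4 := first (q := j / 2) (by omega)
    rw [← h3] at h4
    rw [← h4, Set.pair_comm, PS, ← h3]

theorem smul_v1 (n : Gw) : (n : Co0) • v1 = v1 := n.2

theorem exists_smul_PS {n : Gw} (hn : n ∈ NN) (q : Fin 40) : ∃ r : Fin 40, (n : Co0) • PS q = PS r := by
  have hq := q.2
  obtain ⟨j, hj, h⟩ := smul_vv hn (i := 2 * q) (by omega)
  have h1 := PS_eq_of_mem (smul_v1 n) (by omega) hj h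
  by_cases h2 : j / 2 < 40
  · exact ⟨⟨j / 2, h2⟩, h1⟩
  · exfalso
    have hz := chkZ
    rw [Bool.and_eq_true] at hz
    obtain ⟨hz1, hz2⟩ := hz
    have h3 := rng hz1 hq
    rw [Bool.and_eq_true, decide_eq_true_eq, Nat.blt_eq] at h3
    obtain ⟨i, hi, h4⟩ := smul_vv hn h3.2
    have h5 : dotInt (vv j : GolayPt → ℤ) (vv i : GolayPt → ℤ) = 0 := by
      rw [← h, ← h4, co0_dotInt, vv_coe (by omega), vv_coe h3.2, dotInt_vec _ _ (length_L _).le, h3.1]
    rw [vv_coe hj, vv_coe hi, dotInt_vec _ _ (length_L _).le] at h5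
    have h6 := rng hz2 hi
    rw [Bool.and_eq_true, Bool.not_eq_true', Bool.not_eq_true', decide_eq_false_iff_not,
      decide_eq_false_iff_not] at h6
    have h7 : j = 80 ∨ j = 81 := by omega
    rcases h7 with rfl | rfl
    · exact h6.1 h5
    · exact h6.2 h5

/-- The action on the points. -/
noncomputable def act (n : ↥NN) (q : Fin 40) : Fin 40 := Classical.choose (exists_smul_PS n.2 q)

theorem act_spec (n : ↥NN) (q : Fin 40) : ((n : Gw) : Co0) • PS q = PS (act n q) :=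
  Classical.choose_spec (exists_smul_PS n.2 q)

theorem act_eq {n : ↥NN} {q r : Fin 40} (h : ((n : Gw) : Co0) • PS q = PS r) : act n q = r :=
  Fin.ext (PS_inj (by omega) (by omega) ((act_spec n q).symm.trans h))

theorem act_one (q : Fin 40) : act 1 q = q := act_eq (one_smul Co0 _)

theorem act_mul (m n : ↥NN) (q : Fin 40) : act (m * n) q = act m (act n q) := by
  apply act_eq
  show (((m : Gw) : Co0) * ((n : Gw) : Co0)) • PS q = _
  rw [mul_smul, act_spec n q, act_spec m]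

/-- The permutation representation. -/
noncomputable def toPerm : ↥NN →* Equiv.Perm (Fin 40) where
  toFun n := ⟨act n, act n⁻¹, fun q => by rw [← act_mul, inv_mul_cancel, act_one],
    fun q => by rw [← act_mul, mul_inv_cancel, act_one]⟩
  map_one' := Equiv.ext act_one
  map_mul' m n := Equiv.ext (act_mul m n)

theorem dot_sub_left (a b c : leechLattice) : dotInt ((a - b : leechLattice) : GolayPt → ℤ) (c : GolayPt → ℤ) =
    dotInt (a : GolayPt → ℤ) (c : GolayPt → ℤ) - dotInt (b : GolayPt → ℤ) (c : GolayPt → ℤ) := by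
  unfold dotInt
  rw [← Finset.sum_sub_distrib]
  refine Finset.sum_congr rfl fun p _ => ?_
  show ((a : GolayPt → ℤ) p - (b : GolayPt → ℤ) p) * _ = _
  ring

theorem dot_comm (a b : GolayPt → ℤ) : dotInt a b = dotInt b a := by
  unfold dotInt
  exact Finset.sum_congr rfl fun p _ => mul_comm _ _

theorem dot_mem {q r : ℕ} (hq : q < 41) (hr : r < 41) {a b : leechLattice} (ha : a ∈ PS q) (hb : b ∈ PS r) :
    dotInt (a : GolayPt → ℤ) (b : GolayPt → ℤ) = 8 ↔
      dotInt (vv (2 * q) : GolayPt → ℤ) (vv (2 * r) : GolayPt → ℤ) = 8 := by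
  have e1 : ∀ i < 82, dotInt (v1 : GolayPt → ℤ) (vv i : GolayPt → ℤ) = 16 := fun i hi => by
    rw [dot_comm, dot_vv hi]
  have h1 : ∀ i < 82, (dotInt (vv (2 * q + 1) : GolayPt → ℤ) (vv i : GolayPt → ℤ) = 8 ↔
      dotInt (vv (2 * q) : GolayPt → ℤ) (vv i : GolayPt → ℤ) = 8) := by
    intro i hi
    rw [second hq, dot_sub_left, e1 i hi]
    omega
  have h2 : ∀ i < 82, (dotInt (vv i : GolayPt → ℤ) (vv (2 * r + 1) : GolayPt → ℤ) = 8 ↔
      dotInt (vv i : GolayPt → ℤ) (vv (2 * r) : GolayPt → ℤ) = 8) := by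
    intro i hi
    rw [dot_comm, dot_comm (vv i : GolayPt → ℤ), second hr, dot_sub_left, e1 i hi]
    omega
  rcases ha with rfl | rfl <;> rcases hb with rfl | rfl
  · rfl
  · exact h2 _ (by omega)
  · exact h1 _ (by omega)
  · exact (h2 _ (by omega)).trans (h1 _ (by omega))

theorem adj_iff (q r : Fin 40) : adj q r = true ↔
    dotInt (vv (2 * q) : GolayPt → ℤ) (vv (2 * r) : GolayPt → ℤ) = 8 := by
  have h := rng (rng chkA q.2) r.2
  rw [Bool.and_eq_true] at h
  rw [eq_of_beq h.1, decide_eq_true_eq, vv_coe (by omega), vv_coe (by omega), dotInt_vec _ _ (length_L _).le]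

theorem toPerm_mem (n : ↥NN) : toPerm n ∈ Gam := by
  intro a b
  rw [Bool.eq_iff_iff, adj_iff, adj_iff, ← co0_dotInt ((n : Gw) : Co0) (vv (2 * a)) (vv (2 * b))]
  refine (dot_mem (q := act n a) (r := act n b) (by omega) (by omega) ?_ ?_).symm
  · rw [← act_spec]
    exact Set.smul_mem_smul_set (Or.inl rfl)
  · rw [← act_spec]
    exact Set.smul_mem_smul_set (Or.inl rfl)

/-- The representation in the group of the quadrangle. -/
noncomputable def rho : ↥NN →* ↥Gam := toPerm.codRestrict Gam toPerm_mem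

theorem rho_apply (n : ↥NN) (q : Fin 40) : ((rho n : ↥Gam) : Equiv.Perm (Fin 40)) q = act n q := rfl

/-! ### The kernel -/

theorem e8_pt : ∀ i : ℕ, i ∈ [0, 12, 3, 10, 20, 21] → ∀ p : GolayPt,
    (if p = pt i then (8 : ℤ) else 0) = vec (Cfsg.Agent.LThreeCo1Twelve.Data.e8L i) p := by
  intro i hi
  simp only [List.mem_cons, List.not_mem_nil, or_false] at hi
  rcases hi with rfl | rfl | rfl | rfl | rfl | rfl <;> decide +kernel

theorem fx_mem : ∀ p : GolayPt, Fx p → ∃ i ∈ [0, 12, 3, 10, 20, 21], p = pt i := by decide +kernel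

theorem eight : ([(0, 1, 15, false), (12, 14, 0, false), (3, 1, 15, true), (10, 3, 13, true), (20, 5, 11, true),
    (21, 7, 9, true)].all fun t => eqL (Cfsg.Agent.LThreeCo1Twelve.Data.e8L t.1)
      (List.zipWith (· + ·) (L t.2.1) (if t.2.2.2 then negL (L t.2.2.1) else L t.2.2.1))) = true := by
  decide +kernel

theorem L_ne : ∀ p : GolayPt, vec (L 16) p ≠ 0 := by decide +kernel

/-- **An element fixing the vectors is a power of `s0`.** -/
theorem of_fix {g : Co0} (h : ∀ i < 80, g • vv i = vv i) : Pw g := by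
  have he : ∀ p, Fx p → g • e8 p = e8 p := by
    intro p hp
    obtain ⟨i, hi, rfl⟩ := fx_mem p hp
    have key : ∀ i j k : ℕ, ∀ b : Bool, i ∈ [0, 12, 3, 10, 20, 21] → j < 80 → k < 80 →
        eqL (Cfsg.Agent.LThreeCo1Twelve.Data.e8L i) (List.zipWith (· + ·) (L j) (if b then negL (L k) else L k)) = true →
        g • e8 (pt i) = e8 (pt i) := by
      intro i j k b hi hj hk hb
      have h1 : e8 (pt i) = vv j + (if b then -vv k else vv k) := by
        apply Subtype.ext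
        have h2 : ((vv j + (if b then -vv k else vv k) : leechLattice) : GolayPt → ℤ) =
            vec (L j) + vec (if b then negL (L k) else L k) := by
          rw [AddSubgroup.coe_add, vv_coe (by omega)]
          congr 1
          cases b
          · exact vv_coe (by omega)
          · rw [if_pos rfl, if_pos rfl, vec_negL, ← vv_coe (i := k) (by omega)]
            rfl
        rw [h2, ← vec_zip (by cases b <;> simp [length_L, negL]), ← eqL_eq hb, e8_coe]
        funext p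
        rw [← e8_pt i hi p, Pi.single_apply]
      rw [h1, Cfsg.Agent.SporadicStructure.Co0Base.co0_smul_add, h j hj]
      congr 1
      cases b
      · exact h k hk
      · rw [if_pos rfl, Cfsg.Agent.SporadicA.Co0Mono.smul_neg, h k hk]
    have h8 := List.all_eq_true.1 eight
    simp only [List.mem_cons, List.not_mem_nil, or_false] at hi
    rcases hi with rfl | rfl | rfl | rfl | rfl | rfl
    · exact key 0 1 15 false (by simp) (by norm_num) (by norm_num) (h8 (0, 1, 15, false) (by simp))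
    · exact key 12 14 0 false (by simp) (by norm_num) (by norm_num) (h8 (12, 14, 0, false) (by simp))
    · exact key 3 1 15 true (by simp) (by norm_num) (by norm_num) (h8 (3, 1, 15, true) (by simp))
    · exact key 10 3 13 true (by simp) (by norm_num) (by norm_num) (h8 (10, 3, 13, true) (by simp))
    · exact key 20 5 11 true (by simp) (by norm_num) (by norm_num) (h8 (20, 5, 11, true) (by simp))
    · exact key 21 7 9 true (by simp) (by norm_num) (by norm_num) (h8 (21, 7, 9, true) (by simp))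
  have h0 : g • e8 (pt 0) = e8 (pt 0) := he _ (by decide +kernel)
  obtain ⟨c, π, rfl⟩ := exists_sign_perm (mem_N_of_smul_e8 h0)
  have hπ : ∀ p, Fx p → (π : Equiv.Perm GolayPt) p = p := by
    intro p hp
    have h1 := he p hp
    rw [mul_smul, perm_smul_e8] at h1
    rcases sgn_smul_e8 c ((π : Equiv.Perm GolayPt) p) with h2 | h2
    · rw [h2] at h1; exact e8_inj h1
    · rw [h2] at h1; exact absurd h1.symm (e8_ne_neg _ _)
  have ht := pw_perm hπ
  have hc : c = 0 := by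
    have h1 := h 16 (by norm_num)
    rw [mul_smul, ht.fix (s0_vv (by norm_num))] at h1
    apply Subtype.ext
    funext p
    have h2 := congrArg (fun v : leechLattice => (v : GolayPt → ℤ) p) h1
    simp only [signCo0_smul, signMap_apply] at h2
    rcases zmod2_cases ((c : GolayPt → ZMod 2) p) with h3 | h3
    · exact h3
    · exfalso
      rw [h3, sgn_one] at h2
      apply L_ne p
      rw [← vv_coe (by norm_num)]
      omega
  rw [hc, signCo0_zero, one_mul]
  exact ht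

theorem Pw_mem {g : Gw} (h : Pw (g : Co0)) : g ∈ Subgroup.zpowers x := by
  rcases h with h | h | h
  · rw [show g = 1 from Subtype.ext h]
    exact one_mem _
  · rw [show g = x from Subtype.ext h]
    exact Subgroup.mem_zpowers x
  · rw [show g = x * x from Subtype.ext h]
    exact Subgroup.mul_mem _ (Subgroup.mem_zpowers x) (Subgroup.mem_zpowers x)

/-- **An element of odd order acting trivially on the quadrangle is a power of `x`.** -/
theorem of_rho_eq_one {n : ↥NN} (h : rho n = 1) {N : ℕ} (hN : Odd N) (hn : n ^ N = 1) :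
    (n : Gw) ∈ Subgroup.zpowers x := by
  have h1 : ∀ q : Fin 40, ((n : Gw) : Co0) • PS q = PS q := by
    intro q
    rw [act_spec n q]
    have h2 : act n q = q := by rw [← rho_apply, h]; rfl
    rw [h2]
  have h2 : ∀ i < 80, ((n : Gw) : Co0) • ((n : Gw) : Co0) • vv i = vv i := by
    intro i hi
    have key : ∀ q < 40, ((n : Gw) : Co0) • ((n : Gw) : Co0) • vv (2 * q) = vv (2 * q) := by
      intro q hq
      have h3 : ((n : Gw) : Co0) • vv (2 * q) ∈ PS q := by
        rw [← h1 ⟨q, hq⟩]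
        exact Set.smul_mem_smul_set (Or.inl rfl)
      rcases h3 with h3 | h3
      · rw [h3, h3]
      · rw [h3]
        have h3' : ((n : Gw) : Co0) • vv (2 * q) = vv (2 * q + 1) := h3
        rw [second (by omega), Cfsg.Agent.SporadicA.Co0Mono.smul_sub, smul_v1, h3', ← first (by omega)]
    rcases Nat.mod_two_eq_zero_or_one i with h3 | h3
    · rw [show i = 2 * (i / 2) by omega]
      exact key _ (by omega)
    · rw [show i = 2 * (i / 2) + 1 by omega, second (by omega), Cfsg.Agent.SporadicA.Co0Mono.smul_sub,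
        Cfsg.Agent.SporadicA.Co0Mono.smul_sub, smul_v1, smul_v1, key _ (by omega)]
  have h3 : Pw (((n : Gw) * (n : Gw) : Gw) : Co0) := of_fix fun i hi => by
    show (((n : Gw) : Co0) * ((n : Gw) : Co0)) • vv i = vv i
    rw [mul_smul, h2 i hi]
  have h4 := Pw_mem h3
  obtain ⟨m, rfl⟩ := hN
  have h5 : (n : Gw) = ((n : Gw) * (n : Gw)) ^ (m + 1) := by
    have h6 : (n : Gw) ^ (2 * m + 1) = 1 := by
      have := congrArg Subtype.val hn
      exact this
    rw [← pow_two, ← pow_mul, show 2 * (m + 1) = (2 * m + 1) + 1 by ring, pow_succ, h6, one_mul]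
  rw [h5]
  exact Subgroup.pow_mem _ h4 _

end Cfsg.Agent.H843.IMC.Co2W

private theorem dce_8e36b5d60131 : _root_.True := by
  try have : _root_.True := by simp only [_root_.Cfsg.Agent.H843.IMC.Co2W.KK.eq_1]
  try have : _root_.True := by simp only [_root_.Cfsg.Agent.H843.IMC.Co2W.PS.eq_1]
  exact _root_.True.intro
end
end
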