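import Cfsg.Agent.LThreeCo1T8.Main
import Cfsg.Agent.CoOneType.CoAp
import Cfsg.Agent.CoOneType.CoQ
import Cfsg.Agent.Lib.ListFast
import Cfsg.Agent.Prune
set_option linter.all false
prune_inst 0x7f00000000000000000000000000000000000000000000000000000000000000000000000000000000000000000000000000000000000000000000000000000000000000000000000000000000000000003fffffffffffffffffffffffffffbeffbdffffffff
open scoped Cfsg.Agent.FastGrp

/-!
# The 240 vectors of norm 48 fixed by an element of type `3^8` (helper843)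

Explicit data; the tables are generated by a script and checked by the kernel.
-/

set_option autoImplicit false
set_option maxRecDepth 100000

namespace Cfsg.Agent.H843.IMC.Co3D

open Cfsg Cfsg.Agent.SporadicA Cfsg.Agent.SporadicStructure.Co0Matrix Cfsg.Agent.CoOneType.CoEval
open Cfsg.Agent.LThreeCo1T8.Mono Cfsg.Agent.LThreeCo1T8.Mat
open Cfsg.Agent.SporadicA.GolayBase (pt)

/-- the 240 vectors in the coordinates on the cycles, increased by 4, in base 16 -/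
def Ls : List ℕ :=
  [1431655761, 355808053, 1431639381, 1648510022, 1397838643, 1147429412, 1431654741, 606495812, 892687731,
  857027893, 856905043, 1111770662, 825578803, 1364546901, 1395856693, 1147291202, 1145447462, 1431516531,
  1684153412, 894653233, 892548433, 1715618882, 642016292, 1178740292, 357774643, 1178879522, 357913941, 1433621331,
  892686643, 926241621, 1176773702, 894915381, 1429549941, 894792531, 1143358022, 606356582, 894776151, 1429410643,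
  608584292, 1680221252, 1393767253, 1682064932, 1713652292, 1429427031, 1429287733, 892547413, 1715741732,
  1680098342, 1431393621, 1395995991, 825439573, 1364407603, 1362441013, 1934841171, 1650737732, 1682203202,
  1109541924, 1400067381, 1113998372, 1398100851, 1397962581, 1113875522, 1934964021, 1145201762, 1648649252,
  1397977941, 863327061, 1395994963, 1113736292, 863187763, 1147552322, 1400190291, 859132753, 1178878562,
  1176912932, 827667283, 1648772162, 1396012371, 1393906483, 1362318163, 861098323, 1682326052, 1397961553,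
  1145463842, 1429689171, 1427461461, 1684292642, 1717847620, 355685203, 928208211, 324358963, 642139202, 892810581,
  608462402, 575030342, 322254163, 1111893572, 606356514, 1176790082, 892687671, 892425523, 610550822, 608585252,
  861222261, 1465209651, 639911492, 608446022, 1143219812, 1143359042, 859133781, 1143236132, 861099351, 576996932,
  1179018820, 892564821, 858993463, 322131253, 1113859142, 861082963, 1648632932, 1111630404, 894654261, 324219733,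
  610673732, 892671283, 894777171, 861222193, 574768194, 859116373, 606217284, 1147414052, 574891044, 1398084403,
  1715881030, 1395733843, 1966290261, 1143096902, 860960053, 1397961493, 610427972, 1431516471, 894514003,
  1180845092, 644104772, 1145185382, 1145185314, 1682187842, 1932735283, 1431532851, 1427322163, 1679975492,
  1145201702, 1431655701, 894653301, 572801604, 1682186822, 1968395061, 1178755652, 1433744181, 894636853,
  1180968002, 1966429491, 1462981941, 641877062, 1143218724, 1429428051, 859009843, 608461382, 1180984390,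
  896881971, 1147430500, 1682204230, 858870613, 1147290182, 1431515443, 1178878502, 1465070421, 1178879590,
  1684292710, 1143095874, 608322084, 861221173, 1111769634, 1684431940, 1181107300, 890581843, 1968517971,
  1715758180, 890458933, 859132693, 1429566261, 1145463910, 1143235172, 1109681222, 1179001412, 610550882,
  859255603, 1429550901, 1147413092, 1429549873, 1145447522, 1680098402, 1396135221, 1395873141, 1111908932,
  1109804132, 1646544452, 1398100791, 1395872053, 608444994, 1431778611, 1932874581, 1463104851, 858994483,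
  1111647812, 1682327140, 574907492, 1109664834, 827544373, 608323172, 1147553350, 1398223701, 1395873073,
  861099283, 1398101811, 1395995923, 1111770722, 861238581, 1111769702, 861361491, 926102323, 894776083, 896742741,
  1176650852, 1429426963, 641999972, 892548373, 928331061, 858993523, 1682063972]

/-- action of `s` -/
def pS : List ℕ :=
  [1, 3, 5, 0, 8, 10, 12, 14, 16, 18, 2, 21, 23, 25, 27, 29, 4, 31, 33, 35, 36, 38, 40, 6, 43, 45, 47, 7, 50, 52,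
  54, 56, 58, 9, 51, 62, 64, 66, 11, 69, 71, 73, 75, 76, 59, 13, 80, 82, 84, 86, 87, 89, 15, 91, 93, 95, 17, 98,
  100, 102, 104, 105, 19, 92, 20, 108, 110, 112, 113, 114, 116, 22, 106, 94, 120, 121, 24, 124, 118, 125, 109, 127,
  26, 129, 131, 132, 88, 28, 49, 34, 136, 115, 138, 30, 41, 140, 142, 144, 128, 147, 32, 150, 44, 152, 154, 155,
  156, 158, 159, 46, 37, 161, 162, 164, 39, 53, 135, 148, 168, 169, 170, 42, 171, 151, 173, 175, 163, 177, 57, 178,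
  157, 48, 139, 182, 184, 70, 186, 187, 63, 85, 55, 191, 192, 193, 183, 153, 143, 195, 185, 198, 200, 201, 179, 202,
  60, 61, 72, 205, 166, 65, 167, 209, 67, 211, 68, 194, 107, 206, 78, 188, 74, 199, 215, 77, 216, 79, 204, 81, 83,
  103, 203, 214, 219, 97, 189, 117, 90, 196, 119, 134, 217, 225, 96, 146, 218, 99, 137, 174, 227, 122, 101, 123,
  145, 210, 213, 130, 160, 222, 226, 111, 180, 126, 181, 176, 212, 231, 197, 232, 165, 133, 234, 223, 235, 233, 230,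
  141, 237, 149, 224, 236, 228, 172, 190, 221, 238, 207, 239, 208, 220, 229]

/-- action of `g` -/
def pG : List ℕ :=
  [2, 4, 6, 7, 9, 11, 13, 15, 17, 19, 20, 22, 24, 26, 28, 30, 5, 32, 34, 14, 37, 39, 41, 42, 44, 46, 48, 49, 51, 53,
  55, 57, 59, 60, 61, 63, 65, 67, 68, 70, 72, 74, 76, 77, 78, 79, 81, 83, 85, 33, 88, 1, 90, 92, 94, 96, 97, 99,
  101, 103, 29, 106, 31, 107, 102, 109, 111, 75, 35, 115, 117, 36, 118, 119, 86, 122, 123, 125, 126, 95, 50, 58,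
  128, 130, 71, 0, 16, 133, 134, 135, 137, 18, 27, 23, 139, 141, 143, 145, 146, 148, 149, 151, 142, 153, 62, 21,
  157, 73, 160, 89, 25, 114, 163, 87, 165, 166, 100, 167, 45, 38, 154, 162, 172, 173, 174, 176, 159, 129, 80, 179,
  175, 180, 181, 183, 185, 84, 98, 188, 189, 136, 190, 40, 47, 3, 192, 164, 194, 196, 197, 199, 108, 110, 152, 203,
  127, 204, 202, 206, 207, 208, 155, 210, 161, 150, 182, 212, 213, 214, 171, 140, 177, 113, 10, 193, 52, 64, 211,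
  187, 191, 217, 56, 218, 131, 220, 178, 82, 221, 215, 222, 223, 224, 170, 226, 93, 54, 144, 69, 104, 228, 132, 198,
  200, 169, 8, 112, 195, 91, 227, 12, 120, 158, 229, 186, 230, 105, 184, 219, 209, 116, 233, 168, 66, 124, 236, 237,
  231, 235, 121, 216, 232, 147, 138, 43, 201, 225, 239, 234, 156, 238, 205]

/-- negatives -/
def pN : List ℕ :=
  [115, 53, 166, 91, 92, 107, 213, 18, 138, 27, 158, 73, 176, 230, 33, 34, 63, 189, 7, 49, 207, 94, 119, 204, 211,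
  228, 147, 9, 60, 51, 61, 134, 223, 14, 15, 86, 222, 227, 41, 139, 169, 38, 112, 126, 229, 224, 216, 195, 196, 19,
  104, 29, 89, 1, 105, 106, 184, 185, 233, 236, 28, 30, 88, 16, 235, 124, 149, 121, 74, 85, 136, 188, 140, 11, 68,
  162, 163, 159, 232, 237, 197, 219, 99, 144, 137, 69, 35, 154, 62, 52, 135, 3, 4, 155, 21, 156, 157, 178, 117, 82,
  221, 201, 239, 234, 50, 54, 55, 5, 173, 174, 198, 199, 42, 120, 132, 0, 186, 98, 190, 22, 113, 67, 161, 150, 65,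
  208, 43, 133, 148, 183, 192, 187, 114, 127, 31, 90, 70, 84, 8, 39, 72, 202, 205, 206, 83, 191, 167, 26, 128, 66,
  123, 200, 238, 225, 87, 93, 95, 96, 10, 77, 193, 122, 75, 76, 170, 181, 2, 146, 217, 40, 164, 209, 210, 108, 109,
  226, 12, 182, 97, 220, 215, 165, 177, 129, 56, 57, 116, 131, 71, 17, 118, 145, 130, 160, 214, 47, 48, 80, 110,
  111, 151, 101, 141, 231, 23, 142, 143, 20, 125, 171, 172, 24, 218, 6, 194, 180, 46, 168, 212, 81, 179, 100, 36,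
  32, 45, 153, 175, 37, 25, 44, 13, 203, 78, 58, 103, 64, 59, 79, 152, 102]

/-- a parent of each vector -/
def par : List ℕ :=
  [0, 0, 0, 1, 1, 2, 2, 3, 4, 4, 5, 5, 6, 6, 7, 7, 8, 8, 9, 9, 10, 11, 11, 12, 12, 13, 13, 14, 14, 15, 15, 17, 17,
  18, 18, 19, 20, 20, 21, 21, 22, 22, 23, 24, 24, 25, 25, 26, 26, 27, 28, 28, 29, 29, 30, 30, 31, 31, 32, 32, 33,
  34, 35, 35, 36, 36, 37, 37, 38, 39, 39, 40, 40, 41, 41, 42, 42, 43, 44, 45, 46, 46, 47, 47, 48, 48, 49, 50, 50,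
  51, 52, 53, 53, 54, 54, 55, 55, 56, 57, 57, 58, 58, 59, 59, 60, 61, 61, 63, 65, 65, 66, 66, 67, 68, 69, 69, 70,
  70, 72, 73, 74, 75, 75, 76, 77, 77, 78, 81, 82, 83, 83, 84, 85, 87, 88, 89, 90, 90, 92, 94, 95, 95, 96, 96, 97,
  97, 98, 99, 99, 100, 101, 101, 103, 103, 104, 105, 106, 106, 107, 108, 108, 111, 112, 112, 113, 114, 115, 117,
  118, 119, 120, 122, 122, 123, 124, 125, 125, 127, 129, 129, 131, 132, 133, 133, 134, 134, 136, 137, 137, 138, 140,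
  141, 142, 143, 146, 147, 147, 148, 149, 149, 150, 151, 153, 153, 155, 157, 157, 158, 159, 161, 161, 163, 165, 166,
  167, 172, 174, 179, 181, 182, 183, 186, 188, 189, 190, 191, 192, 198, 198, 211, 213, 215, 217, 219, 220, 222, 223,
  224, 234, 235]

/-- the letter taking the parent to the vector -/
def lt : List ℕ :=
  [0, 0, 1, 0, 1, 0, 1, 1, 0, 1, 0, 1, 0, 1, 0, 1, 0, 1, 0, 1, 1, 0, 1, 0, 1, 0, 1, 0, 1, 0, 1, 0, 1, 0, 1, 0, 0, 1,
  0, 1, 0, 1, 1, 0, 1, 0, 1, 0, 1, 1, 0, 1, 0, 1, 0, 1, 0, 1, 0, 1, 1, 1, 0, 1, 0, 1, 0, 1, 1, 0, 1, 0, 1, 0, 1, 0,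
  1, 1, 1, 1, 0, 1, 0, 1, 0, 1, 0, 0, 1, 0, 1, 0, 1, 0, 1, 0, 1, 1, 0, 1, 0, 1, 0, 1, 0, 0, 1, 1, 0, 1, 0, 1, 0, 0,
  0, 1, 0, 1, 1, 1, 0, 0, 1, 1, 0, 1, 1, 0, 1, 0, 1, 0, 0, 1, 1, 1, 0, 1, 0, 1, 0, 1, 0, 1, 0, 1, 1, 0, 1, 1, 0, 1,
  0, 1, 0, 0, 0, 1, 0, 0, 1, 0, 0, 1, 0, 1, 1, 1, 0, 0, 0, 0, 1, 1, 1, 0, 1, 0, 0, 1, 1, 1, 0, 1, 0, 1, 0, 0, 1, 1,
  1, 0, 0, 0, 1, 0, 1, 1, 0, 1, 0, 0, 0, 1, 1, 0, 1, 1, 1, 0, 1, 0, 1, 1, 1, 0, 0, 1, 1, 0, 1, 1, 1, 1, 1, 0, 1, 0,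
  1, 1, 1, 0, 0, 1, 0, 0, 1, 1, 0, 1]

/-- the first members of the 28 pairs -/
def pa : List ℕ :=
  [8, 15, 17, 19, 20, 21, 25, 27, 33, 53, 55, 61, 63, 70, 71, 72, 73, 76, 77, 82, 93, 104, 126, 148, 161, 169, 170,
  184]

/-- the second members of the 28 pairs -/
def pb : List ℕ :=
  [86, 84, 83, 215, 183, 229, 59, 108, 146, 91, 125, 212, 210, 165, 98, 87, 224, 89, 160, 113, 186, 226, 187, 200,
  195, 201, 199, 222]

/-- action of the word `wA` on the pairs -/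
def qA : List ℕ :=
  [15, 13, 27, 19, 7, 6, 10, 23, 8, 5, 21, 22, 14, 4, 9, 1, 2, 20, 16, 24, 0, 25, 3, 17, 18, 26, 12, 11]

/-- action of the word `wB` on the pairs -/
def qB : List ℕ :=
  [9, 23, 25, 18, 2, 4, 24, 26, 0, 7, 6, 12, 8, 21, 1, 15, 5, 19, 16, 11, 14, 3, 27, 22, 20, 13, 17, 10]

/-- words taking a pair to the pair 0 -/
def tU : List (List ℕ) :=
  [[], [0, 0, 0, 1], [0, 0, 1, 0, 1], [0, 1, 0, 0], [0, 0, 0, 0, 0], [0, 1, 1, 0], [0, 1, 1], [0, 0, 0, 0], [1], [0,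
  0, 0, 0, 1], [0, 1, 1, 1], [1, 1, 1], [1, 1], [0, 0, 0, 0, 0, 0], [0, 0, 0, 1, 1], [0, 0, 0, 1, 0], [0, 1, 1, 0,
  1], [0, 0], [0, 1, 1, 0, 1, 0], [0, 1, 0], [0], [0, 0, 1, 0, 0], [0, 1, 0, 0, 0], [0, 0, 0], [0, 1], [0, 0, 1, 0],
  [0, 0, 1], [1, 1, 1, 0]]

/-- words fixing the pair 0 taking a pair to the pair 1 -/
def tV : List (List ℕ) :=
  [[], [], [0, 0, 1, 1, 0, 0, 0, 0, 1, 0], [0, 0, 0, 1, 0, 0], [0, 0, 0, 1, 0, 1, 1, 1, 0], [0, 0, 1, 1, 0, 1, 0,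
  1], [0, 0, 1, 1, 0, 0, 0, 0, 0], [0, 0, 0, 0, 1, 1], [1, 0, 1, 1, 1, 1, 1, 1, 1, 1], [1, 1, 0, 1, 1, 1], [1, 0, 1,
  1, 0, 1, 1, 1, 0, 0], [0, 1, 0, 1, 0, 0, 1, 1], [0, 0, 0, 1, 1, 0, 0, 1, 1, 1], [0, 1, 0, 0, 0, 1, 1, 0, 0], [0,
  1, 0, 0, 1, 1, 0, 0, 0], [0, 0, 0, 0, 0, 1, 0, 1], [0, 0, 1, 0, 0, 1, 0, 0, 1, 0], [0, 1, 0, 1, 1, 1, 1, 1], [1,
  0, 0, 1, 0, 1, 1, 1], [0, 0, 1, 1, 1, 1], [0, 1, 0, 0, 1, 1, 0, 0, 1, 0], [0, 0, 1, 0, 0, 1, 0, 0, 0], [0, 0, 0,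
  1, 1, 1, 1, 1, 0, 0, 1], [0, 0, 0, 1, 0, 1, 0], [0, 1, 1, 0, 0, 1], [0, 0, 0, 1, 0, 1, 1, 0], [0, 1, 1, 1, 0, 0,
  0, 1], [1, 1, 0, 0, 0, 1, 0, 0, 1, 0]]

/-- The number of the cycle of the `j`-th point. -/
def cyL : List ℕ := [0, 0, 1, 2, 3, 4, 5, 6, 7, 5, 4, 2, 1, 7, 6, 3, 2, 4, 3, 6, 5, 7, 1, 0]

/-- The coordinates of a code. -/
def dec (m c : ℕ) : ℤ := Int.ofNat (m / 16 ^ c % 16) - 4

/-- The `i`-th vector as a list. -/
def L (i : ℕ) : List ℤ := cyL.map fun c => dec (Ls.getD i 1145324612) c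

theorem length_L (i : ℕ) : (L i).length = 24 := by rw [L, List.length_map]; rfl

private noncomputable def _root_.Cfsg.Agent.LsF.f585271_0 : {f // @Cfsg.Agent.SporadicA.GolayBase.enc = f} := ⟨_, by delta Cfsg.Agent.SporadicA.GolayBase.enc; rewrite [Cfsg.Agent.LsF.nmul_pat, Cfsg.Agent.LsF.nmod_pat, Cfsg.Agent.LsF.nxor_pat, Cfsg.Agent.LsF.nshr_pat]; exact rfl⟩
private noncomputable def _root_.Cfsg.Agent.LsF.f585271_1 : {f // @Cfsg.Agent.SporadicA.GolayBase.isCode = f} := ⟨_, by delta Cfsg.Agent.SporadicA.GolayBase.isCode; rewrite [Cfsg.Agent.LsF.f585271_0.2]; exact rfl⟩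
private noncomputable def _root_.Cfsg.Agent.LsF.f585271_2 : {f // @Cfsg.Agent.SporadicStructure.Co0Matrix.maskL._f = f} := ⟨_, by delta Cfsg.Agent.SporadicStructure.Co0Matrix.maskL._f; rewrite [Cfsg.Agent.LsF.nadd_pat, Cfsg.Agent.LsF.nmul_pat, Cfsg.Agent.LsF.imod_pat, Cfsg.Agent.LsF.toNat_eq]; exact rfl⟩
private noncomputable def _root_.Cfsg.Agent.LsF.f585271_3 : {f // @Cfsg.Agent.SporadicStructure.Co0Matrix.maskL = f} := ⟨_, by delta Cfsg.Agent.SporadicStructure.Co0Matrix.maskL; rewrite [Cfsg.Agent.LsF.f585271_2.2]; exact rfl⟩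
private noncomputable def _root_.Cfsg.Agent.LsF.f585271_4 : {f // @Cfsg.Agent.SporadicStructure.Co0Matrix.leechB = f} := ⟨_, by delta Cfsg.Agent.SporadicStructure.Co0Matrix.leechB; rewrite [Cfsg.Agent.LsF.f585271_1.2, Cfsg.Agent.LsF.f585271_3.2, Cfsg.Agent.LsF.imul_pat, Cfsg.Agent.LsF.isub_pat, Cfsg.Agent.LsF.imod_pat, Cfsg.Agent.LsF.and_eq, Cfsg.Agent.LsF.all_eq, Cfsg.Agent.LsF.map_eq, Cfsg.Agent.LsF.sum_eq, Cfsg.Agent.LsF.headD_eq, Cfsg.Agent.LsF.instIAdd_eq, Cfsg.Agent.LsF.instIDecEq_eq, Cfsg.Agent.LsF.length_eq, Cfsg.Agent.LsF.decide_eq]; exact rfl⟩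
private noncomputable def _root_.Cfsg.Agent.LsF.f585271_5 : {f // @Cfsg.Agent.H843.IMC.Co3D.dec = f} := ⟨_, by delta Cfsg.Agent.H843.IMC.Co3D.dec; rewrite [Cfsg.Agent.LsF.ndiv_pat, Cfsg.Agent.LsF.nmod_pat, Cfsg.Agent.LsF.npow_pat, Cfsg.Agent.LsF.isub_pat]; exact rfl⟩
private noncomputable def _root_.Cfsg.Agent.LsF.f585271_6 : {f // @Cfsg.Agent.H843.IMC.Co3D.L = f} := ⟨_, by delta Cfsg.Agent.H843.IMC.Co3D.L; rewrite [Cfsg.Agent.LsF.f585271_5.2, Cfsg.Agent.LsF.map_eq, Cfsg.Agent.LsF.getD_eq]; exact rfl⟩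
theorem chk_leech : (List.range 240).all (fun i => leechB (L i)) = true := by (rewrite [Cfsg.Agent.LsF.f585271_4.2, Cfsg.Agent.LsF.f585271_6.2, Cfsg.Agent.LsF.all_eq, Cfsg.Agent.LsF.range_eq]; decide +kernel)

private noncomputable def _root_.Cfsg.Agent.LsF.f585271_7 : {f // @Cfsg.Agent.CoOneType.CoEval.eqL._f = f} := ⟨_, by delta Cfsg.Agent.CoOneType.CoEval.eqL._f; rewrite [Cfsg.Agent.LsF.and_eq, Cfsg.Agent.LsF.instIDecEq_eq, Cfsg.Agent.LsF.decide_eq]; exact rfl⟩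
private noncomputable def _root_.Cfsg.Agent.LsF.f585271_8 : {f // @Cfsg.Agent.CoOneType.CoEval.eqL = f} := ⟨_, by delta Cfsg.Agent.CoOneType.CoEval.eqL; rewrite [Cfsg.Agent.LsF.f585271_7.2]; exact rfl⟩
private noncomputable def _root_.Cfsg.Agent.LsF.f585271_9 : {f // @Cfsg.Agent.CoOneType.CoAp.sm = f} := ⟨_, by delta Cfsg.Agent.CoOneType.CoAp.sm; rewrite [Cfsg.Agent.LsF.cond_eq]; exact rfl⟩
private noncomputable def _root_.Cfsg.Agent.LsF.f585271_10 : {f // @Cfsg.Agent.CoOneType.CoAp.sh = f} := ⟨_, by delta Cfsg.Agent.CoOneType.CoAp.sh; rewrite [Cfsg.Agent.LsF.f585271_9.2, Cfsg.Agent.LsF.and_eq, Cfsg.Agent.LsF.length_eq]; exact rfl⟩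
private noncomputable def _root_.Cfsg.Agent.LsF.f585271_11 : {f // @Cfsg.Agent.CoOneType.CoAp.pk = f} := ⟨_, by delta Cfsg.Agent.CoOneType.CoAp.pk; rewrite [Cfsg.Agent.LsF.iadd_pat, Cfsg.Agent.LsF.imul_pat, Cfsg.Agent.LsF.zipWith_eq, Cfsg.Agent.LsF.replicate_eq]; exact rfl⟩
private noncomputable def _root_.Cfsg.Agent.LsF.f585271_12 : {f // @Cfsg.Agent.CoOneType.CoAp.off = f} := ⟨_, by delta Cfsg.Agent.CoOneType.CoAp.off; rewrite [Cfsg.Agent.LsF.nadd_pat, Cfsg.Agent.LsF.nmul_pat]; exact rfl⟩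
private noncomputable def _root_.Cfsg.Agent.LsF.f585271_13 : {f // @Cfsg.Agent.SporadicStructure.Co0Matrix.dotL._f = f} := ⟨_, by delta Cfsg.Agent.SporadicStructure.Co0Matrix.dotL._f; rewrite [Cfsg.Agent.LsF.iadd_pat, Cfsg.Agent.LsF.imul_pat]; exact rfl⟩
private noncomputable def _root_.Cfsg.Agent.LsF.f585271_14 : {f // @Cfsg.Agent.SporadicStructure.Co0Matrix.dotL = f} := ⟨_, by delta Cfsg.Agent.SporadicStructure.Co0Matrix.dotL; rewrite [Cfsg.Agent.LsF.f585271_13.2]; exact rfl⟩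
private noncomputable def _root_.Cfsg.Agent.LsF.f585271_15 : {f // @Cfsg.Agent.CoOneType.CoEval.ap = f} := ⟨_, by delta Cfsg.Agent.CoOneType.CoEval.ap; rewrite [Cfsg.Agent.LsF.f585271_14.2, Cfsg.Agent.LsF.map_eq]; exact rfl⟩
private noncomputable def _root_.Cfsg.Agent.LsF.f585271_16 : {f // @Cfsg.Agent.CoOneType.CoAp.apF = f} := ⟨_, by delta Cfsg.Agent.CoOneType.CoAp.apF; rewrite [Cfsg.Agent.LsF.f585271_10.2, Cfsg.Agent.LsF.f585271_9.2, Cfsg.Agent.LsF.f585271_11.2, Cfsg.Agent.LsF.f585271_12.2, Cfsg.Agent.LsF.f585271_15.2, Cfsg.Agent.LsF.cond_eq, Cfsg.Agent.LsF.toNat_eq]; exact rfl⟩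
theorem chkS : (List.range 240).all (fun i => eqL (ap rS (L i)) (L (pS.getD i 0)) && Nat.blt (pS.getD i 0) 240) = true := by
  (rewrite [Cfsg.Agent.CoOneType.CoAp.ap_F]; (rewrite [Cfsg.Agent.LsF.f585271_8.2, Cfsg.Agent.LsF.f585271_16.2, Cfsg.Agent.LsF.f585271_6.2, Cfsg.Agent.LsF.and_eq, Cfsg.Agent.LsF.all_eq, Cfsg.Agent.LsF.range_eq, Cfsg.Agent.LsF.getD_eq]; decide +kernel))

theorem chkG : (List.range 240).all (fun i => eqL (ap rG (L i)) (L (pG.getD i 0)) && Nat.blt (pG.getD i 0) 240) = true := by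
  (rewrite [Cfsg.Agent.CoOneType.CoAp.ap_F]; (rewrite [Cfsg.Agent.LsF.f585271_8.2, Cfsg.Agent.LsF.f585271_16.2, Cfsg.Agent.LsF.f585271_6.2, Cfsg.Agent.LsF.and_eq, Cfsg.Agent.LsF.all_eq, Cfsg.Agent.LsF.range_eq, Cfsg.Agent.LsF.getD_eq]; decide +kernel))

theorem chkX : (List.range 240).all (fun i => eqL (ap rX (L i)) (L i)) = true := by
  (rewrite [Cfsg.Agent.CoOneType.CoAp.ap_F]; (rewrite [Cfsg.Agent.LsF.f585271_8.2, Cfsg.Agent.LsF.f585271_16.2, Cfsg.Agent.LsF.f585271_6.2, Cfsg.Agent.LsF.all_eq, Cfsg.Agent.LsF.range_eq]; decide +kernel))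

private noncomputable def _root_.Cfsg.Agent.LsF.f585271_17 : {f // @Cfsg.Agent.CoOneType.CoEval.negL = f} := ⟨_, by delta Cfsg.Agent.CoOneType.CoEval.negL; rewrite [Cfsg.Agent.LsF.ineg_pat, Cfsg.Agent.LsF.map_eq]; exact rfl⟩
theorem chkN : (List.range 240).all (fun i => eqL (negL (L i)) (L (pN.getD i 0)) && Nat.blt (pN.getD i 0) 240) = true := by
  (rewrite [Cfsg.Agent.LsF.f585271_8.2, Cfsg.Agent.LsF.f585271_17.2, Cfsg.Agent.LsF.f585271_6.2, Cfsg.Agent.LsF.and_eq, Cfsg.Agent.LsF.all_eq, Cfsg.Agent.LsF.range_eq, Cfsg.Agent.LsF.getD_eq]; decide +kernel)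

/-! ### Injectivity, the tree -/

theorem nodup_Ls : Ls.Nodup := by (refine of_decide_eq_true ?_; rewrite [Cfsg.Agent.LsF.instDecEq_eq, Cfsg.Agent.LsF.dNodup_eq, Cfsg.Agent.LsF.decide_eq]; decide +kernel)

theorem length_Ls : Ls.length = 240 := by decide +kernel

/-- The code of a list. -/
def enc (l : List ℤ) : ℕ :=
  ([0, 2, 3, 4, 5, 6, 7, 8].mapIdx fun c j => (l.getD j 0 + 4).toNat * 16 ^ c).sum

private noncomputable def _root_.Cfsg.Agent.LsF.f585271_18 : {f // @Cfsg.Agent.H843.IMC.Co3D.enc = f} := ⟨_, by delta Cfsg.Agent.H843.IMC.Co3D.enc; rewrite [Cfsg.Agent.LsF.nmul_pat, Cfsg.Agent.LsF.npow_pat, Cfsg.Agent.LsF.iadd_pat, Cfsg.Agent.LsF.sum_eq, Cfsg.Agent.LsF.getD_eq, Cfsg.Agent.LsF.mapIdx_eq, Cfsg.Agent.LsF.toNat_eq]; exact rfl⟩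
theorem chkE : (List.range 240).all (fun i => Nat.beq (enc (L i)) (Ls.getD i 1145324612)) = true := by (rewrite [Cfsg.Agent.LsF.f585271_18.2, Cfsg.Agent.LsF.f585271_6.2, Cfsg.Agent.LsF.all_eq, Cfsg.Agent.LsF.range_eq, Cfsg.Agent.LsF.getD_eq]; decide +kernel)

theorem chkT : (List.range 240).all (fun i => Nat.beq i 0 || (Nat.blt (par.getD i 0) i &&
    (if lt.getD i 0 = 0 then Nat.beq (pS.getD (par.getD i 0) 0) i else Nat.beq (pG.getD (par.getD i 0) 0) i))) = true := by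
  (rewrite [Cfsg.Agent.LsF.and_eq, Cfsg.Agent.LsF.or_eq, Cfsg.Agent.LsF.instDecEq_eq, Cfsg.Agent.LsF.all_eq, Cfsg.Agent.LsF.range_eq, Cfsg.Agent.LsF.getD_eq, Cfsg.Agent.LsF.ite_eq]; decide +kernel)

/-! ### The pairs -/

/-- Indices of a word. -/
def rn (W : List ℕ) (i : ℕ) : ℕ := W.foldr (fun c i => if c = 0 then pS.getD i 0 else pG.getD i 0) i

def wA : List ℕ := [0, 0, 1, 1, 1, 0, 1, 0, 0]

def wB : List ℕ := [0, 0, 1, 0, 1, 0, 1, 1, 0]

/-- Pairs of a word in `wA`, `wB`. -/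
def rq (W : List ℕ) (i : ℕ) : ℕ := W.foldr (fun c i => if c = 0 then qA.getD i 0 else qB.getD i 0) i

theorem chkD : (List.range 240).all (fun i => !(decide (dotL (L i) (L 0) = 24)) ||
    ((List.range 28).any fun q => Nat.beq i (pa.getD q 0) || Nat.beq i (pb.getD q 0))) = true := by
  (rewrite [Cfsg.Agent.CoOneType.CoQ.dotL_F]; (rewrite [Cfsg.Agent.LsF.f585271_6.2, Cfsg.Agent.LsF.or_eq, Cfsg.Agent.LsF.not_eq, Cfsg.Agent.LsF.all_eq, Cfsg.Agent.LsF.any_eq, Cfsg.Agent.LsF.range_eq, Cfsg.Agent.LsF.getD_eq, Cfsg.Agent.LsF.instIDecEq_eq, Cfsg.Agent.LsF.decide_eq]; decide +kernel))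

theorem chkP : (List.range 28).all (fun q => eqL (List.zipWith (· + ·) (L (pa.getD q 0)) (L (pb.getD q 0))) (L 0) &&
    (decide (dotL (L (pa.getD q 0)) (L 0) = 24) && (Nat.blt (pa.getD q 0) 240 && Nat.blt (pb.getD q 0) 240))) = true := by
  (rewrite [Cfsg.Agent.CoOneType.CoQ.dotL_F]; (rewrite [Cfsg.Agent.LsF.f585271_8.2, Cfsg.Agent.LsF.f585271_6.2, Cfsg.Agent.LsF.iadd_pat, Cfsg.Agent.LsF.and_eq, Cfsg.Agent.LsF.all_eq, Cfsg.Agent.LsF.zipWith_eq, Cfsg.Agent.LsF.range_eq, Cfsg.Agent.LsF.getD_eq, Cfsg.Agent.LsF.instIDecEq_eq, Cfsg.Agent.LsF.decide_eq]; decide +kernel))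

theorem chkI : (List.range 28).all (fun q => (List.range 28).all fun r => Nat.beq q r ||
    (!(Nat.beq (pa.getD q 0) (pa.getD r 0)) && !(Nat.beq (pa.getD q 0) (pb.getD r 0)))) = true := by
  decide +kernel

theorem rn_wA : rn wA 0 = 0 := by decide +kernel

theorem rn_wB : rn wB 0 = 0 := by decide +kernel

/-- The check of the action of a word on the pairs. -/
def ckW (W : List ℕ) (Q : List ℕ) : Bool := (List.range 28).all fun q => Nat.blt (Q.getD q 0) 28 &&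
  ((Nat.beq (rn W (pa.getD q 0)) (pa.getD (Q.getD q 0) 0) && Nat.beq (rn W (pb.getD q 0)) (pb.getD (Q.getD q 0) 0)) ||
  (Nat.beq (rn W (pa.getD q 0)) (pb.getD (Q.getD q 0) 0) && Nat.beq (rn W (pb.getD q 0)) (pa.getD (Q.getD q 0) 0)))

private noncomputable def _root_.Cfsg.Agent.LsF.f585271_19 : {f // @Cfsg.Agent.H843.IMC.Co3D.rn = f} := ⟨_, by delta Cfsg.Agent.H843.IMC.Co3D.rn; rewrite [Cfsg.Agent.LsF.instDecEq_eq, Cfsg.Agent.LsF.foldr_eq, Cfsg.Agent.LsF.getD_eq, Cfsg.Agent.LsF.ite_eq]; exact rfl⟩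
private noncomputable def _root_.Cfsg.Agent.LsF.f585271_20 : {f // @Cfsg.Agent.H843.IMC.Co3D.ckW = f} := ⟨_, by delta Cfsg.Agent.H843.IMC.Co3D.ckW; rewrite [Cfsg.Agent.LsF.f585271_19.2, Cfsg.Agent.LsF.and_eq, Cfsg.Agent.LsF.or_eq, Cfsg.Agent.LsF.all_eq, Cfsg.Agent.LsF.range_eq, Cfsg.Agent.LsF.getD_eq]; exact rfl⟩
theorem chkWA : ckW wA qA = true := by (rewrite [Cfsg.Agent.LsF.f585271_20.2]; decide +kernel)

theorem chkWB : ckW wB qB = true := by (rewrite [Cfsg.Agent.LsF.f585271_20.2]; decide +kernel)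

private noncomputable def _root_.Cfsg.Agent.LsF.f585271_21 : {f // @Cfsg.Agent.H843.IMC.Co3D.rq = f} := ⟨_, by delta Cfsg.Agent.H843.IMC.Co3D.rq; rewrite [Cfsg.Agent.LsF.instDecEq_eq, Cfsg.Agent.LsF.foldr_eq, Cfsg.Agent.LsF.getD_eq, Cfsg.Agent.LsF.ite_eq]; exact rfl⟩
theorem chkUV : (List.range 28).all (fun i => Nat.beq (rq (tU.getD i []) i) 0 && (List.range 28).all fun j => Nat.beq i j ||
    (Nat.beq (rq (tV.getD (rq (tU.getD i []) j) []) (rq (tU.getD i []) j)) 1 &&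
      Nat.beq (rq (tV.getD (rq (tU.getD i []) j) []) 0) 0)) = true := by
  (rewrite [Cfsg.Agent.LsF.f585271_21.2, Cfsg.Agent.LsF.and_eq, Cfsg.Agent.LsF.or_eq, Cfsg.Agent.LsF.all_eq, Cfsg.Agent.LsF.range_eq, Cfsg.Agent.LsF.getD_eq]; decide +kernel)

end Cfsg.Agent.H843.IMC.Co3D

private theorem dce_1065e7f5d47a : _root_.True := by
  try have : _root_.True := by simp only [_root_.Cfsg.Agent.H843.IMC.Co3D.L.eq_1]
  exact _root_.True.intro
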